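import Cfsg.Agent.H73.BdDefs

/-! Project BD, piece LAT, by compactness. -/

set_option autoImplicit false

namespace Cfsg.Agent.H18.BdLat

open Filter Topology Cfsg.Agent.H73.Bd

universe u

variable {E : Type} [NormedAddCommGroup E] [NormedSpace ℝ E] [FiniteDimensional ℝ E]

theorem small (φ : E →L[ℝ] ℝ) (C : ℝ) (H : AddSubgroup E) (h : ∀ x ∈ H, φ x ≤ C * ‖x‖ ^ 2) :
    ∃ ε > 0, ∀ x ∈ H, ‖x‖ < ε → φ x = 0 := by
  classical
  let S : ℕ → Set E := fun j => {x | x ∈ H ∧ ‖x‖ < 1 / ((j : ℝ) + 1)}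
  let V : ℕ →o (Submodule ℝ E)ᵒᵈ := ⟨fun j => OrderDual.toDual (Submodule.span ℝ (S j)),
    fun a b hab => Submodule.span_mono fun x hx => ⟨hx.1, hx.2.trans_le (Nat.one_div_le_one_div hab)⟩⟩
  obtain ⟨j0, hj⟩ := IsArtinian.monotone_stabilizes V
  have cl : ∀ v ∈ Submodule.span ℝ (S j0), v ∈ closure (H : Set E) := fun v hv => by
    refine Metric.mem_closure_iff.2 fun δ hδ => ?_
    obtain ⟨j, hj1⟩ := exists_nat_one_div_lt (K := ℝ)
      (div_pos hδ (show (0 : ℝ) < Module.finrank ℝ E + 1 by positivity))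
    have e : Submodule.span ℝ (S j0) = Submodule.span ℝ (S (max j j0)) := hj _ (le_max_right _ _)
    rw [e] at hv
    obtain ⟨c, c1, c2, c3⟩ := Submodule.mem_span_set_iff_exists_finsupp_le_finrank.1 hv
    refine ⟨∑ a ∈ c.support, ⌊c a⌋ • a, H.sum_mem fun a ha => H.zsmul_mem (c2 ha).1 _, ?_⟩
    have b : ∀ a ∈ c.support, ‖c a • a - ⌊c a⌋ • a‖ ≤ δ / (Module.finrank ℝ E + 1) := fun a ha => by
      rw [← Int.cast_smul_eq_zsmul ℝ, ← sub_smul, norm_smul, Real.norm_eq_abs, Int.self_sub_floor,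
        Int.abs_fract]
      have h1 := (c2 ha).2.trans_le (Nat.one_div_le_one_div (le_max_left j j0))
      have h2 := Int.fract_lt_one (c a)
      have h3 := Int.fract_nonneg (c a)
      have h4 := norm_nonneg a
      nlinarith
    rw [dist_eq_norm, ← c3, Finsupp.sum, ← Finset.sum_sub_distrib]
    refine (norm_sum_le_of_le _ b).trans_lt ?_
    rw [Finset.sum_const, nsmul_eq_mul, mul_div_assoc', div_lt_iff₀ (by positivity)]
    have h5 : (c.support.card : ℝ) ≤ Module.finrank ℝ E :=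
      Nat.cast_le.2 (c1.trans (Submodule.finrank_le _))
    nlinarith
  have iq : ∀ v ∈ Submodule.span ℝ (S j0), φ v ≤ C * ‖v‖ ^ 2 := fun v hv =>
    closure_minimal (t := {x | φ x ≤ C * ‖x‖ ^ 2}) h (isClosed_le (by fun_prop) (by fun_prop))
      (cl v hv)
  have np : ∀ v ∈ Submodule.span ℝ (S j0), φ v ≤ 0 := fun v hv => by
    by_contra hp
    push Not at hp
    have h0 : 0 < C * ‖v‖ ^ 2 := hp.trans_le (iq v hv)
    have h1 := iq _ (Submodule.smul_mem _ (φ v / (2 * (C * ‖v‖ ^ 2))) hv)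
    rw [map_smul, norm_smul, mul_pow, Real.norm_eq_abs, sq_abs, smul_eq_mul, mul_left_comm C (_ ^ 2)] at h1
    generalize C * ‖v‖ ^ 2 = A at h0 h1
    have h2 : (φ v / (2 * A)) ^ 2 * A = φ v / (2 * A) * φ v / 2 := by field_simp
    have h3 : 0 < φ v / (2 * A) * φ v := by positivity
    linarith
  refine ⟨1 / ((j0 : ℝ) + 1), by positivity, fun x hx hn => ?_⟩
  have m : x ∈ Submodule.span ℝ (S j0) := Submodule.subset_span ⟨hx, hn⟩
  have := np _ (Submodule.neg_mem _ m)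
  rw [map_neg] at this
  linarith [np x m]

theorem lim (φ : E →L[ℝ] ℝ) (C : ℝ) (H : ℕ → AddSubgroup E)
    (h : ∀ m, ∀ x ∈ H m, φ x ≤ C * ‖x‖ ^ 2)
    (o : ∀ m : ℕ, ∀ t : ℝ, 0 ≤ t → t < 1 →
      ∃ x ∈ H m, ‖x‖ ≤ 1 ∧ |φ x - t| ≤ 1 / ((m : ℝ) + 1)) : False := by
  have := FiniteDimensional.proper_real E
  let U := hyperfilter ℕ
  let L : AddSubgroup E :=
    { carrier := {x | ∃ s : ℕ → E, (∀ m, s m ∈ H m) ∧ Tendsto s U (𝓝 x)}
      zero_mem' := ⟨fun _ => 0, fun m => (H m).zero_mem, tendsto_const_nhds⟩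
      add_mem' := fun ⟨s, s1, s2⟩ ⟨t, t1, t2⟩ =>
        ⟨fun m => s m + t m, fun m => (H m).add_mem (s1 m) (t1 m), s2.add t2⟩
      neg_mem' := fun ⟨s, s1, s2⟩ => ⟨fun m => -s m, fun m => (H m).neg_mem (s1 m), s2.neg⟩ }
  obtain ⟨ε, hε, hL⟩ := small φ C L fun x ⟨s, s1, s2⟩ =>
    le_of_tendsto_of_tendsto' ((φ.continuous.tendsto x).comp s2) ((s2.norm.pow 2).const_mul C)
      fun m => h m _ (s1 m)
  have on : ∀ t : ℝ, 0 ≤ t → t < 1 → ∃ x ∈ L, x ∈ Metric.closedBall (0 : E) 1 ∧ φ x = t :=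
    fun t t0 t1 => by
    choose s s1 s2 s3 using fun m => o m t t0 t1
    obtain ⟨x, x1, x2⟩ := (isCompact_closedBall (0 : E) 1).ultrafilter_le_nhds (U.map s)
      (by rw [le_principal_iff, Ultrafilter.coe_map, mem_map]
          exact Eventually.of_forall fun m => mem_closedBall_zero_iff.2 (s2 m))
    refine ⟨x, ⟨s, s1, x2⟩, x1, tendsto_nhds_unique (l := (U : Filter ℕ))
      ((φ.continuous.tendsto x).comp x2) ?_⟩
    refine Tendsto.mono_left ?_ (Nat.hyperfilter_le_atTop)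
    rw [tendsto_iff_norm_sub_tendsto_zero]
    exact squeeze_zero (fun _ => norm_nonneg _) s3 tendsto_one_div_add_atTop_nhds_zero_nat
  choose x x1 x2 x3 using fun n : ℕ => on (1 / ((n : ℝ) + 2)) (by positivity)
    (by rw [div_lt_one (by positivity)]; linarith [(Nat.cast_nonneg n : (0 : ℝ) ≤ n)])
  obtain ⟨a, -, f, f1, f2⟩ := (isCompact_closedBall (0 : E) 1).tendsto_subseq x2
  obtain ⟨N, hN⟩ := Metric.cauchySeq_iff.1 f2.cauchySeq ε hε
  have h1 := hL _ (L.sub_mem (x1 (f (N + 1))) (x1 (f N)))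
    (by rw [← dist_eq_norm]; exact hN _ (Nat.le_succ _) _ le_rfl)
  rw [map_sub, x3, x3, sub_eq_zero, one_div, one_div, inv_inj, add_left_inj, Nat.cast_inj] at h1
  exact (f1 (Nat.lt_succ_self N)).ne' h1

theorem lat : LatStmt.{u} := by
  intro k
  by_contra hc
  push Not at hc
  choose ι fi hk i0 d q q0 d0 hq hl using hc
  classical
  have he : ∀ m, Nonempty (ι m ↪ Fin k) := fun m =>
    Function.Embedding.nonempty_of_card_le (by simpa using hk m)
  let e : ∀ m, ι m ↪ Fin k := fun m => (he m).some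
  let F : ∀ m, (ι m → ℤ) →+ ℝ × (Fin k → ℝ) := fun m =>
    { toFun := fun n => ((n (i0 m) : ℝ) / q m,
        fun j => if h : ∃ i, e m i = j then (n h.choose : ℝ) / q m else 0)
      map_zero' := by ext <;> simp
      map_add' := fun a b => by
        ext j
        · simp [add_div]
        · by_cases h : ∃ i, e m i = j <;> simp [h, add_div] }
  have Fe : ∀ m n i, (F m n).2 (e m i) = (n i : ℝ) / q m := fun m n i => by
    have h : ∃ i', e m i' = e m i := ⟨i, rfl⟩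
    show (if h : ∃ i', e m i' = e m i then (n h.choose : ℝ) / q m else 0) = _
    rw [dif_pos h, (e m).injective h.choose_spec]
  let Λ : ∀ m, AddSubgroup (ι m → ℤ) := fun m =>
    { carrier := {n | ∃ u : ℤ, ∀ i, (q m : ℤ) ∣ n i - u * d m i}
      zero_mem' := ⟨0, by simp⟩
      add_mem' := fun {a b} ⟨s, hs⟩ ⟨t, ht⟩ => ⟨s + t, fun i => by
        have := dvd_add (hs i) (ht i)
        rwa [show a i - s * d m i + (b i - t * d m i) = (a + b) i - (s + t) * d m i by
          simp only [Pi.add_apply]; ring] at this⟩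
      neg_mem' := fun {a} ⟨s, hs⟩ => ⟨-s, fun i => by
        have := (hs i).neg_right
        rwa [show -(a i - s * d m i) = (-a) i - (-s) * d m i by
          simp only [Pi.neg_apply]; ring] at this⟩ }
  refine lim (ContinuousLinearMap.fst ℝ ℝ (Fin k → ℝ)) k (fun m => (Λ m).map (F m)) ?_ ?_
  · rintro m _ ⟨n, ⟨u, hu⟩, rfl⟩
    have qp : (0 : ℝ) < q m := Nat.cast_pos.2 (q0 m)
    have h1 : (q m : ℝ) * n (i0 m) ≤ ∑ i, (n i : ℝ) ^ 2 := by exact_mod_cast hq m u n hu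
    have h2 : ∀ i, (n i : ℝ) ^ 2 ≤ (q m) ^ 2 * ‖F m n‖ ^ 2 := fun i => by
      have h3 : ‖(F m n).2 (e m i)‖ ≤ ‖F m n‖ := (norm_le_pi_norm _ _).trans (norm_snd_le _)
      rw [Fe, Real.norm_eq_abs, abs_div, abs_of_pos qp, div_le_iff₀ qp] at h3
      rw [← sq_abs, ← mul_pow, mul_comm]
      exact pow_le_pow_left₀ (abs_nonneg _) h3 2
    have h4 := h1.trans (Finset.sum_le_sum fun i _ => h2 i)
    rw [Finset.sum_const, Finset.card_univ, nsmul_eq_mul] at h4
    have h5 : (Fintype.card (ι m) : ℝ) ≤ k := Nat.cast_le.2 (hk m)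
    have h6 := h4.trans (mul_le_mul_of_nonneg_right h5 (by positivity))
    show (n (i0 m) : ℝ) / q m ≤ _
    rw [div_le_iff₀ qp]
    refine le_of_mul_le_mul_left (h6.trans_eq (by ring)) qp
  · intro m t t0 t1
    have qp : (0 : ℝ) < q m := Nat.cast_pos.2 (q0 m)
    have qz : (0 : ℤ) < q m := Nat.cast_pos.2 (q0 m)
    let n : ι m → ℤ := fun i => (⌊t * q m⌋ * d m i) % q m
    have nb : ∀ i, ‖(n i : ℝ) / q m‖ ≤ 1 := fun i => by
      have a : (0 : ℝ) ≤ n i := by exact_mod_cast Int.emod_nonneg _ qz.ne'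
      have b : (n i : ℝ) ≤ q m := by exact_mod_cast (Int.emod_lt_of_pos _ qz).le
      rw [Real.norm_eq_abs, abs_of_nonneg (by positivity), div_le_one qp]
      exact b
    refine ⟨F m n, ⟨n, ⟨⌊t * q m⌋, fun i => Int.dvd_emod_sub_self⟩, rfl⟩, ?_, ?_⟩
    · refine norm_prod_le_iff.2 ⟨nb _, (pi_norm_le_iff_of_nonneg zero_le_one).2 fun j => ?_⟩
      by_cases h : ∃ i, e m i = j
      · obtain ⟨i, rfl⟩ := h
        rw [Fe]; exact nb i
      · show ‖(if h : ∃ i, e m i = j then (n h.choose : ℝ) / q m else 0)‖ ≤ 1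
        rw [dif_neg h]; simp
    · have e1 : n (i0 m) = ⌊t * q m⌋ := by
        show (⌊t * q m⌋ * d m (i0 m)) % q m = _
        rw [d0, mul_one]
        refine Int.emod_eq_of_lt (Int.floor_nonneg.2 (by positivity)) (Int.floor_lt.2 ?_)
        push_cast
        nlinarith
      show |(n (i0 m) : ℝ) / q m - t| ≤ _
      have a := Int.floor_le (t * q m)
      have b := Int.lt_floor_add_one (t * q m)
      have c : (m : ℝ) + 1 ≤ q m := by exact_mod_cast hl m
      rw [e1, show (⌊t * q m⌋ : ℝ) / q m - t = (⌊t * q m⌋ - t * q m) / q m by field_simp, abs_div,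
        abs_of_pos qp]
      exact div_le_div₀ zero_le_one (abs_le.2 ⟨by linarith, by linarith⟩) (by positivity) c

end Cfsg.Agent.H18.BdLat
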