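import Cfsg.Agent.H18.AbSyl
import Cfsg.Agent.H19.GaloisBlock
import Cfsg.Agent.H20.Exceptional
import Cfsg.Agent.H21.TildeInt
import Cfsg.Agent.S0938
import Cfsg.Agent.S4888

/-!
# Principal blocks on which `χ(1) - χ(u)` is constant: the character theory
-/

set_option autoImplicit false
set_option linter.unusedSectionVars false

namespace Cfsg.Agent.H18

open Cfsg Cfsg.Agent.H19
open Cfsg.Agent.H17 (Cg mem_Cg)

universe u

variable {G : Type u} [Group G] [Finite G] {M : Ideal AlgInt} {p : ℕ}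

/-- The non-principal characters of the principal block. -/
noncomputable def TB (M : Ideal AlgInt) (G : Type u) [Group G] [Finite G] :
    Finset (IrrCharacter G) := (Set.toFinite (principalBlock M G \ {H21.triv G})).toFinset

theorem mem_TB {χ : IrrCharacter G} :
    χ ∈ TB M G ↔ χ ∈ principalBlock M G ∧ χ.1 ≠ fun _ => 1 := by
  rw [TB, Set.Finite.mem_toFinset]
  exact and_congr_right fun _ => not_congr ⟨fun h => congrArg Subtype.val h, fun h => Subtype.ext h⟩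

theorem finsum_principal {A : Type*} [AddCommMonoid A] (hM : M.IsMaximal)
    (f : IrrCharacter G → A) :
    ∑ᶠ χ ∈ principalBlock M G, f χ = f (H21.triv G) + ∑ χ ∈ TB M G, f χ := by
  rw [← finsum_mem_coe_finset, TB, Set.Finite.coe_toFinset,
    ← finsum_mem_insert f (by simp) (Set.toFinite _), Set.insert_sdiff_singleton,
    Set.insert_eq_of_mem (H21.triv_mem_principal hM)]

theorem card_TB (hM : M.IsMaximal) : (TB M G).card + 1 = Nat.card (principalBlock M G) := by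
  rw [Nat.card_coe_set_eq, ← Set.ncard_coe_finset, TB, Set.Finite.coe_toFinset,
    Set.ncard_sdiff_singleton_add_one (H21.triv_mem_principal hM)]

theorem wo (hM : IsPModular p M) {x y : G} (hx : ¬ p ∣ orderOf x) (hy : p ∣ orderOf y) :
    1 + ∑ χ ∈ TB M G, χ.1 x * χ.1 y = 0 := by
  have h := H20.weak_block_orth hM (H17.lamClosed_of_isPBlock hM.2.1 H17.isPBlock_principalBlock)
    hx (y := y⁻¹) (by rwa [orderOf_inv])
  simpa [finsum_principal hM.2.1, H21.triv_apply] using h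

theorem wo_one (hM : IsPModular p M) {y : G} (hy : p ∣ orderOf y) :
    1 + ∑ χ ∈ TB M G, χ.1 1 * χ.1 y = 0 :=
  wo hM (by rw [orderOf_one, Nat.dvd_one]; exact hM.1.ne_one) hy

theorem mem_core_of_ker [Fact p.Prime] (hM : IsPModular p M) {u : G}
    (h : ∀ χ ∈ TB M G, χ.1 1 = χ.1 u) : u ∈ pPrimeCore p G := by
  obtain ⟨K, hK, e, h1, -⟩ := S0938.result (G := G) p M hM _ H17.isPBlock_principalBlock _
    (H21.triv_mem_principal hM.2.1)
  refine H3.le_pPrimeCore ((Nat.Prime.coprime_iff_not_dvd hM.1).2 h1).symm ?_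
  rw [← SetLike.mem_coe, e]
  intro χ hχ
  by_cases h2 : χ.1 = fun _ => 1
  · rw [h2]
  · exact (h χ (mem_TB.2 ⟨hχ, h2⟩)).symm

/-- All non-trivial `2`-elements are conjugate to the `2`-part of `u`. -/
theorem isConj_of_const (hM : IsPModular 2 M) {u t x : G} {c : ℂ}
    (h : ∀ χ ∈ TB M G, χ.1 1 - χ.1 u = c) (hc : c ≠ 0) (ht : IsPPart 2 u t)
    (hx : ∃ k, orderOf x = 2 ^ k) (h1 : x ≠ 1) : IsConj t x := by
  by_contra hn
  have h2 := H20.block_orth hM (H17.lamClosed_of_isPBlock hM.2.1 H17.isPBlock_principalBlock) ht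
    (H20.pPart_self hM.1 hx) hn
  have h3 := wo_one hM (y := x⁻¹) (by
    rw [orderOf_inv]; exact H20.dvd_orderOf_of_pPart_ne_one hM.1 (H20.pPart_self hM.1 hx) h1)
  rw [finsum_principal hM.2.1, H21.triv_apply, H21.triv_apply, one_mul] at h2
  have h4 : c * ∑ χ ∈ TB M G, χ.1 x⁻¹ = 0 := by
    rw [Finset.mul_sum, Finset.sum_congr rfl fun χ hχ => by rw [← h χ hχ, sub_mul],
      Finset.sum_sub_distrib]
    linear_combination h3 - h2
  have h5 : ∑ χ ∈ TB M G, (χ.1 1 - 1) * χ.1 x⁻¹ = -1 := by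
    simp only [sub_mul, one_mul, Finset.sum_sub_distrib]
    linear_combination h3 - (mul_eq_zero.1 h4).resolve_left hc
  have h6 : val M (∑ χ ∈ TB M G, (χ.1 1 - 1) * χ.1 x⁻¹) < 1 := val_sum_lt_one fun χ _ => by
    obtain ⟨k, hk⟩ := hx
    have h7 := H19.red_char_p_elem hM (H11.irr_isCharacter χ) (x := x⁻¹) (k := k)
      (by rw [inv_pow, ← hk, pow_orderOf_eq_one, inv_one])
    rw [red_eq_iff (H21.irr_mem_Vr χ _) (H21.irr_mem_Vr χ _)] at h7
    have h8 : (χ.1 1 - 1) * χ.1 x⁻¹ = (χ.1 1 - 1) * (χ.1 x⁻¹ - χ.1 1) +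
        (((charDegree χ.1 : ℤ) * (charDegree χ.1 - 1) : ℤ) : ℂ) := by
      push_cast
      rw [H21.cast_deg]; ring
    rw [h8]
    exact val_add_lt_one (val_mul_lt_one_right (sub_mem (H21.irr_mem_Vr χ _) (one_mem _)) h7)
      ((val_intCast_lt_one_iff hM _).2 (Int.even_mul_pred_self _).two_dvd)
  rw [h5] at h6
  simp at h6

theorem exists_int_mul_eq [Fact p.Prime] (hM : IsPModular p M) {u : G} {c : ℂ}
    (h : ∀ χ ∈ TB M G, χ.1 1 - χ.1 u = c) (hu : p ∣ orderOf u) :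
    ∃ n : ℤ, c * n = (p : ℂ) ^ (Nat.card G).factorization p := by
  classical
  have := Fintype.ofFinite G
  choose n hn using fun χ : IrrCharacter G => H21.exists_int_ti_irr (p := p) χ (H21.triv G)
  refine ⟨∑ χ ∈ TB M G, n χ, ?_⟩
  have h1 : ∀ g, c * ∑ χ ∈ TB M G, pRegularPart p χ.1 g = 1 + ∑ χ ∈ TB M G, χ.1 1 * χ.1 g := by
    intro g
    by_cases hg : p ∣ orderOf g
    · simp [H21.preg_of_sing _ hg, wo_one hM hg]
    · have h2 := wo hM hg hu
      simp only [H21.preg_of_reg _ hg]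
      rw [Finset.mul_sum, Finset.sum_congr rfl fun χ hχ => by rw [← h χ hχ, sub_mul],
        Finset.sum_sub_distrib]
      rw [Finset.sum_congr rfl fun χ _ => mul_comm _ _] at h2
      linear_combination -h2
  have h2 : ∀ χ ∈ TB M G, ∑ g, χ.1 g = 0 := fun χ hχ => by
    have h3 : classInner χ.1 (fun _ => 1) = 0 := by
      by_contra h3
      exact (mem_TB.1 hχ).2 (H11.irr_eq_of_classInner_ne_zero χ.2 H11.isIrrCharacter_one h3)
    simpa [classInner] using h3
  have h3 : c * ∑ χ ∈ TB M G, ∑ g, pRegularPart p χ.1 g = Nat.card G := by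
    rw [Finset.sum_comm, Finset.mul_sum, Finset.sum_congr rfl fun g _ => h1 g,
      Finset.sum_add_distrib, Finset.sum_comm, Finset.sum_eq_zero (s := TB M G) fun χ hχ => by
        rw [← Finset.mul_sum, h2 χ hχ, mul_zero]]
    simp
  push_cast
  simp only [← hn, H21.ti_def, classInner, H21.triv_apply, map_one, mul_one, ← Finset.mul_sum]
  have h4 := H11.card_ne_zero G
  field_simp
  exact h3

theorem re_sub_nonneg (χ : IrrCharacter G) (g : G) : 0 ≤ (χ.1 1 - χ.1 g).re := by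
  have := (Complex.re_le_norm _).trans (H11.norm_apply_le (H11.irr_isCharacter χ) g)
  simpa using this

/-- If `χ(1) - χ(t)` is a positive multiple of `q = |G|_p`, then it equals `q = χ(1) - χ(u)`. -/
theorem sub_eq_of_const [Fact p.Prime] (hM : IsPModular p M) {u t : G} {c : ℂ} {q : ℕ}
    (h : ∀ χ ∈ TB M G, χ.1 1 - χ.1 u = c) (hu : p ∣ orderOf u) (ht : p ∣ orderOf t)
    (hq : q = p ^ (Nat.card G).factorization p)
    (hn : ∀ χ ∈ TB M G, ∃ n : ℕ, n ≠ 0 ∧ χ.1 1 - χ.1 t = q * n) :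
    ∀ χ ∈ TB M G, χ.1 1 - χ.1 t = q := by
  intro χ hχ
  obtain ⟨z, hz⟩ := exists_int_mul_eq hM h hu
  have hq0 : 0 < q := hq ▸ pow_pos hM.1.pos _
  rw [← Nat.cast_pow, ← hq] at hz
  have h1 : (c.re * z : ℝ) = q := by simpa using congrArg Complex.re hz
  have h2 : 0 ≤ c.re := h χ hχ ▸ re_sub_nonneg χ u
  have hq1 : (0 : ℝ) < q := by exact_mod_cast hq0
  have h3 : (1 : ℝ) ≤ z := by
    have : (0 : ℝ) < z := by
      by_contra! h3
      nlinarith [mul_nonneg h2 (neg_nonneg.2 h3)]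
    exact_mod_cast (show (1 : ℤ) ≤ z from by exact_mod_cast this)
  have h4 : c.re ≤ q := by nlinarith
  choose! n hn0 hn using hn
  have h5 : ∑ ψ ∈ TB M G, ψ.1 1 * (q * n ψ - c) = 0 := by
    rw [Finset.sum_congr rfl fun ψ hψ => by
      rw [← hn ψ hψ, ← h ψ hψ, sub_sub_sub_cancel_left, mul_sub], Finset.sum_sub_distrib]
    linear_combination wo_one hM hu - wo_one hM ht
  have h6 : ∑ ψ ∈ TB M G, (charDegree ψ.1 : ℝ) * (q * n ψ - c.re) = 0 := by
    simpa [← H21.cast_deg] using congrArg Complex.re h5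
  have h7 : ∀ ψ ∈ TB M G, (q : ℝ) ≤ q * n ψ := fun ψ hψ =>
    le_mul_of_one_le_right hq1.le (by exact_mod_cast Nat.one_le_iff_ne_zero.2 (hn0 ψ hψ))
  rw [Finset.sum_eq_zero_iff_of_nonneg fun ψ hψ =>
    mul_nonneg (Nat.cast_nonneg _) (by linarith [h7 ψ hψ])] at h6
  have h8 : (charDegree χ.1 : ℝ) ≠ 0 := fun e => H11.irr_apply_one_ne_zero χ.2 (by
    rw [← H21.cast_deg]; exact_mod_cast e)
  have h9 : (q : ℝ) * n χ = q := by
    have := (mul_eq_zero.1 (h6 χ hχ)).resolve_left h8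
    linarith [h7 χ hχ]
  rw [hn χ hχ]
  exact_mod_cast h9

/-- A non-trivial linear character of odd order does not lie in the principal block. -/
theorem lin_eq_one_of_const (hM : IsPModular 2 M) {u : G} {c : ℂ}
    (h : ∀ χ ∈ TB M G, χ.1 1 - χ.1 u = c) (hc : c ≠ 0) (hu : 2 ∣ orderOf u) (l : G →* ℂˣ)
    (hl : (⟨_, H11.isIrrCharacter_monoidHom l⟩ : IrrCharacter G) ∈ principalBlock M G) {m : ℕ}
    (hm : Odd m) (h1 : l u ^ m = 1) : l = 1 := by
  by_contra hn
  have h2 : 1 - (l u : ℂ) = c := by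
    simpa using h _ (mem_TB.2 ⟨hl, fun e => hn (MonoidHom.ext fun g => Units.ext (congrFun e g))⟩)
  obtain ⟨z, hz⟩ := exists_int_mul_eq hM h hu
  have h3 : z ≠ 0 := by
    rintro rfl
    exact pow_ne_zero _ (by norm_num) (hz.symm.trans (by simp))
  have h4 : c.im = 0 := by
    rw [← Nat.cast_pow] at hz
    have h4 := congrArg Complex.im hz
    rw [Complex.natCast_im] at h4
    simpa [h3] using h4
  have h5 : ((l u : ℂ).re : ℂ) = l u := Complex.ext rfl (by simpa [← h2, eq_comm] using h4)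
  have h6 : (l u : ℂ).re ^ m = 1 := by
    have : ((l u : ℂ).re : ℂ) ^ m = 1 := by rw [h5, ← Units.val_pow_eq_pow_val, h1, Units.val_one]
    exact_mod_cast this
  rw [← one_pow m, hm.pow_inj] at h6
  exact hc (by rw [← h2, ← h5, h6]; simp)

/-- If the principal `2`-block has dimension at most `8`, the group is `2`-nilpotent. -/
theorem npc_of_sum_le (hM : IsPModular 2 M)
    (h : ∑ᶠ χ ∈ principalBlock M G, (charDegree χ.1 : ℚ) ^ 2 ≤ 8) : HasNormalPComplement 2 G := by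
  refine (S4888.result 2 M hM).1 ⟨1, fun χ hχ h1 => ?_⟩
  rw [H21.height_principal_eq_zero_iff hM] at h1
  by_cases h2 : χ.1 = fun _ => 1
  · simp [h2, charDegree]
  rw [finsum_principal hM.2.1] at h
  have h3 := Finset.single_le_sum (f := fun χ : IrrCharacter G => (charDegree χ.1 : ℚ) ^ 2)
    (fun _ _ => sq_nonneg _) (mem_TB.2 ⟨hχ, h2⟩)
  have h4 : (charDegree χ.1 : ℚ) ^ 2 ≤ 8 := by linarith [sq_nonneg (charDegree (H21.triv G).1 : ℚ)]
  have h5 : charDegree χ.1 ^ 2 ≤ 8 := by exact_mod_cast h4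
  have h6 : charDegree χ.1 < 3 := by nlinarith
  omega

theorem sum_sq_le {ι : Type*} (s : Finset ι) (b : ι → ℕ) (hs : s.card ≤ 7)
    (h : 1 + ∑ i ∈ s, ((b i : ℤ) + 7) * (b i - 1) = 0) : 1 + ∑ i ∈ s, ((b i : ℤ) - 1) ^ 2 ≤ 8 := by
  have h1 : ∑ i ∈ s, (b i : ℤ) ^ 2 ≤ (∑ i ∈ s, (b i : ℤ)) ^ 2 :=
    Finset.sum_sq_le_sq_sum_of_nonneg fun i _ => Int.natCast_nonneg _
  have h2 : 2 ∣ ∑ i ∈ s, (b i : ℤ) * (b i - 1) :=
    Finset.dvd_sum fun i _ => (Int.even_mul_pred_self _).two_dvd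
  have h3 : 0 ≤ ∑ i ∈ s, (b i : ℤ) := Finset.sum_nonneg fun i _ => Int.natCast_nonneg _
  have e1 : ∑ i ∈ s, ((b i : ℤ) + 7) * (b i - 1) =
      ∑ i ∈ s, (b i : ℤ) ^ 2 + 6 * ∑ i ∈ s, (b i : ℤ) - 7 * s.card := by
    rw [Finset.mul_sum, Finset.card_eq_sum_ones, Nat.cast_sum, Finset.mul_sum,
      ← Finset.sum_add_distrib, ← Finset.sum_sub_distrib]
    exact Finset.sum_congr rfl fun i _ => by push_cast; ring
  have e2 : ∑ i ∈ s, ((b i : ℤ) - 1) ^ 2 =
      ∑ i ∈ s, (b i : ℤ) ^ 2 - 2 * ∑ i ∈ s, (b i : ℤ) + s.card := by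
    rw [Finset.mul_sum, Finset.card_eq_sum_ones, Nat.cast_sum, ← Finset.sum_sub_distrib,
      ← Finset.sum_add_distrib]
    exact Finset.sum_congr rfl fun i _ => by push_cast; ring
  have e3 : ∑ i ∈ s, (b i : ℤ) * (b i - 1) = ∑ i ∈ s, (b i : ℤ) ^ 2 - ∑ i ∈ s, (b i : ℤ) := by
    rw [← Finset.sum_sub_distrib]
    exact Finset.sum_congr rfl fun i _ => by ring
  rw [e1] at h
  rw [e3] at h2
  rw [e2]
  generalize ∑ i ∈ s, (b i : ℤ) ^ 2 = x at *
  generalize ∑ i ∈ s, (b i : ℤ) = y at *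
  by_contra h4
  have h5 : y ≤ 4 := by omega
  have h6 : x ≤ 16 := by nlinarith
  omega

end Cfsg.Agent.H18
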