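import Cfsg.Agent.H76.K4Defs

/-! Project K4, piece DATA. -/

set_option autoImplicit false

namespace Cfsg.Agent.H18.K4Data

open Cfsg Cfsg.Agent.H17 Cfsg.Agent.H23.SecT Cfsg.Agent.H23.KL Cfsg.Agent.H76.K4
open scoped Classical ComplexConjugate

universe u

theorem data (set : SetStmt.{u}) : DataStmt.{u} := by
  intro G _ _ p _ M hM hk hl P
  let _ := Fintype.ofFinite G
  have := H13.finite_irrCharacter (G := G)
  let _ := Fintype.ofFinite (IrrCharacter G)
  have hB : IsPBlock M (principalBlock M G) := H17.isPBlock_principalBlock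
  have hD := H17.dg_principal hM P
  have h2 := H17.dg_card hM hB hD
  have hd : blockDefect p (principalBlock M G) ≠ 0 := fun h0 => by
    have := H21.card_eq_one_of_defect_zero hM hB h0
    omega
  have hP : (P : Subgroup G) ≠ ⊥ := fun e => by
    rw [e, Subgroup.card_bot] at h2
    exact hd ((Nat.pow_eq_one.mp h2.symm).resolve_left (Fact.out : p.Prime).one_lt.ne')
  obtain ⟨u, a, m, ha, h1, h3, h4, h5, h6⟩ := set G p M hM (by omega) P hP
  have htr : H21.triv G ∈ fB (principalBlock M G) := mem_fB.mpr (H21.triv_mem_principal hM.2.1)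
  have hc : (fB (principalBlock M G)).card = 4 := by
    rw [← hk, Nat.card_eq_fintype_card, Fintype.card_subtype]
  have hc2 : ((fB (principalBlock M G)).erase (H21.triv G)).card = 3 := by
    rw [Finset.card_erase_of_mem htr, hc]
  have a1 : a (H21.triv G) = 1 := by
    have := ha (H21.triv G)
    rw [H21.triv_apply] at this
    exact_mod_cast this.symm
  have hsum : ∀ χ ψ ω, χ ≠ ψ → χ ≠ ω → ψ ≠ ω →
      (fB (principalBlock M G)).erase (H21.triv G) = {χ, ψ, ω} →
      ∀ {R : Type} [AddCommMonoid R] (f : IrrCharacter G → R),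
      ∑ ξ ∈ fB (principalBlock M G), f ξ = f (H21.triv G) + (f χ + (f ψ + f ω)) := by
    intro χ ψ ω n1 n2 n3 he R _ f
    rw [← Finset.add_sum_erase _ _ htr, he, Finset.sum_insert (by simp [n1, n2]), Finset.sum_pair n3]
  let c : IrrCharacter G → IrrCharacter G := H19.galIrr starRingAut
  have cv : ∀ χ g, (c χ).1 g = conj (χ.1 g) := fun _ _ => rfl
  have cc : ∀ χ, c (c χ) = χ := fun χ => Subtype.ext (funext fun g => by
    rw [cv, cv, Complex.conj_conj])
  have cm : ∀ χ ∈ (fB (principalBlock M G)).erase (H21.triv G),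
      c χ ∈ (fB (principalBlock M G)).erase (H21.triv G) := fun χ hmem => by
    refine Finset.mem_erase.mpr ⟨fun e => (Finset.mem_erase.mp hmem).1 ?_, mem_fB.mpr
      ((H19.galIrr_mem_principalBlock_iff _).mpr (mem_fB.mp (Finset.mem_erase.mp hmem).2))⟩
    apply Subtype.ext; funext g
    have : conj (χ.1 g) = 1 := congrFun (congrArg Subtype.val e) g
    rw [H21.triv_apply, ← Complex.conj_conj (χ.1 g), this, map_one]
  have K : p ≠ 2 → ∀ χ ψ ω, χ ≠ ψ → χ ≠ ω → ψ ≠ ω →
      (fB (principalBlock M G)).erase (H21.triv G) = {χ, ψ, ω} → nu χ = 0 → c χ = ψ →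
      Nat.card (P : Subgroup G) = 3 := by
    intro hp χ ψ ω n1 n2 n3 he z e
    have e1 : a ψ = a χ := by
      have := cv χ u
      rw [e, ha, ha, map_intCast] at this
      exact_mod_cast this
    have e2 : nu ψ = 0 := by
      have : nu ψ = conj (nu χ) := by rw [← e]; simp [nu, cv, map_sum]
      rw [this, z, map_zero]
    have e3 : c ω = ω := by
      have := cm ω (by rw [he]; simp)
      rw [he, Finset.mem_insert, Finset.mem_insert, Finset.mem_singleton] at this
      rcases this with h | h | h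
      · exact absurd (by rw [← e, ← h, cc]) n3
      · exact absurd (by rw [← cc χ, e, ← h, cc]) n2
      · exact h
    have h7 := h5 hp
    rw [hsum _ _ _ n1 n2 n3 he, a1, nu_triv, z, e2] at h7
    have e4 : a ω = 0 := by
      obtain ⟨s, hs, ⟨-, h⟩ | rfl | rfl⟩ := nu_cases ω
      · exact absurd e3 h
      · rw [hs] at h7
        have : (a ω : ℂ) = 0 := by push_cast at h7; linear_combination h7
        exact_mod_cast this
      · rw [hs] at h7
        have : (a ω : ℂ) = 0 := by push_cast at h7; linear_combination -h7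
        exact_mod_cast this
    rw [hsum _ _ _ n1 n2 n3 he, a1, e1, e4] at h1 h3
    rw [h4] at h3
    have d : a χ ∣ 1 := ⟨-(m χ + m ψ), by linear_combination h3⟩
    have hy : a χ ^ 2 = 1 := by
      rcases Int.isUnit_iff.mp (isUnit_of_dvd_one d) with h | h <;> rw [h] <;> norm_num
    rw [hy] at h1
    exact_mod_cast h1.symm
  have K2 : p ≠ 2 → ∀ χ ψ ω, χ ≠ ψ → χ ≠ ω → ψ ≠ ω →
      (fB (principalBlock M G)).erase (H21.triv G) = {χ, ψ, ω} →
      Nat.card (P : Subgroup G) ≠ 3 → ∃ s : ℤ, nu χ = s ∧ s ^ 2 = 1 := by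
    intro hp χ ψ ω n1 n2 n3 he h
    obtain ⟨s, hs, ⟨rfl, h'⟩ | rfl | rfl⟩ := nu_cases χ
    · have := cm χ (by rw [he]; simp)
      rw [he, Finset.mem_insert, Finset.mem_insert, Finset.mem_singleton] at this
      rcases this with e | e | e
      · exact absurd e h'
      · exact absurd (K hp χ ψ ω n1 n2 n3 he (by simpa using hs) e) h
      · exact absurd (K hp χ ω ψ n2 n1 n3.symm (by rw [he, Finset.pair_comm]) (by simpa using hs) e) h
    · exact ⟨1, hs, by norm_num⟩
    · exact ⟨-1, hs, by norm_num⟩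
  obtain ⟨χ, ψ, ω, n1, n2, n3, he⟩ := Finset.card_eq_three.mp hc2
  have t : ∀ ξ ∈ ({χ, ψ, ω} : Finset _), H21.triv G ≠ ξ := fun ξ h =>
    (Finset.mem_erase.mp (he ▸ h)).1.symm
  refine ⟨a χ, a ψ, a ω, m χ, m ψ, m ω, ?_, ?_, fun w1 w2 w3 => ?_, fun hp => ?_⟩
  · rw [hsum _ _ _ n1 n2 n3 he, a1] at h1
    linear_combination -h1
  · rw [hsum _ _ _ n1 n2 n3 he, h4] at h3
    linear_combination h3
  · have t1 := t χ (by simp)
    have t2 := t ψ (by simp)
    have t3 := t ω (by simp)
    have := h6 (fun ξ => if ξ = χ then w1 else if ξ = ψ then w2 else if ξ = ω then w3 else 0)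
      (by simp [t1, t2, t3])
    rw [hsum _ _ _ n1 n2 n3 he, hsum _ _ _ n1 n2 n3 he] at this
    simpa [t1, t2, t3, n1.symm, n2.symm, n3.symm, add_assoc] using this
  · by_cases h : Nat.card (P : Subgroup G) = 3
    · exact Or.inr h
    obtain ⟨s1, a1', b1⟩ := K2 hp χ ψ ω n1 n2 n3 he h
    obtain ⟨s2, a2, b2⟩ := K2 hp ψ χ ω n1.symm n3 n2 (by rw [he, Finset.insert_comm]) h
    obtain ⟨s3, a3, b3⟩ := K2 hp ω χ ψ n2.symm n3.symm n1 (by rw [he]; ext; simp; tauto) h
    refine Or.inl ⟨s1, s2, s3, b1, b2, b3, ?_⟩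
    have h7 := h5 hp
    rw [hsum _ _ _ n1 n2 n3 he, a1, nu_triv, a1', a2, a3] at h7
    have : ((s1 * a χ + s2 * a ψ + s3 * a ω : ℤ) : ℂ) = ((0 : ℤ) : ℂ) := by
      push_cast at h7 ⊢; linear_combination h7
    exact_mod_cast this

end Cfsg.Agent.H18.K4Data
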