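import Cfsg.Agent.H44.K5Defs

/-! Project K5, piece UNI. -/

set_option autoImplicit false

namespace Cfsg.Agent.H18.K5Uni

open Matrix Cfsg.Agent.H44.K5

def ee {n : ℕ} (b : Fin n → ℤ) (T : Matrix (Fin n) (Fin n) ℤ) : Matrix (Fin (n + 1)) (Fin (n + 1)) ℤ :=
  of (Fin.cons (Fin.cons 1 b) fun i => Fin.cons 0 (T i))

theorem det_ee {n : ℕ} (b : Fin n → ℤ) (T : Matrix (Fin n) (Fin n) ℤ) : (ee b T).det = T.det := by
  rw [det_succ_column_zero, Fin.sum_univ_succ]
  have : (ee b T).submatrix (Fin.succAbove 0) Fin.succ = T := by ext i j; simp [ee]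
  rw [this]
  simp [ee]

theorem uni (herm : HermStmt) : UniStmt := by
  intro n
  induction n with
  | zero => exact fun _ A _ _ _ => ⟨1, Subsingleton.elim _ _⟩
  | succ n ih =>
  intro hn A hs hp hd
  obtain ⟨U, hU, hb⟩ := herm n A hs hp
  have cong : ∀ (X W : Matrix (Fin (n + 1)) (Fin (n + 1)) ℤ), IsUnit W.det →
      (∀ x, x ≠ 0 → 0 < x ⬝ᵥ X *ᵥ x) → X.det = 1 →
      (∀ x, x ≠ 0 → 0 < x ⬝ᵥ (Wᵀ * X * W) *ᵥ x) ∧ (Wᵀ * X * W).det = 1 := fun X W hW h1 h2 => by
    refine ⟨fun x hx => ?_, ?_⟩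
    · have := h1 (W *ᵥ x) fun e => hx (eq_zero_of_mulVec_eq_zero hW.ne_zero e)
      rwa [← mulVec_mulVec, ← mulVec_mulVec, dotProduct_mulVec, vecMul_transpose]
    · rw [det_mul, det_mul, det_transpose, h2]
      rcases Int.isUnit_iff.1 hW with h | h <;> rw [h] <;> norm_num
  obtain ⟨p1, d1⟩ := cong A U hU hp hd
  have s1 : (Uᵀ * A * U)ᵀ = Uᵀ * A * U := by
    rw [transpose_mul, transpose_mul, transpose_transpose, hs, Matrix.mul_assoc]
  obtain ⟨B, hB⟩ : ∃ B, B = Uᵀ * A * U := ⟨_, rfl⟩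
  rw [← hB] at p1 d1 s1 hb
  have a0 : 0 < B 0 0 := by
    simpa using p1 (Pi.single 0 1) (by simp)
  have a1 : B 0 0 = 1 := by
    by_contra h
    have h2 : (2 : ℤ) ^ (n + 1) ≤ B 0 0 ^ (n + 1) := pow_le_pow_left₀ (by norm_num) (by omega) _
    rw [hd] at hb
    have h3 := (mul_le_mul_of_nonneg_right h2 (by positivity)).trans hb
    have h4 : n ≤ 4 := by omega
    clear * - h3 h4
    interval_cases n <;> norm_num at h3
  have sy : ∀ i j, B i j = B j i := fun i j => congrFun (congrFun s1 j) i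
  let E := ee (fun j => -B 0 j.succ) (1 : Matrix (Fin n) (Fin n) ℤ)
  let S : Matrix (Fin n) (Fin n) ℤ := of fun i j => B i.succ j.succ - B 0 i.succ * B 0 j.succ
  have hE : Eᵀ * B * E = ee 0 S := by
    ext i j
    refine Fin.cases ?_ (fun i => ?_) i <;> refine Fin.cases ?_ (fun j => ?_) j <;>
      simp [E, S, ee, mul_apply, Fin.sum_univ_succ, one_apply, a1, sy _ 0]
    ring
  obtain ⟨p2, d2⟩ := cong B E (by rw [det_ee, det_one]; exact isUnit_one) p1 d1
  rw [hE] at p2 d2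
  rw [det_ee] at d2
  obtain ⟨V, hV⟩ := ih (by omega) S (by ext i j; simp [S, sy j.succ i.succ, mul_comm])
    (fun x hx => by
      have := p2 (Fin.cons 0 x) fun e => hx (funext fun i => by simpa using congrFun e i.succ)
      simpa [ee, dotProduct, mulVec, Fin.sum_univ_succ] using this) d2
  refine ⟨U * E * ee 0 V, ?_⟩
  have : (U * E * ee 0 V)ᵀ * A * (U * E * ee 0 V) = (ee 0 V)ᵀ * (Eᵀ * B * E) * ee 0 V := by
    rw [hB]; simp only [transpose_mul, Matrix.mul_assoc]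
  rw [this, hE]
  ext i j
  refine Fin.cases ?_ (fun i => ?_) i <;> refine Fin.cases ?_ (fun j => ?_) j
  · simp [ee, mul_apply, Fin.sum_univ_succ]
  · simp [ee, mul_apply, Fin.sum_univ_succ, one_apply, (Fin.succ_ne_zero j).symm]
  · simp [ee, mul_apply, Fin.sum_univ_succ]
  · have := congrFun (congrFun hV i) j
    simpa [ee, mul_apply, Fin.sum_univ_succ, one_apply] using this

end Cfsg.Agent.H18.K5Uni
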