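import Cfsg.Agent.H48.M2Defs

set_option autoImplicit false

namespace Cfsg.Agent.H48.M2.H3

open Subgroup

theorem card_le_two {G : Type*} [Group G] [Finite G] (Z Q : Subgroup G)
    (h : ∀ x ∈ Z, ∀ y ∈ Z, x ∉ Q → y ∉ Q → x * y ∈ Q) :
    Nat.card Z ≤ 2 * Nat.card ↥(Z ⊓ Q) := by
  classical
  by_cases hq : Z ≤ Q
  · rw [inf_eq_left.2 hq]; omega
  obtain ⟨x0, hx0, hx0'⟩ := SetLike.not_le_iff_exists.1 hq
  let f : Z → Bool × ↥(Z ⊓ Q) := fun z =>
    if hz : (z : G) ∈ Q then (true, ⟨z, z.2, hz⟩)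
    else (false, ⟨x0 * z, Z.mul_mem hx0 z.2, h _ hx0 _ z.2 hx0' hz⟩)
  have hf : Function.Injective f := by
    intro a b e
    by_cases ha : (a : G) ∈ Q <;> by_cases hb : (b : G) ∈ Q <;>
      simp only [f, ha, hb, dif_pos, dif_neg, not_false_eq_true, Prod.mk.injEq,
        true_and] at e
    · exact Subtype.ext (congrArg (fun t : ↥(Z ⊓ Q) => (t : G)) e)
    · exact absurd e.1 (by decide)
    · exact absurd e.1 (by decide)
    · exact Subtype.ext (mul_left_cancel (congrArg Subtype.val e))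
  have := Nat.card_le_card_of_injective f hf
  rwa [Nat.card_prod, Nat.card_eq_fintype_card (α := Bool), Fintype.card_bool] at this

end Cfsg.Agent.H48.M2.H3

namespace Cfsg.Agent.H48.M2

open Cfsg Subgroup Cfsg.Agent.H48 Cfsg.Agent.H48.Rec Cfsg.Agent.H49 Cfsg.Agent.H95.Par
open Cfsg.Agent.H97.Gr (DD ZZ)
open Cfsg.Agent.H97.Yt (M)

theorem h3_of (hak : AkStmt) (hpf : PfStmt) (h1 : H1Stmt) (h2 : H2Stmt) (htr : Tr0Stmt) :
    H3Stmt := by
  intro R V A w w' h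
  have pf := hpf A h.ark
  have e1 := (hak A h.ark w h.a1 h.m1.zz w' (mem_sup_right h.a2) h.np).2.1
  have hRN : R ≤ NN A := fun r hr => by
    rw [← e1]
    exact n_Ak h.m1.zz (h.vs.cm hr h.m1.mem) (h.vs.cm hr h.m2.mem)
  have hH1 := h1 R V A w w' h
  have hRA : R ≤ CP A := by
    refine h2 A R h.ark h.vs.p2 hRN fun u hu huz hle => ?_
    have huV : u ∈ V := h.vs.fx u (pf.el u hu.1) hu.2
    have m := h.m1.max u huV huz
    have l1 : V ⊓ A ≤ V ⊓ Qz u := fun x hx => ⟨hx.1, hle ⟨hx.2, h.vs.ce hx.1⟩⟩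
    have l2 : V ⊓ Qz w ≤ V ⊓ A := le_inf inf_le_left hH1
    have e := eq_of_le_of_card_ge l2 (le_trans (card_le_of_le l1) m)
    have : w' ∈ V ⊓ Qz w := by rw [e]; exact ⟨h.m2.mem, h.a2⟩
    exact h.np this.2
  have hAV : A ≤ V := fun a ha =>
    h.vs.fx a (pf.el a ha) fun r hr => (hRA hr a ha).symm
  have c9 : Nat.card ↥(V ⊓ Qz w) = 2 ^ 9 := by
    rw [← pf.c9 w h.a1 h.m1.zz]
    congr 2
    exact le_antisymm (le_inf hH1 inf_le_right) (inf_le_inf_right _ hAV)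
  refine le_antisymm (fun v hv => ?_) hAV
  by_contra hvA
  obtain ⟨u, huA, huz, hvu⟩ := htr A v h.ark (fun a ha => h.vs.el.cm (hAV ha) hv) (h.vs.el v hv)
  have hZV : A ⊔ zpowers v ≤ V := sup_le hAV (zpowers_le_of_mem hv)
  have hZQ : A ⊔ zpowers v ≤ Qz u ⊔ A := sup_le le_sup_right (zpowers_le_of_mem hvu)
  have i2 := H3.card_le_two (A ⊔ zpowers v) (Qz u) fun x hx y hy =>
    pf.ix u huA huz x (hZQ hx) y (hZQ hy)
  have i3 : Nat.card ↥((A ⊔ zpowers v) ⊓ Qz u) ≤ 2 ^ 9 := by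
    rw [← c9]
    exact le_trans (card_le_of_le (inf_le_inf_right _ hZV)) (h.m1.max u (hAV huA) huz)
  have e := eq_of_le_of_card_ge (le_sup_left : A ≤ A ⊔ zpowers v) (by rw [pf.card]; omega)
  exact hvA (by rw [e]; exact mem_sup_right (mem_zpowers v))

end Cfsg.Agent.H48.M2
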