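import Mathlib
import Cfsg.Agent.H11.HdFin
import Cfsg.Agent.H49.Monster4

/-! A criterion for the Held group among the groups with the involution centraliser of
`SL(5, 2)`, and its verification in groups of Monster type. -/

set_option autoImplicit false
set_option maxRecDepth 100000
set_option exponentiation.threshold 30000

namespace Cfsg.Agent.H18.MH

open Subgroup

variable {G : Type*} [Group G]

/-- `R ∩ R ^ g` contains a nontrivial element not conjugate to `t` whenever `t ≠ t ^ g ∈ R` -/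
def PP (t : G) (R : Subgroup G) : Prop := ∀ g, g * t * g⁻¹ ∈ R → g * t * g⁻¹ ≠ t →
  ∃ w ∈ R, g⁻¹ * w * g ∈ R ∧ w ≠ 1 ∧ ¬ IsConj t w

section Held

open Cfsg.Agent.H11.Hd Cfsg.Agent.H89.TG Cfsg.Agent.H89.Rec

theorem nQ (c : M) : ∀ u ∈ Q, c * u * c⁻¹ ∈ Q := fun _ =>
  (mem_normalizer_iff.1 ((top_of_roots (K := normalizer (Q : Set M))
    (PS.sub_le fun b hb => mem_normalizer_fintype (by
      simp only [SetLike.mem_coe]; revert b; md))
    (mem_normalizer_fintype (by simp only [SetLike.mem_coe]; md))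
    (mem_normalizer_fintype (by simp only [SetLike.mem_coe]; md))).ge (mem_top c)) _).1

theorem cardQ : Nat.card Q = 2 ^ 7 := (pQ.card_sub (by decide +kernel)).trans (by decide +kernel)

theorem cmQ : ∀ u ∈ Q, ∀ v ∈ Q, u * v = v * u ∨ u * v = v * u * z := by md

variable [Finite G] {ι : M →* G}

theorem mapQ (h : Emb ι z) {R : Subgroup G} (hc : Nat.card R = 2 ^ 7)
    (hle : ∀ N : Subgroup G, IsPGroup 2 N → N ≤ centralizer {ι z} →
      (∀ c, Commute c (ι z) → ∀ x ∈ N, c * x * c⁻¹ ∈ N) → N ≤ R) : Q.map ι = R := by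
  refine eq_of_le_of_card_ge (hle _ ((IsPGroup.of_card cardQ).map _) ?_ ?_)
    (by rw [card_map_of_injective h.inj, hc, cardQ])
  · rintro _ ⟨u, -, rfl⟩
    exact h.mem_cent.2 (h.zc u)
  · rintro c hc _ ⟨u, hu, rfl⟩
    obtain ⟨c, rfl⟩ := h.cent c hc
    exact ⟨_, nQ c u hu, by simp⟩

omit [Finite G] in
theorem key (h : Emb ι z) (hP : PP (ι z) (Q.map ι)) {g : G} {u : M} (h0 : Cj ι g z u) (h1 : u ∈ Q)
    (h2 : u ≠ z) {l : List M} (hl : ∀ e ∈ l, e ∈ Q ∧ ∃ e' ∈ Q, Cj ι g e' e)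
    (hc : ∀ w ∈ Q, (∀ e ∈ l, Commute w e) → w ≠ 1 → InD ι z w) : False := by
  obtain ⟨_, ⟨w, hw, rfl⟩, ⟨v, hv, e⟩, h3, h4⟩ := hP g ⟨u, h1, Eq.symm h0⟩
    fun e => h2 (h.inj (h0.symm.symm' ▸ e))
  have h5 : Cj ι g v w := Cj.symm' (by rw [Cj, e, inv_inv])
  obtain ⟨k, hk⟩ := hc w hw (fun e he => by
    obtain ⟨a, e', b, c⟩ := hl e he
    rcases cmQ w hw e a with d | d
    · exact d
    rcases cmQ v hv e' b with d' | d'
    · exact h5.comm h.inj c d'
    have := ((h5.mul c).eq_iff h.inj ((c.mul h5).mul h0)).1 d'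
    exact absurd (mul_left_cancel (this.symm.trans d)) h2) fun e => h3 (by rw [e, map_one])
  exact h4 (isConj_iff.2 ⟨k, hk⟩).symm

theorem not6 (hP : Pat ι 6) (h : PP (ι z) (Q.map ι)) : False := by
  obtain ⟨g, hg⟩ := Six.inD hP (u := x 0 1) (by md) (by md)
  have hE : E ≤ Q := PS.sub_le (by md)
  refine key hP.emb h hg.symm (by md) (by md) (l := [x 0 1, x 0 2, x 0 3, z]) (fun e he => ?_)
    fun w _ hc h1 => Six.inD hP (cE w hc) h1
  have h1 : e ∈ E := by revert e; md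
  obtain ⟨e', h2, h3⟩ := Six.normal hP g e h1
  exact ⟨hE h1, e', hE h2, h3.symm⟩

theorem notS {S : Sys} (H : SysOK S) (hP : Pat ι S.π) (h : PP (ι z) (Q.map ι))
    (h1 : ∀ s ∈ [(z, x 1 4), (x 1 4, z), (x 2 4, x 2 4), (x 3 4, x 3 4)],
      Nat.beq (S.A1 (cd s.1)) (cd s.2) = true)
    (h2 : ∀ w ∈ Q, (∀ e ∈ [x 1 4, x 2 4, x 3 4], w ≠ x 1 4 → Commute w e) → w ≠ 1 →
      dB S.π (cd w) = true) : False := by
  obtain ⟨g, hg⟩ := exists_good H hP
  have a : ∀ s ∈ [(z, x 1 4), (x 1 4, z), (x 2 4, x 2 4), (x 3 4, x 3 4)], Cj ι (g 7) s.1 s.2 :=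
    fun s hs => (hg.act 7).cj (h1 s hs)
  simp only [List.forall_mem_cons] at a
  have hT : Q ≤ T := PS.sub_le (by md)
  refine key hP.emb h a.1 (by md) (by md) (l := [x 1 4, x 2 4, x 3 4]) ?_
    fun w hw hc h3 => (hP.iff w (hT hw)).2 (h2 w hw (fun e he _ => hc e he) h3)
  simp only [List.forall_mem_cons]
  exact ⟨⟨by md, _, by md, a.1⟩, ⟨by md, _, by md, a.2.2.1⟩, ⟨by md, _, by md, a.2.2.2.1⟩, by simp⟩

theorem swap {π π' : ℕ} (hP : Pat ι π) (h : ∀ k < 9, π.testBit (swp k) = π'.testBit k) :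
    ∃ ι' : M →* G, Pat ι' π' ∧ ι' z = ι z := by
  obtain ⟨τ, hb, hτ⟩ := exists_tau
  have h1 : ∀ k < 9, τ (rep k) = rep (swp k) := fun k hk => tau_eq hτ (by
    rw [cd_rep, cd_rep]; revert k; decide +kernel)
  have hz : τ z = z := tau_eq hτ (by rw [cd_x]; decide +kernel)
  have h2 : ∀ k, k < 9 → rep (swp k) ∈ T ∧ Nat.beq (cls (cd (rep (swp k)))) (swp k) = true := by
    mdec [cd_rep]
  refine ⟨ι.comp τ, pat_of (hP.emb.comp hb hz) fun k hk => ?_, congrArg ι hz⟩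
  rw [← h k hk, ← Nat.eq_of_beq_eq_true (h2 k hk).2, ← dB_iff, ← hP.iff _ (h2 k hk).1, ← h1 k hk]
  simp only [InD, Cj.comp, hz]

/-- the criterion for the Held group -/
theorem he_of {t g : G} (ht : orderOf t = 2)
    (e : (centralizer {t} : Subgroup G) ≃* (centralizer {s0} : Subgroup SL5))
    (h1 : g * t * g⁻¹ ∈ (centralizer {t} : Subgroup G)) (h2 : g * t * g⁻¹ ≠ t) {R : Subgroup G}
    (hc : Nat.card R = 2 ^ 7) (hle : ∀ N : Subgroup G, IsPGroup 2 N → N ≤ centralizer {t} →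
      (∀ c, Commute c t → ∀ x ∈ N, c * x * c⁻¹ ∈ N) → N ≤ R) (hP : PP t R) :
    Nonempty (G ≃* Spor.He) := by
  obtain ⟨ι, h, rfl⟩ := exists_emb ht e
  have a : ∀ ι' : M →* G, Emb ι' z → ι' z = ι z → PP (ι' z) (Q.map ι') := fun ι' h' e' => by
    rwa [mapQ h' hc (e' ▸ hle), e']
  have a5 : ∀ ι' : M →* G, Pat ι' 174 → ι' z = ι z → False := fun ι' h' e' =>
    notS sm24_ok h' (a _ h'.emb e') (by md) (by md)
  obtain ⟨π, hπ, hP⟩ := exists_pat h
  simp only [List.mem_cons, List.not_mem_nil, or_false] at hπ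
  rcases hπ with rfl | rfl | rfl | rfl | rfl | rfl | rfl
  · obtain ⟨u, hu⟩ := h.cent _ (mem_centralizer_singleton_iff.1 h1)
    exact absurd (by rw [← hu, not_two hP (u := u) ⟨_, Cj.symm (g := g) hu.symm⟩]) h2
  · exact (not6 hP (a _ h rfl)).elim
  · obtain ⟨ι', hP', e'⟩ := swap hP (π' := 6) (by decide)
    exact (not6 hP' (a _ hP'.emb e')).elim
  · exact (notS sl5_ok hP (a _ h rfl) (by md) (by md)).elim
  · exact (a5 _ hP rfl).elim
  · obtain ⟨ι', hP', e'⟩ := swap hP (π' := 174) (by decide)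
    exact (a5 _ hP' e').elim
  · exact equivHe hP

end Held

section Monster

open H49 H48 H42 H43

/-- an octad -/
def oa : Finset GolayPt := {some 1, some 4, some 11, some 13, some 14, some 16, some 20, some 21}

/-- an octad meeting `oa` in two points -/
def ob : Finset GolayPt := {some 3, some 4, some 5, some 6, some 11, some 18, some 19, some 22}

theorem isWord_oa : IsWord oa := by rw [isWord_iff_qr]; decide +kernel

theorem isWord_ob : IsWord ob := by rw [isWord_iff_qr]; decide +kernel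

variable [Finite G] {z : G} {Q : Subgroup G} {θ : centralizer ({z} : Set G) →* Spor.Co1}
  {R : Lam → G → Prop}

theorem exists_two (h : MD Q z θ R) {S : Subgroup G} {s : G} (p : Pair Q S z s)
    (r : R (e8 none) s) {b : G} (hb : orderOf b = 7) (a : Ass θ f7x b) :
    ∃ t ∈ Q ⊓ S, t * b = b * t ∧ t ≠ 1 ∧ ¬ IsConj z t := by
  obtain ⟨y, hy, ay⟩ := mem_pull.1 (h.pull_eq_Signs p r ▸ signEl_mem_Signs oa isWord_oa)
  obtain ⟨x, rx⟩ := h.ex2 (twoInd ob isWord_ob)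
  have c : x * s = s * x := by
    rw [h.comm_iff rx r, dot_e8, twoInd_apply, if_neg (by decide)]; norm_num
  have hE := p.R_commutator (mem_sup_left hy)
    (mem_sup_right (⟨h.mem rx, mem_centralizer_singleton_iff.2 c⟩ : x ∈ Q ⊓ centralizer {s}))
  have r1 := h.cg (h.mul (h.act' ay rx) (h.inv rx)) (cong_add_sub _ _)
  have hv : (signEl oa isWord_oa • twoInd ob isWord_ob - twoInd ob isWord_ob).1 =
      fun i => if i = some 4 ∨ i = some 11 then -4 else 0 := by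
    change (fun i => (if i ∈ oa then -(if i ∈ ob then (2 : ℤ) else 0) else
      (if i ∈ ob then 2 else 0)) - (if i ∈ ob then 2 else 0)) = _
    decide +kernel
  have hn : sqNorm (signEl oa isWord_oa • twoInd ob isWord_ob - twoInd ob isWord_ob).1 = 32 := by
    rw [hv]; decide +kernel
  refine ⟨_, hE, (h.comm_iff_fix (hb ▸ by decide) a r1).2 ?_, fun e1 => ?_,
    h.not_isConj_of_norm r1 hn⟩
  · refine Eq.subst (motive := cong _) (Subtype.ext (funext fun i => ?_)) (cong.refl _)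
    obtain ⟨i, rfl⟩ := (toM (nthN m24reps 11)).1.surjective i
    rw [permEl_apply', hv, coe_toM (inM_m24reps (by norm_num)),
      toPerm_apply (inM_isPerm (inM_m24reps (by norm_num)))]
    revert i
    decide +kernel
  · exact h.not_cong_zero (by omega) (by omega) ((h.zero_iff r1).2 (Or.inl e1))

theorem pp (h : MD Q z θ R) {B : Subgroup G} (hc : Nat.card B = 7)
    [hn : (B.subgroupOf (centralizer (B : Set G))).Normal] (hz : z ∈ centralizer (B : Set G)) :
    PP (QuotientGroup.mk' (B.subgroupOf (centralizer (B : Set G))) ⟨z, hz⟩)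
      (((Q ⊓ centralizer (B : Set G)).subgroupOf (centralizer (B : Set G))).map
        (QuotientGroup.mk' _)) := by
  intro g ⟨u, hu, e⟩ hne
  obtain ⟨g, rfl⟩ := QuotientGroup.mk'_surjective _ g
  have hBo : Odd (Nat.card B) := hc ▸ by decide
  have sq : ∀ {x y : centralizer (B : Set G)}, (x : G) ^ 4 = 1 → (y : G) ^ 4 = 1 →
      QuotientGroup.mk' (B.subgroupOf (centralizer (B : Set G))) x = QuotientGroup.mk' _ y →
      x = y := fun {x y} hx hy e => by
    have h1 : (x : G) * (y : G)⁻¹ ∈ B := (qmk_eq_iff x.2 y.2).1 e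
    have h2 : Commute ((x : G) * (y : G)⁻¹) y := y.2 _ h1
    have h3 : ((x : G) * (y : G)⁻¹) ^ 4 = 1 := by
      have := h2.mul_pow 4
      rwa [inv_mul_cancel_right, hx, hy, mul_one, eq_comm] at this
    exact Subtype.ext (mul_inv_eq_one.1 (orderOf_eq_one_iff.1 (Nat.Coprime.eq_one_of_dvd
      (Nat.Coprime.pow_right 2 (Nat.coprime_two_right.2 (odd_orderOf_of_mem hBo h1)))
      (orderOf_dvd_of_pow_eq_one h3))))
  have z4 : z ^ 4 = 1 := h.hQ.pow_four h.hQ.mem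
  have e1 : u = g * ⟨z, hz⟩ * g⁻¹ := sq (h.hQ.pow_four hu.1) (by
    change (g * z * (g : G)⁻¹) ^ 4 = 1
    rw [conj_pow, z4]; simp) (by simpa using e)
  have h1 : g * z * (g : G)⁻¹ ∈ Q := (e1 ▸ hu).1
  have h2 : g * z * (g : G)⁻¹ ≠ z := fun c => hne (by
    rw [← e, e1]; exact congrArg _ (Subtype.ext c))
  obtain ⟨θ₁, R₁, h₁, r₁⟩ := h.exists_twist_e8 h1 (isConj_iff.2 ⟨g, rfl⟩) h2
  obtain ⟨b, θ₂, R₂, hb, rfl, h₂, r₂, a⟩ := h₁.exists_seven r₁ (B := B) (fun b hb => by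
    rw [centralizer_pair]
    exact ⟨mem_centralizer_singleton_iff.2 (hz b hb), mem_centralizer_singleton_iff.2
      ((g * ⟨z, hz⟩ * g⁻¹).2 b hb)⟩) hc
  obtain ⟨t, ht, h3, h4, h5⟩ := exists_two h₂ (h.hQ.pair h.h8 h1 h2) r₂ hb a
  have h6 : t ∈ centralizer (zpowers b : Set G) := by
    rwa [centralizer_zpowers', mem_centralizer_singleton_iff]
  refine ⟨QuotientGroup.mk' _ ⟨t, h6⟩, ⟨_, ⟨ht.1, h6⟩, rfl⟩, ⟨g⁻¹ * ⟨t, h6⟩ * g,
    ⟨mem_cj.1 ht.2, Subgroup.mul_mem _ (Subgroup.mul_mem _ (Subgroup.inv_mem _ g.2) h6) g.2⟩, by simp⟩, fun c => h4 (congrArg Subtype.val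
      (sq (y := 1) (h.hQ.pow_four ht.1) (by simp) c)), fun c => h5 ?_⟩
  obtain ⟨k, hk⟩ := isConj_iff.1 c
  obtain ⟨k, rfl⟩ := QuotientGroup.mk'_surjective _ k
  exact isConj_iff.2 ⟨k, congrArg Subtype.val (sq (x := k * ⟨z, hz⟩ * k⁻¹) (y := ⟨t, h6⟩) (by
    change (k * z * (k : G)⁻¹) ^ 4 = 1
    rw [conj_pow, z4]; simp) (h.hQ.pow_four ht.1) (by simpa using hk))⟩

end Monster

universe u

/-- the shape `2^{1+6}.L₃(2)` determines the centraliser -/
def Shape : Prop := ∀ (X : Type u) [Group X] [Finite X] (z : X)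
  (Q : Subgroup (centralizer ({z} : Set X))) [Q.Normal], IsExtraspecialCentralizerSetting z Q 3 →
    Nonempty (centralizer ({z} : Set X) ⧸ Q ≃* Matrix.SpecialLinearGroup (Fin 3) (ZMod 2)) →
    Set.ncard {x : centralizer ({z} : Set X) | x ∈ Q ∧ IsConj z (x : X)} = 29 →
    Nonempty (centralizer ({z} : Set X) ≃* (centralizer {H11.Hd.s0} : Subgroup H11.Hd.SL5))

theorem seven (hS : Shape.{u}) {G : Type u} [Group G] [Finite G] {z : G} {Q : Subgroup G}
    {θ : centralizer ({z} : Set G) →* Spor.Co1} {R : H48.Lam → G → Prop} (h : H49.MD Q z θ R)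
    {s : G} (r : R (H48.e8 none) s) {B : Subgroup G} (hB : B ≤ centralizer ({z, s} : Set G))
    (hc : Nat.card B = 7) [hn : (B.subgroupOf (centralizer (B : Set G))).Normal] :
    Spor.IsoHe (centralizer (B : Set G) ⧸ B.subgroupOf (centralizer (B : Set G))) := by
  have : Fact (Nat.Prime 7) := ⟨by norm_num⟩
  obtain ⟨b, θ', R', hb, e, h', r', a⟩ := h.exists_seven r hB hc
  have hsb : s * b = b * s := (hB (e ▸ mem_zpowers b)) s (by simp)
  obtain ⟨zs, Qs, hQ, h1, h2, h3, ⟨hz, rfl⟩, h4⟩ := h'.odd_quot (w := 3) (by decide) H49.f7_ord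
    H49.f7_centData H49.f7_fs hb a (h.mem r) (h.e8_spec r).1 (h.e8_spec r).2 hsb e
  obtain ⟨e⟩ := hS _ _ Qs h1 h2 (h3.trans (by rw [H49.f7_n4]))
  obtain ⟨a1, a2, -, a4, g, ⟨a5, -⟩, a6⟩ := h1
  refine he_of a1 e a5 a6 ((card_map_of_injective (subtype_injective _)).trans a4)
    (fun N b1 b2 b3 => ?_) (h4 ▸ pp h hc hz)
  have : (N.subgroupOf (centralizer _)).Normal := ⟨fun n hn c =>
    b3 c (mem_centralizer_singleton_iff.1 c.2) n hn⟩
  rw [← map_subgroupOf_eq_of_le b2]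
  exact map_mono ((H52.le_pCore (hN := this) b1.comap_subtype).trans (H52.pCore_le_fstar.trans a2.le))

end Cfsg.Agent.H18.MH
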