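import Mathlib
import Cfsg.Agent.H82.SL2Mod
import Cfsg.Agent.H73.Descent
import Cfsg.Agent.H9.GWInv
import Cfsg.Agent.H39.TI
import Cfsg.Agent.H58.Simple
import Cfsg.Agent.H28.PSL2Small
import Cfsg.Agent.S2553

/-!
# Linear groups containing `SL₂(q)` on the natural module, with a Sylow subgroup normalising it
-/

set_option autoImplicit false
set_option linter.unusedSectionVars false

namespace Cfsg.Agent.H18.NS

open Subgroup Cfsg.Agent.H8
open Cfsg.Agent.H82 (uu ll mm UU vec2_ext SL2_smul_apply exists_SL2_smul_eq)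
open scoped MatrixGroups Pointwise

variable {G F : Type*} [Group G] [Field F] [DistribMulAction G (Fin 2 → F)]

/-- A faithful additive action extending the natural action of `SL₂(F)`. -/
structure Ext (ι : SL(2, F) →* G) : Prop where
  faith : ∀ g : G, (∀ v : Fin 2 → F, g • v = v) → g = 1
  act : ∀ (l : SL(2, F)) (v : Fin 2 → F), ι l • v = l • v

/-- The line fixed by the upper unitriangular group. -/
def W (F : Type*) [Field F] : AddSubgroup (Fin 2 → F) := (Pi.evalAddMonoidHom (fun _ => F) 1).ker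

theorem mem_W {v : Fin 2 → F} : v ∈ W F ↔ v 1 = 0 := Iff.rfl

/-- The first basis vector. -/
def e0 : Fin 2 → F := ![1, 0]

theorem e0_ne : (e0 : Fin 2 → F) ≠ 0 := fun h => one_ne_zero (congrFun h 0)

theorem smul_e0_ne (g : G) : g • (e0 : Fin 2 → F) ≠ 0 := (smul_ne_zero_iff_ne g).2 e0_ne

theorem conj_ne_one {x g : G} (h : x ≠ 1) : g⁻¹ * x * g ≠ 1 := fun e =>
  h (by rwa [mul_assoc, inv_mul_eq_one, eq_comm, mul_eq_right] at e)

theorem e0_mem : (e0 : Fin 2 → F) ∈ W F := rfl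

theorem eq_smul_e0 {v : Fin 2 → F} (h : v ∈ W F) : v = v 0 • e0 :=
  vec2_ext (by simp [e0]) (by simpa [e0] using mem_W.1 h)

theorem uu_smul (t : F) (v : Fin 2 → F) : uu t • v = v + (t * v 1) • e0 :=
  vec2_ext (by simp [SL2_smul_apply, H82.uu_00, H82.uu_01, e0])
    (by simp [SL2_smul_apply, H82.uu_10, H82.uu_11, e0])

theorem sl_smul_smul (l : SL(2, F)) (c : F) (v : Fin 2 → F) : l • c • v = c • l • v :=
  funext fun i => by simp only [SL2_smul_apply, Pi.smul_apply, smul_eq_mul]; ring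

theorem card_W [Finite F] : Nat.card (W F) = Nat.card F :=
  Nat.card_congr ⟨fun v => v.1 0, fun c => ⟨c • e0, by simp [mem_W, e0]⟩,
    fun v => Subtype.ext (eq_smul_e0 v.2).symm, fun c => by simp [e0]⟩

theorem scalar_of_comm (f : (Fin 2 → F) → Fin 2 → F) (h0 : f 0 = 0)
    (h : ∀ (l : SL(2, F)) v, f (l • v) = l • f v) (v : Fin 2 → F) : f v = f e0 0 • v := by
  rcases eq_or_ne v 0 with rfl | hv
  · rw [h0, smul_zero]
  obtain ⟨l, rfl⟩ := exists_SL2_smul_eq e0_ne hv
  have h1 := congrFun (h (uu 1) e0) 0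
  rw [uu_smul, uu_smul] at h1
  have h2 : f e0 ∈ W F := by simpa [e0, mem_W] using h1
  rw [h, ← sl_smul_smul, ← eq_smul_e0 h2]

variable {ι : SL(2, F) →* G}

/-- The image of the upper unitriangular group. -/
abbrev Q (ι : SL(2, F) →* G) : Subgroup G := (UU F).map ι

/-- The stabiliser of the line. -/
abbrev NW (G F : Type*) [Group G] [Field F] [DistribMulAction G (Fin 2 → F)] : Subgroup G :=
  MulAction.stabilizer G (W F)

theorem mem_NW {g : G} : g ∈ NW G F ↔ ∀ v, g • v ∈ W F ↔ v ∈ W F := by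
  rw [← inv_mem_iff, MulAction.mem_stabilizer_iff, SetLike.ext_iff]
  simp [AddSubgroup.mem_pointwise_smul_iff_inv_smul_mem]

/-- The elements acting trivially on the line and on the quotient. -/
def E (G F : Type*) [Group G] [Field F] [DistribMulAction G (Fin 2 → F)] : Subgroup G where
  carrier := {x | ∀ v, x • v - v ∈ W F ∧ (v ∈ W F → x • v = v)}
  one_mem' v := by simp
  mul_mem' {a b} ha hb v := ⟨by
    have := add_mem (ha (b • v)).1 (hb v).1
    rwa [sub_add_sub_cancel, smul_smul] at this, fun h => by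
      rw [mul_smul, (hb v).2 h, (ha v).2 h]⟩
  inv_mem' {a} ha v := ⟨by
    have := neg_mem (ha (a⁻¹ • v)).1
    rwa [smul_inv_smul, neg_sub] at this, fun h => by
      rw [inv_smul_eq_iff, (ha v).2 h]⟩

theorem NW_le_normalizer_E : NW G F ≤ normalizer (E G F : Set G) :=
  H82.le_normalizer_of_conj_mem fun g hg x hx v => by
    have h1 := mem_NW.1 hg
    have h2 := mem_NW.1 (inv_mem hg)
    refine ⟨?_, fun h => ?_⟩
    · have := (h1 _).2 (hx (g⁻¹ • v)).1
      rwa [smul_sub, smul_inv_smul, smul_smul, smul_smul] at this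
    · rw [mul_smul, mul_smul, (hx _).2 ((h2 v).2 h), smul_inv_smul]

/-- The scalar action twisted by an element of the normaliser. -/
def sc (g : G) (c : F) : F := (g • c • g⁻¹ • (e0 : Fin 2 → F)) 0

namespace Ext

variable (h : Ext ι)
include h

theorem inj : Function.Injective ι := (injective_iff_map_eq_one ι).2 fun l e =>
  H82.SL2_eq_of_smul_eq fun v => by rw [← h.act, e, one_smul, one_smul]

theorem eq_of {a b : G} (e : ∀ v : Fin 2 → F, a • v = b • v) : a = b :=
  eq_of_inv_mul_eq_one (h.faith _ fun v => by rw [mul_smul, ← e, inv_smul_smul])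

theorem semi {g : G} (hg : g ∈ normalizer (ι.range : Set G)) (c : F) (v : Fin 2 → F) :
    g • c • v = sc g c • g • v := by
  have := scalar_of_comm (fun v => g • c • g⁻¹ • v) (by simp) (fun l v => by
    obtain ⟨l', e⟩ := (mem_normalizer_iff''.1 hg (ι l)).1 ⟨l, rfl⟩
    have e1 : g⁻¹ * ι l = ι l' * g⁻¹ := by rw [e]; group
    have e2 : g * ι l' = ι l * g := by rw [e]; group
    rw [← h.act, ← mul_smul, e1, mul_smul, h.act, ← sl_smul_smul, ← h.act, ← mul_smul, e2,
      mul_smul, h.act]) (g • v)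
  rwa [inv_smul_smul] at this

theorem exists_sigma : ∃ σ : normalizer (ι.range : Set G) →* RingAut F,
    ∀ (g : normalizer (ι.range : Set G)) (c : F) (v : Fin 2 → F),
      (g : G) • c • v = σ g c • (g : G) • v := by
  have key : ∀ (g : G) (a b : F), a • g • (e0 : Fin 2 → F) = b • g • e0 → a = b :=
    fun g a b e => smul_left_injective F (smul_e0_ne g) e
  let : MulSemiringAction (normalizer (ι.range : Set G)) F :=
    { smul := fun g c => sc (g : G) c
      one_smul := fun c => key 1 _ _ (by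
        change sc (1 : G) c • _ = _
        rw [← h.semi (one_mem _), one_smul, one_smul])
      mul_smul := fun a b c => key (a * b) _ _ (by
        change sc ((a : G) * b) c • _ = sc (a : G) (sc (b : G) c) • _
        rw [← h.semi (mul_mem a.2 b.2), mul_smul, mul_smul, h.semi b.2, h.semi a.2])
      smul_zero := fun a => key a _ _ (by
        change sc (a : G) 0 • _ = _
        rw [← h.semi a.2, zero_smul, zero_smul, smul_zero])
      smul_add := fun a b c => key a _ _ (by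
        change sc (a : G) (b + c) • _ = (sc (a : G) b + sc (a : G) c) • _
        rw [← h.semi a.2, add_smul, add_smul, smul_add, h.semi a.2, h.semi a.2])
      smul_one := fun a => key a _ _ (by
        change sc (a : G) 1 • _ = _
        rw [← h.semi a.2, one_smul, one_smul])
      smul_mul := fun a b c => key a _ _ (by
        change sc (a : G) (b * c) • _ = (sc (a : G) b * sc (a : G) c) • _
        rw [← h.semi a.2, mul_smul, mul_smul, h.semi a.2, h.semi a.2]) }
  exact ⟨MulSemiringAction.toRingAut _ F, fun g c v => h.semi g.2 c v⟩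

theorem mem_range {p : ℕ} [Fact p.Prime] [CharP F p] {g : G} {k : ℕ} (hk : g ^ p ^ k = 1)
    (hl : ∀ (c : F) (v : Fin 2 → F), g • c • v = c • g • v) : g ∈ ι.range := by
  let f : (Fin 2 → F) →ₗ[F] Fin 2 → F := ⟨⟨fun v => g • v, smul_add g⟩, hl⟩
  have h1 : ∀ n : ℕ, ∀ v, (f ^ n) v = g ^ n • v := fun n => by
    induction n with
    | zero => simp
    | succ n ih => intro v; rw [pow_succ, pow_succ, Module.End.mul_apply, ih, mul_smul]; rfl
  have h2 : f ^ p ^ k = 1 := LinearMap.ext fun v => by rw [h1, hk, one_smul]; rfl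
  have h3 : LinearMap.det f = 1 := by
    have h4 : (LinearMap.det f - 1) ^ p ^ k = 0 := by
      rw [sub_pow_char_pow, ← map_pow, h2, map_one, one_pow, sub_self]
    exact sub_eq_zero.1 (pow_eq_zero_iff (pow_ne_zero k (Fact.out : p.Prime).ne_zero) |>.1 h4)
  refine ⟨⟨LinearMap.toMatrix' f, by rw [LinearMap.det_toMatrix', h3]⟩, h.eq_of fun v => ?_⟩
  exact (h.act _ _).trans (LinearMap.toMatrix'_mulVec f v)

theorem fix_iff {x : G} (hx : x ∈ Q ι) (h1 : x ≠ 1) {v : Fin 2 → F} : x • v = v ↔ v ∈ W F := by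
  obtain ⟨_, ⟨t, rfl⟩, rfl⟩ := hx
  have ht : t ≠ 0 := by rintro rfl; exact h1 (by rw [H82.uu_zero, map_one])
  rw [h.act, uu_smul, add_eq_left, smul_eq_zero, mul_eq_zero, mem_W]
  simp [ht, e0_ne]

theorem Q_le_E : Q ι ≤ E G F := by
  rintro _ ⟨_, ⟨t, rfl⟩, rfl⟩ v
  rw [h.act, uu_smul]
  exact ⟨by simp [mem_W, e0], fun hv => by rw [mem_W.1 hv]; simp⟩

theorem mem_NW_of_conj {x g : G} (hx : x ∈ Q ι) (h1 : x ≠ 1) (h2 : g⁻¹ * x * g ∈ Q ι) :
    g ∈ NW G F := mem_NW.2 fun v => by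
  rw [← h.fix_iff hx h1, ← h.fix_iff h2 (conj_ne_one h1), mul_smul, mul_smul, inv_smul_eq_iff]

theorem uu_ne {t : F} (ht : t ≠ 0) : ι (uu t) ≠ 1 := fun e =>
  ht (H82.uu_eq_one_iff.1 (h.inj (e.trans (map_one ι).symm)))

theorem normalizer_le_NW : normalizer (Q ι : Set G) ≤ NW G F := fun _ hg =>
  h.mem_NW_of_conj (mem_map_of_mem ι (H82.uu_mem 1)) (h.uu_ne one_ne_zero)
    ((mem_normalizer_iff''.1 hg _).1 (mem_map_of_mem ι (H82.uu_mem 1)))

theorem isPGroup_E (p : ℕ) [CharP F p] : IsPGroup p (E G F) := fun x => ⟨1, Subtype.ext (by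
  refine h.faith _ fun v => ?_
  have h1 : ∀ n : ℕ, (x : G) ^ n • v = v + n • ((x : G) • v - v) := fun n => by
    induction n with
    | zero => simp
    | succ n ih =>
      rw [pow_succ', mul_smul, ih, smul_add, (x.2 _).2 (nsmul_mem (x.2 v).1 n), succ_nsmul]
      abel
  rw [Subgroup.coe_pow, pow_one, h1, ← Nat.cast_smul_eq_nsmul F, CharP.cast_eq_zero, zero_smul,
    add_zero])⟩

theorem normal_of (h1 : NW G F ≤ normalizer (Q ι : Set G))
    (h2 : ∀ g : G, g ∉ NW G F → g • W F ⊓ W F = ⊥) : ι.range.Normal := by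
  have hu : ∀ (t : F) (g : G), g * ι (uu t) * g⁻¹ ∈ ι.range := fun t g => by
    obtain ⟨l, e⟩ := exists_SL2_smul_eq (e0_ne (F := F)) (smul_e0_ne g)
    have h3 : (ι l)⁻¹ * g ∈ NW G F := by
      by_contra h3
      have h4 : ((ι l)⁻¹ * g) • (e0 : Fin 2 → F) = e0 := by
        rw [mul_smul, ← e, ← h.act, inv_smul_smul]
      refine e0_ne (F := F) (AddSubgroup.mem_bot.1 (h2 _ h3 ▸ ⟨?_, e0_mem⟩))
      exact h4 ▸ AddSubgroup.smul_mem_pointwise_smul _ _ _ e0_mem
    obtain ⟨x, -, e1⟩ := (mem_normalizer_iff.1 (h1 h3) _).1 (mem_map_of_mem ι (H82.uu_mem t))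
    exact ⟨l * x * l⁻¹, by rw [map_mul, map_mul, e1, map_inv]; group⟩
  refine ⟨?_⟩
  rintro _ ⟨x, rfl⟩
  refine H82.SL2_ind (fun x => ∀ g, g * ι x * g⁻¹ ∈ ι.range) hu (fun t g => ?_)
    (fun a b ha hb g => ?_) x
  · have := hu (-t) (g * ι (mm 1 one_ne_zero))
    have e := H82.mm_uu (one_ne_zero (α := F)) (-t)
    rw [inv_one, one_pow, mul_one, neg_neg] at e
    rw [← e, map_mul, map_mul, map_inv]
    simpa [mul_assoc] using this
  · simpa [mul_assoc] using mul_mem (ha g) (hb g)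

end Ext

/-- The Sylow hypothesis. -/
structure Syl (ι : SL(2, F) →* G) (p : ℕ) (S : Subgroup G) : Prop extends Ext ι where
  syl : IsSylowIn p S ⊤
  le₁ : Q ι ≤ S
  le₂ : S ≤ normalizer (ι.range : Set G)

namespace Syl

variable [Finite G] [Fintype F] {p : ℕ} [hp : Fact p.Prime] [CharP F p] {S : Subgroup G}
  (h : Syl ι p S)
include h

theorem inf_eq : S ⊓ ι.range = Q ι := by
  obtain ⟨n, -, hn⟩ := FiniteField.card F p
  have := Finite.of_injective ι h.inj
  have h1 := (H82.isSylowIn_UU hn).map ι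
  rw [← MonoidHom.range_eq_map] at h1
  exact h1.eq_of_le (h.syl.isPGroup.to_le inf_le_left) inf_le_right (le_inf h.le₁ h1.le)

theorem le_NQ : S ≤ normalizer (Q ι : Set G) := fun _ hg =>
  h.inf_eq ▸ H9.GW.mem_norm_inf (le_normalizer hg) (h.le₂ hg)

theorem le_NW : S ≤ NW G F := h.le_NQ.trans h.normalizer_le_NW

theorem mem_Q {x : G} (hx : x ∈ S) (hl : ∀ (c : F) (v : Fin 2 → F), x • c • v = c • x • v) :
    x ∈ Q ι := by
  obtain ⟨k, hk⟩ := h.syl.isPGroup ⟨x, hx⟩
  exact h.inf_eq ▸ ⟨hx, h.mem_range (congrArg Subtype.val hk) hl⟩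

theorem E_eq : E G F = Q ι := by
  refine le_antisymm (fun x hx => ?_) h.Q_le_E
  have h1 := h.syl.le_of_le_normalizer (h.isPGroup_E p) le_top
    (h.le_NW.trans NW_le_normalizer_E) hx
  refine h.mem_Q h1 fun c v => ?_
  have h2 := h.semi (h.le₂ h1) c e0
  rw [(hx _).2 e0_mem, (hx _).2 (by simp [mem_W, e0])] at h2
  rw [h.semi (h.le₂ h1), ← smul_left_injective F e0_ne h2]

theorem NW_le : NW G F ≤ normalizer (Q ι : Set G) := h.E_eq ▸ NW_le_normalizer_E

theorem exists_conj {P : Subgroup G} (hP : IsPGroup p P) (h1 : P ≤ NW G F) :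
    ∃ n ∈ normalizer (Q ι : Set G), ∀ x ∈ P, n * x * n⁻¹ ∈ S := by
  obtain ⟨n, hn, e⟩ := (h.syl.mono h.le_NW le_top).exists_conj_le hP h1
  exact ⟨n, h.NW_le hn, fun x hx => e (conj_mem_conj_smul.2 hx)⟩

theorem exists_fused {g₀ : G} (h1 : g₀ ∉ NW G F) (h2 : g₀ • W F ⊓ W F ≠ ⊥) :
    ∃ g a : G, a ∈ S ∧ a ∉ Q ι ∧ g⁻¹ * a * g ∈ Q ι := by
  obtain ⟨g, hg, hmax⟩ := Set.exists_max_image {g : G | g ∉ NW G F}
    (fun g => Nat.card (g • W F ⊓ W F : AddSubgroup _)) (Set.toFinite _) ⟨g₀, h1⟩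
  have h3 : g • W F ⊓ W F ≠ ⊥ := fun e => h2 (AddSubgroup.eq_bot_of_card_le _ (by
    simpa [e] using hmax g₀ h1))
  obtain ⟨⟨u, hu1, hu2⟩, hu⟩ := AddSubgroup.ne_bot_iff_exists_ne_zero.1 h3
  replace hu : u ≠ 0 := fun e => hu (Subtype.ext e)
  obtain ⟨w, hw1, hw2⟩ : ∃ w ∈ W F, w ∉ g • W F := by
    by_contra h4
    push Not at h4
    refine hg (AddSubgroup.eq_of_le_of_card_ge (H := W F) h4 (le_of_eq ?_)).symm
    exact AddSubgroup.card_map_of_injective (MulAction.injective g)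
  replace hu1 := AddSubgroup.mem_pointwise_smul_iff_inv_smul_mem.1 hu1
  rw [AddSubgroup.mem_pointwise_smul_iff_inv_smul_mem] at hw2
  set x := ι (uu ((g⁻¹ • u) 0 / (g⁻¹ • w) 1)) with hx
  have hxQ : x ∈ Q ι := mem_map_of_mem ι (H82.uu_mem _)
  have e1 : (g * x * g⁻¹) • w = w + u := by
    rw [mul_smul, mul_smul, h.act, uu_smul, div_mul_cancel₀ _ (show (g⁻¹ • w) 1 ≠ 0 from hw2), ← eq_smul_e0 hu1, smul_add,
      smul_inv_smul, smul_inv_smul]
  have e2 : ∀ v ∈ g • W F, (g * x * g⁻¹) • v = v := fun v hv => by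
    rw [AddSubgroup.mem_pointwise_smul_iff_inv_smul_mem] at hv
    rw [mul_smul, mul_smul, (h.Q_le_E hxQ _).2 hv, smul_inv_smul]
  have h4 : g * x * g⁻¹ ∈ NW G F := by
    by_contra h4
    have h5 : g • W F ⊓ W F ≤ (g * x * g⁻¹) • W F ⊓ W F := fun v hv =>
      ⟨e2 v hv.1 ▸ AddSubgroup.smul_mem_pointwise_smul _ _ _ hv.2, hv.2⟩
    have h6 : w + u ∈ g • W F ⊓ W F := AddSubgroup.eq_of_le_of_card_ge h5 (hmax _ h4) ▸
      ⟨e1 ▸ AddSubgroup.smul_mem_pointwise_smul _ _ _ hw1, add_mem hw1 hu2⟩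
    have h7 := AddSubgroup.mem_pointwise_smul_iff_inv_smul_mem.1 h6.1
    rw [smul_add] at h7
    exact hw2 ((add_mem_cancel_right hu1).1 h7)
  obtain ⟨n, hn, e⟩ := h.exists_conj (P := zpowers (g * x * g⁻¹))
    ((isPGroup_conj_smul (h.syl.isPGroup.to_le h.le₁) g).to_le
      (zpowers_le.2 (conj_mem_conj_smul.2 hxQ))) (zpowers_le.2 h4)
  refine ⟨n * g, _, e _ (mem_zpowers _), fun h5 => hu ?_, by simpa [mul_assoc] using hxQ⟩
  have h6 := (h.Q_le_E ((mem_normalizer_iff.1 hn _).2 h5) w).2 hw1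
  rwa [e1, add_eq_left] at h6

theorem card_Q : Nat.card (Q ι) = Fintype.card F := by
  rw [card_map_of_injective h.inj, H82.card_UU, Nat.card_eq_fintype_card]

theorem comm_Q {x y : G} (hx : x ∈ Q ι) (hy : y ∈ Q ι) : x * y = y * x := by
  obtain ⟨_, ⟨s, rfl⟩, rfl⟩ := hx
  obtain ⟨_, ⟨t, rfl⟩, rfl⟩ := hy
  rw [← map_mul, ← map_mul, H82.uu_comm]

theorem pow_Q {x : G} (hx : x ∈ Q ι) : x ^ p = 1 := by
  obtain ⟨_, ⟨s, rfl⟩, rfl⟩ := hx
  rw [← map_pow, H82.uu_pow, CharP.cast_eq_zero, zero_mul, H82.uu_zero, map_one]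

theorem exists_hom : ∃ σ : S →* RingAut F, σ.ker = (Q ι).subgroupOf S ∧
    ∀ (g : S) (c : F) (v : Fin 2 → F), (g : G) • c • v = σ g c • (g : G) • v := by
  obtain ⟨σ, hσ⟩ := h.exists_sigma
  refine ⟨σ.comp (inclusion h.le₂), le_antisymm (fun x hx => h.mem_Q x.2 fun c v => ?_)
    fun x hx => RingEquiv.ext fun c => ?_, fun g => hσ (inclusion h.le₂ g)⟩
  · have := hσ (inclusion h.le₂ x) c v
    rwa [show σ (inclusion h.le₂ x) = 1 from hx] at this
  · have h1 := hσ (inclusion h.le₂ x) c e0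
    replace hx := h.Q_le_E (show (x : G) ∈ Q ι from hx)
    rw [coe_inclusion, (hx _).2 e0_mem, (hx _).2 (by simp [mem_W, e0])] at h1
    exact (smul_left_injective F e0_ne h1).symm

theorem card_four {g a : G} (h1 : a ∈ S) (h2 : a ∉ Q ι) (h3 : g⁻¹ * a * g ∈ Q ι) :
    p = 2 ∧ Fintype.card F = 4 ∧ Nat.card S ≤ 8 := by
  obtain ⟨σ, hk, hσ⟩ := h.exists_hom
  have hne : σ ⟨a, h1⟩ ≠ 1 := fun e => h2 (show (⟨a, h1⟩ : S) ∈ (Q ι).subgroupOf S from hk ▸ e)
  have hx := h.Q_le_E h3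
  have e1 : ∀ v : Fin 2 → F, a • g • v = g • (g⁻¹ * a * g) • v := fun v => by
    rw [← mul_smul, ← mul_smul]; group
  have hp2 : p = 2 := by
    set τ := σ ⟨a, h1⟩
    have h4 : ∀ c : F, a • c • g • (e0 : Fin 2 → F) = τ c • g • e0 := fun c => by
      rw [hσ ⟨a, h1⟩, e1, (hx _).2 e0_mem]
    have h5 : ∀ c : F, τ (τ c - c) = τ c - c := fun c => by
      have h6 := (hx _).2 (hx (g⁻¹ • c • g • e0)).1
      rw [← smul_left_cancel_iff g, ← e1, smul_sub, ← e1, smul_inv_smul, h4, ← sub_smul, h4] at h6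
      exact smul_left_injective F (smul_e0_ne g) h6
    obtain ⟨c, hc⟩ := not_forall.1 fun e => hne (RingEquiv.ext e)
    have h6 := h5 (c ^ 2)
    have h7 := h5 c
    rw [map_sub] at h7
    rw [map_sub, map_pow, map_pow, eq_add_of_sub_eq h7] at h6
    have h8 : (2 : F) * (τ c - c) ^ 2 = 0 := by linear_combination h6
    have h9 : ((2 : ℕ) : F) = 0 :=
      (mul_eq_zero.1 h8).resolve_right (pow_ne_zero 2 (sub_ne_zero.2 hc))
    exact (Nat.prime_dvd_prime_iff_eq hp.out Nat.prime_two).1 ((CharP.cast_eq_zero_iff F p 2).1 h9)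
  subst hp2
  have sq : ∀ x ∈ Q ι, x * x = 1 := fun x hx => by rw [← sq, h.pow_Q hx]
  have ha : a * a = 1 := by
    have := sq _ h3
    calc a * a = g * (g⁻¹ * a * g * (g⁻¹ * a * g)) * g⁻¹ := by group
      _ = 1 := by rw [this]; group
  have hx1 : g⁻¹ * a * g ≠ 1 := conj_ne_one fun e => h2 (e ▸ one_mem _)
  have : Finite (RingAut F) := Finite.of_injective _ DFunLike.coe_injective
  have hN := h.le_NQ h1
  have c1 : Nat.card (Q ι ⊓ centralizer {a} : Subgroup G) ≤ 2 := by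
    obtain ⟨n, hn, e⟩ := h.exists_conj (isPGroup_conj_smul ((h.syl.isPGroup.to_le h.le₁).to_le
      (inf_le_left : Q ι ⊓ centralizer {a} ≤ _)) g⁻¹) fun y hy => h.mem_NW_of_conj h3 hx1 (by
        have := mem_centralizer_singleton_iff.1 (mem_conj_smul.1 hy).2
        rw [inv_inv] at this
        rwa [show y⁻¹ * (g⁻¹ * a * g) * y = g⁻¹ * a * g by
          calc _ = y⁻¹ * g⁻¹ * (a * (g * y * g⁻¹)) * g := by group
            _ = _ := by rw [← this]; group])
    have := H73.isCyclic_ringAut (F := F)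
    classical
    have := Fintype.ofFinite (RingAut F)
    let φ : (Q ι ⊓ centralizer {a} : Subgroup G) →* S :=
      ((MulAut.conj (n * g⁻¹)).toMonoidHom.comp (Subgroup.subtype _)).codRestrict S fun y => by
        simpa [mul_assoc] using e _ (conj_mem_conj_smul.2 y.2)
    have h4 : Function.Injective (σ.comp φ) := (injective_iff_map_eq_one _).2 fun y hy => by
      by_contra h5
      have h6 : n * g⁻¹ * y * (n * g⁻¹)⁻¹ ∈ Q ι := show φ y ∈ (Q ι).subgroupOf S from hk ▸ hy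
      have h7 := h.NW_le (h.mem_NW_of_conj (g := (n * g⁻¹)⁻¹) y.2.1
        (fun e => h5 (Subtype.ext e)) (by rwa [inv_inv]))
      rw [inv_mem_iff, mul_mem_cancel_left hn, inv_mem_iff] at h7
      exact h2 ((mem_normalizer_iff''.1 h7 a).2 h3)
    refine le_trans ?_ (IsCyclic.card_pow_eq_one_le (α := RingAut F) (n := 2) two_pos)
    rw [← Fintype.card_coe, ← Nat.card_eq_fintype_card]
    exact Nat.card_le_card_of_injective (fun y => ⟨σ.comp φ y, by
      rw [Finset.mem_filter, ← map_pow, show y ^ 2 = 1 from Subtype.ext (h.pow_Q y.2.1), map_one]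
      exact ⟨Finset.mem_univ _, rfl⟩⟩) fun y y' e => h4 (congrArg Subtype.val e)
  have c2 : (centralizer {a}).relIndex (Q ι) ≤ Nat.card (Q ι ⊓ centralizer {a} : Subgroup G) := by
    rw [H39.relIndex_centralizer_eq_ncard, ← Nat.card_coe_set_eq]
    refine Nat.card_le_card_of_injective (fun y => ⟨y.1 * a⁻¹, ?_⟩) fun y y' e =>
      Subtype.ext (mul_right_cancel (congrArg Subtype.val e))
    obtain ⟨_, n, hn, rfl⟩ := y
    have h4 := (mem_normalizer_iff.1 hN n⁻¹).1 (inv_mem hn)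
    refine ⟨by simpa [mul_assoc] using mul_mem hn h4, mem_centralizer_singleton_iff.2 ?_⟩
    have h5 := h.comm_Q hn h4
    have h6 : n⁻¹ = n := inv_eq_of_mul_eq_one_right (sq n hn)
    have h7 : a⁻¹ = a := inv_eq_of_mul_eq_one_right ha
    simp only [h6, h7] at h5 ⊢
    calc n * a * n * a * a = n * (a * n * a) * a := by group
      _ = _ := by rw [h5]; group
  have c3 := card_eq_card_mul_relIndex (inf_le_left : Q ι ⊓ centralizer {a} ≤ Q ι)
  rw [inf_relIndex_left, h.card_Q] at c3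
  obtain ⟨f, -, hf⟩ := FiniteField.card F 2
  have c4 := H73.card_ringAut hf
  have c5 : 1 < Nat.card (RingAut F) := Finite.one_lt_card_iff_nontrivial.2 ⟨_, _, hne⟩
  have c6 : 2 ^ 2 ≤ 2 ^ (f : ℕ) := Nat.pow_le_pow_right two_pos (by omega)
  have c7 : Fintype.card F = 4 := le_antisymm (c3 ▸ Nat.mul_le_mul c1 (c2.trans c1)) (by omega)
  have c8 : (f : ℕ) = 2 := Nat.pow_right_injective le_rfl (show 2 ^ (f : ℕ) = 2 ^ 2 by omega)
  refine ⟨rfl, c7, ?_⟩
  have c9 := card_le_card_group σ.range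
  rw [← σ.ker.index_mul_card, index_ker, hk, Nat.card_congr (subgroupOfEquivOfLe h.le₁).toEquiv,
    h.card_Q, c7]
  omega

theorem pCore_eq_bot : pCore p G = ⊥ := by
  have := pCore_normal p G
  obtain ⟨m, hm, h1⟩ := H82.exists_not_mem_smul_sub_mem (M := Fin 2 → F) (H3.pCore_isPGroup p G)
    (fun x => ⟨1, by
      rw [pow_one, ← ofAdd_toAdd x, ← ofAdd_nsmul, ← Nat.cast_smul_eq_nsmul F, CharP.cast_eq_zero,
        zero_smul, ofAdd_zero]⟩) ⊥ (fun g _ w hw => by rw [AddSubgroup.mem_bot.1 hw, smul_zero]; rfl)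
    bot_ne_top
  refine eq_bot_iff.2 fun x hx => h.faith x fun v => ?_
  rcases eq_or_ne v 0 with rfl | hv
  · exact smul_zero x
  obtain ⟨l, rfl⟩ := exists_SL2_smul_eq (show m ≠ 0 from hm) hv
  have h2 := sub_eq_zero.1 (h1 _ (this.conj_mem' x hx (ι l)))
  rwa [mul_smul, mul_smul, inv_smul_eq_iff, h.act] at h2

end Syl

theorem Syl.pPrimeCore_eq_bot [Finite G] [Fintype F] [CharP F 2] {S : Subgroup G} (h : Syl ι 2 S)
    (hF : Fintype.card F = 4) {g : G} (h1 : g ∉ NW G F) (h2 : g • W F ⊓ W F ≠ ⊥) :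
    pPrimeCore 2 G = ⊥ := by
  have hn := pPrimeCore_normal 2 G
  have ho : Odd (Nat.card (pPrimeCore 2 G)) := Nat.coprime_two_right.1 (H3.pPrimeCore_coprime 2 G)
  generalize pPrimeCore 2 G = O at hn ho
  have hQ := h.syl.isPGroup.to_le h.le₁
  have hO : normalizer (O : Set G) = ⊤ := normalizer_eq_top_iff.2 hn
  have h3 : ∀ x ∈ Q ι, x ≠ 1 → O ⊓ H9.GW.Cz x ≤ centralizer (Q ι : Set G) := fun x hx hx1 =>
    H9.GW.comm_of_odd_of_two (H9.GW.odd_of_le inf_le_left ho) hQ
      (fun y hy => h.NW_le (h.mem_NW_of_conj hx hx1 (by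
        rwa [mul_assoc, ← H9.GW.mem_Cz.1 hy.2, inv_mul_cancel_left])))
      fun y hy => H9.GW.mem_norm_inf (hO ▸ mem_top y)
        (le_normalizer (H9.GW.mem_Cz.2 (h.comm_Q hy hx)))
  obtain ⟨ω, h4, h5⟩ : ∃ ω : F, ω ≠ 0 ∧ ω ≠ 1 := by
    classical
    by_contra h4
    push Not at h4
    have := Finset.card_le_card (show (Finset.univ : Finset F) ⊆ {0, 1} from fun x _ => by
      by_cases h5 : x = 0
      · simp [h5]
      · simp [h4 x h5])
    have := Finset.card_le_two (a := (0 : F)) (b := 1)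
    rw [Finset.card_univ] at *
    omega
  have m : ∀ t : F, ι (uu t) ∈ Q ι := fun t => mem_map_of_mem ι (H82.uu_mem t)
  have o : ∀ t : F, t ≠ 0 → orderOf (ι (uu t)) = 2 := fun t ht =>
    orderOf_eq_prime (h.pow_Q (m t)) (h.uu_ne ht)
  have hne : ι (uu 1) ≠ ι (uu ω) := fun e => h5 (H82.uu_injective (h.inj e)).symm
  have h6 : O ≤ centralizer (Q ι : Set G) := H9.GW.le_of_V4 (o 1 one_ne_zero) (o ω h4) hne
    (h.comm_Q (m 1) (m ω)) ho (hO ▸ mem_top _) (hO ▸ mem_top _)
    (h3 _ (m 1) (h.uu_ne one_ne_zero)) (h3 _ (m ω) (h.uu_ne h4))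
    (h3 _ (mul_mem (m 1) (m ω)) (H9.GW.ne_one_of_ord
      (H9.GW.ord_mul (o 1 one_ne_zero) (o ω h4) hne (h.comm_Q (m 1) (m ω)))))
  have h7 : O ≤ NW G F := h6.trans ((centralizer_le_normalizer _).trans h.normalizer_le_NW)
  have h8 : Nat.card (g • W F ⊓ W F : AddSubgroup _) = 2 := by
    have h9 := AddSubgroup.card_dvd_of_le (inf_le_right : g • W F ⊓ W F ≤ W F)
    have h10 : Nat.card (W F) = 2 ^ 2 := by rw [card_W, Nat.card_eq_fintype_card, hF]; rfl
    obtain ⟨k, hk, e⟩ := (Nat.dvd_prime_pow Nat.prime_two).1 (h10 ▸ h9)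
    interval_cases k
    · exact (h2 (AddSubgroup.eq_bot_of_card_eq _ e)).elim
    · exact e
    · refine (h1 (AddSubgroup.eq_of_le_of_card_ge (H := W F) (inf_eq_right.1
        (AddSubgroup.eq_of_le_of_card_ge inf_le_right (by omega))) (le_of_eq ?_)).symm).elim
      exact AddSubgroup.card_map_of_injective (MulAction.injective g)
  obtain ⟨u, hu, hu'⟩ := (Nat.card_eq_two_iff' (0 : (g • W F ⊓ W F : AddSubgroup _))).1 h8
  have hu0 : u.1 ≠ 0 := fun e => hu (Subtype.ext e)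
  have h9 : ∀ c ∈ O, c • u.1 = u.1 := fun c hc => congrArg Subtype.val (hu' ⟨c • u.1, by
    have h10 := (mem_NW.1 (h7 (hn.conj_mem' c hc g)) _).2
      (AddSubgroup.mem_pointwise_smul_iff_inv_smul_mem.1 u.2.1)
    rw [mul_smul, mul_smul, smul_inv_smul] at h10
    exact AddSubgroup.mem_pointwise_smul_iff_inv_smul_mem.2 h10, (mem_NW.1 (h7 hc) _).2 u.2.2⟩
    fun e => (smul_ne_zero_iff_ne c).2 hu0 (congrArg Subtype.val e))
  refine eq_bot_iff.2 fun x hx => h.faith x fun v => ?_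
  rcases eq_or_ne v 0 with rfl | hv
  · exact smul_zero x
  obtain ⟨l, rfl⟩ := exists_SL2_smul_eq hu0 hv
  have h10 := h9 _ (hn.conj_mem' x hx (ι l))
  rwa [mul_smul, mul_smul, inv_smul_eq_iff, h.act] at h10

theorem main [Finite G] [Fintype F] {p : ℕ} [hp : Fact p.Prime] [CharP F p] {S : Subgroup G}
    (h : Syl ι p S) :
    ι.range.Normal ∨ (Fintype.card F = 4 ∧ Nonempty (G ≃* alternatingGroup (Fin 7))) := by
  by_cases h0 : ∀ g : G, g ∉ NW G F → g • W F ⊓ W F = ⊥
  · exact Or.inl (h.normal_of h.NW_le h0)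
  push Not at h0
  obtain ⟨g₀, h1, h2⟩ := h0
  obtain ⟨g, a, h3, h4, h5⟩ := h.exists_fused h1 h2
  obtain ⟨rfl, hF, hS⟩ := h.card_four h3 h4 h5
  let := ZMod.algebra F 2
  have hr : Module.finrank (ZMod 2) (Fin 2 → F) = 4 := by
    have h6 := FiniteField.pow_finrank_eq_card 2 F
    have h7 : Module.finrank (ZMod 2) F = 2 := Nat.pow_right_injective le_rfl (h6.trans hF)
    rw [Module.finrank_pi_fintype, h7]
    simp
  let b := Module.finBasisOfFinrankEq (ZMod 2) (Fin 2 → F) hr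
  let φ₀ : G →* Module.End (ZMod 2) (Fin 2 → F) :=
    { toFun := fun g => (DistribSMul.toAddMonoidHom (Fin 2 → F) g).toZModLinearMap 2
      map_one' := LinearMap.ext fun v => one_smul G v
      map_mul' := fun a b => LinearMap.ext fun v => mul_smul a b v }
  let φ : G →* GL (Fin 4) (ZMod 2) :=
    ((LinearMap.toMatrixAlgEquiv b).toMonoidHom.comp φ₀).toHomUnits
  have hφ : Function.Injective φ := fun x y e => h.eq_of fun v =>
    LinearMap.congr_fun ((LinearMap.toMatrixAlgEquiv b).injective (congrArg Units.val e)) v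
  have e := MonoidHom.ofInjective hφ
  have hL : Nat.card ι.range = 60 := by
    rw [← Nat.card_congr (MonoidHom.ofInjective h.inj).toEquiv, H28.card_SL2 hF]
    norm_num
  have hd := hL ▸ ι.range.card_subgroup_dvd_card
  have hi := ι.range.index_mul_card
  rw [hL] at hi
  have h16 : ¬ 2 ^ 4 ∣ Nat.card G := fun h6 => by
    have h7 := h.syl.card_eq
    rw [card_top] at h7
    have h8 := (Nat.prime_two.pow_dvd_iff_le_factorization Nat.card_pos.ne').1 h6
    have := Nat.pow_le_pow_right two_pos h8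
    omega
  rcases S2553.result φ.range (fun e1 => by
      rw [Nat.card_congr e.toEquiv, e1, card_bot] at hd; omega)
    (by rw [← H3.map_pPrimeCore_equiv e, h.pPrimeCore_eq_bot hF h1 h2, Subgroup.map_bot])
    (by rw [← H3.map_pCore_equiv e, h.pCore_eq_bot, Subgroup.map_bot]) with
    ⟨n, n5, n8, ⟨f⟩⟩ | ⟨⟨f⟩⟩ | ⟨⟨f⟩⟩ | ⟨⟨f⟩⟩ <;> have hc := Nat.card_congr (e.trans f).toEquiv
  · have : Nontrivial (Fin n) := Fin.nontrivial_iff_two_le.2 (by omega)
    rw [nat_card_alternatingGroup, Nat.card_fin] at hc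
    interval_cases n
    · left
      rw [index_eq_one.1 (show ι.range.index = 1 by simp [Nat.factorial] at hc; omega)]
      infer_instance
    · left
      have := alternatingGroup.isSimpleGroup (α := Fin 6) (by simp)
      have := (e.trans f).isSimpleGroup
      rw [← normalizer_eq_top_iff]
      by_contra h6
      have h7 := H58.two_mul_card_dvd_index_factorial (fun h' => h6 (by
        rw [normalizer_eq_top_iff]; infer_instance)) h6
      have h8 : 8 ∣ Nat.card S := by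
        rw [h.syl.card_eq, card_top]
        exact pow_dvd_pow 2 ((Nat.prime_two.pow_dvd_iff_le_factorization (k := 3)
          Nat.card_pos.ne').1 (by rw [hc]; decide))
      have h9 := Nat.lcm_dvd (h8.trans (card_dvd_of_le h.le₂)) (hL ▸ card_dvd_of_le le_normalizer)
      have h10 := Nat.le_of_dvd Nat.card_pos h9
      generalize normalizer (ι.range : Set G) = N at h7 h10
      have h11 := N.index_mul_card
      have h12 : N.index ≤ 3 := by
        by_contra h12
        have := Nat.mul_le_mul (not_le.1 h12) h10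
        simp [Nat.factorial, show Nat.lcm 8 60 = 120 by norm_num] at hc this
        omega
      have := Nat.le_of_dvd (Nat.factorial_pos _) (h7.trans (Nat.factorial_dvd_factorial h12))
      simp [Nat.factorial] at hc this
      omega
    · exact Or.inr ⟨hF, ⟨e.trans f⟩⟩
    · exact (h16 (by rw [hc]; decide)).elim
  · refine Or.inl (normal_of_index_eq_two ?_)
    simp [Fintype.card_perm, Nat.factorial] at hc
    omega
  · exact (h16 (by rw [hc]; simp [Fintype.card_perm, Nat.factorial])).elim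
  · rw [hc, Matrix.card_GL_field] at hd
    simp [Fin.prod_univ_three] at hd

end Cfsg.Agent.H18.NS
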