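import Cfsg.Agent.H42.PcDefs

set_option autoImplicit false

namespace Cfsg.Agent.H18.PcOrb

open Subgroup MulAction Cfsg.Agent.H42.Pc

universe u

theorem orb : OrbStmt.{u} := by
  intro S Ω _ _ _ _ T A c l hT hl hΩ hc hA inv cov x hx s hs
  classical
  by_contra hn
  have : Fact (Nat.Prime 2) := ⟨Nat.prime_two⟩
  have := Fintype.ofFinite Ω
  have := Fintype.ofFinite (orbitRel.Quotient S Ω)
  let f : Ω → orbitRel.Quotient S Ω := Quotient.mk''
  have fe : ∀ a b, f a = f b ↔ a ∈ orbit S b := fun a b => Quotient.eq''.trans orbitRel_apply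
  have h1 : Nat.card Ω * c = Fintype.card (orbitRel.Quotient S Ω) * Nat.card S := by
    rw [Nat.card_eq_fintype_card, ← Finset.card_univ,
      Finset.card_eq_sum_card_fiberwise (f := f) (t := Finset.univ) fun _ _ => Finset.mem_univ _,
      Finset.sum_mul, ← Finset.card_univ, ← smul_eq_mul, ← Finset.sum_const]
    refine Finset.sum_congr rfl fun q _ => ?_
    obtain ⟨r, rfl⟩ : ∃ r, f r = q := Quotient.exists_rep q
    have e := (stabilizer S r).card_mul_index
    rw [hc, index_stabilizer] at e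
    rw [← e, mul_comm, ← Set.ncard_coe_finset]
    congr 2
    ext a
    simp [fe]
  set ν := Fintype.card (orbitRel.Quotient S Ω)
  have p0 : 0 < Nat.card Ω := Nat.card_pos_iff.2 ⟨⟨x⟩, inferInstance⟩
  have n0 : 0 < ν := Fintype.card_pos_iff.2 ⟨f x⟩
  have h2 : c = ν * l := by
    rw [← hΩ, mul_left_comm] at h1
    exact Nat.eq_of_mul_eq_mul_left p0 h1
  have h3 : ∀ r : Ω, Nat.card T ≤ ν * (orbit T r).ncard := fun r => by
    have e := (stabilizer T r).card_mul_index
    rw [index_stabilizer] at e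
    obtain ⟨k, hk⟩ := IsPGroup.iff_card.1 (hT.to_subgroup (stabilizer T r))
    have d : Nat.card (stabilizer T r) ∣ ν * l := by
      rw [← h2, ← hc r, ← card_map_of_injective T.subtype_injective]
      refine card_dvd_of_le ?_
      rintro _ ⟨g, hg, rfl⟩
      exact hg
    have d2 : Nat.card (stabilizer T r) ∣ ν := by
      refine Nat.Coprime.dvd_of_dvd_mul_right ?_ d
      rw [hk]
      exact Nat.Coprime.pow_left _ (Nat.coprime_two_left.2 hl)
    rw [← e]
    exact Nat.mul_le_mul_right _ (Nat.le_of_dvd n0 d2)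
  let B : Finset Ω := Finset.univ.filter fun a => a ∈ A ∧ a ≠ s • x
  have h4 : ν * Nat.card T ≤ ν * B.card := by
    rw [Finset.card_eq_sum_card_fiberwise (s := B) (f := f) (t := Finset.univ)
      fun _ _ => Finset.mem_univ _, Finset.mul_sum]
    conv_lhs => rw [show ν = (Finset.univ : Finset (orbitRel.Quotient S Ω)).card from rfl,
      ← smul_eq_mul, ← Finset.sum_const]
    refine Finset.sum_le_sum fun q _ => ?_
    have : ∃ r ∈ A, f r = q ∧ s • x ∉ orbit T r := by
      by_cases e : f x = q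
      · exact ⟨x, hx, e, fun ⟨t, ht⟩ => hn ⟨t, t.2, ht⟩⟩
      obtain ⟨r, rfl⟩ : ∃ r, f r = q := Quotient.exists_rep q
      obtain ⟨g, hg⟩ := cov r
      refine ⟨g • r, hg, (fe _ _).2 ⟨g, rfl⟩, fun ⟨t, ht⟩ => e ((fe _ _).2 ⟨s⁻¹ * t * g, ?_⟩)⟩
      have ht' : (t : S) • g • r = s • x := ht
      show (s⁻¹ * t * g) • r = x
      rw [mul_smul, mul_smul, ht', inv_smul_smul]
    obtain ⟨r, r1, r2, r3⟩ := this
    refine (h3 r).trans (Nat.mul_le_mul_left _ ?_)
    rw [← Set.ncard_coe_finset]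
    refine Set.ncard_le_ncard ?_ (Set.toFinite _)
    rintro _ ⟨t, rfl⟩
    refine Finset.mem_coe.2 (Finset.mem_filter.2 ⟨Finset.mem_filter.2 ⟨Finset.mem_univ _,
      inv r r1 t t.2, fun e => r3 ⟨t, e⟩⟩, ?_⟩)
    exact ((fe _ _).2 ⟨t, rfl⟩).trans r2
  have h5 : B.card < Nat.card T := by
    rw [← hA, Nat.card_coe_set_eq, ← Set.ncard_coe_finset]
    refine Set.ncard_lt_ncard ⟨fun a ha => (Finset.mem_filter.1 ha).2.1, fun h => ?_⟩
      (Set.toFinite _)
    exact (Finset.mem_filter.1 (h hs)).2.2 rfl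
  exact absurd (Nat.le_of_mul_le_mul_left h4 n0) (by omega)

end Cfsg.Agent.H18.PcOrb
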