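import Cfsg.Agent.H36.NonDeg

/-! Root involutions: special pairs, natural lines, the sets `W_d`. -/

set_option autoImplicit false

namespace Cfsg.Agent.H18RI

open Cfsg Cfsg.Agent.H36

variable {G : Type*} [Group G] {D : Set G}

/-- `u` and `p` are a special pair with commutator `q` -/
structure Sp (D : Set G) (u p q : G) : Prop where
  hu : u ∈ D
  hp : p ∈ D
  hq : q ∈ D
  e : u * p * u = p * q
  pq : p * q = q * p
  uq : u * q = q * u

namespace Sp

variable {u p q : G}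

theorem sq (hD : RI D) (h : Sp D u p q) : (u * p) ^ 2 = q := by
  calc (u * p) ^ 2 = (u * p * u) * p := by simp only [pow_two, mul_assoc]
    _ = q := by rw [h.e, h.pq, mul_assoc, hD.sq h.hp, mul_one]

theorem symm (hD : RI D) (h : Sp D u p q) : Sp D p u q := by
  refine ⟨h.hp, h.hu, h.hq, ?_, h.uq, h.pq⟩
  have h1 := h.sq hD
  rw [← h1]
  simp only [pow_two, mul_assoc, sq' (hD.sq h.hu)]

theorem mul_mem (hD : RI D) (h : Sp D u p q) : p * q ∈ D := h.e ▸ hD.conj p h.hp u h.hu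

theorem mul_mem' (hD : RI D) (h : Sp D u p q) : u * q ∈ D := (h.symm hD).mul_mem hD

theorem ne (hD : RI D) (h : Sp D u p q) : u * p ≠ p * u := by
  intro e
  have h1 := h.e
  rw [e, mul_assoc, hD.sq h.hu, mul_one] at h1
  exact hD.ne_one h.hq (by simpa using h1)

theorem not_opp (hD : RI D) (h : Sp D u p q) : ¬ Opp u p := by
  apply hD.not_opp_of_four h.hp
  rw [show (4 : ℕ) = 2 * 2 from rfl, pow_mul, h.sq hD, pow_two, hD.sq h.hq]

theorem unique {q' : G} (h : Sp D u p q) (h' : Sp D u p q') : q = q' :=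
  mul_left_cancel (h.e.symm.trans h'.e)

theorem e2 (hD : RI D) (h : Sp D u p q) : u * (p * q) * u = p := by
  rw [← h.e]; simp only [mul_assoc, sq' (hD.sq h.hu), hD.sq h.hu, mul_one]

theorem eq (hD : RI D) (h : Sp D u p q) : u * q * u = q := by
  rw [h.uq, mul_assoc, hD.sq h.hu, mul_one]

theorem mul (hD : RI D) (h : Sp D u p q) : Sp D u (p * q) q := by
  refine ⟨h.hu, h.mul_mem hD, h.hq, ?_, ?_, h.uq⟩
  · rw [h.e2 hD, mul_assoc, hD.sq h.hq, mul_one]
  · rw [mul_assoc, hD.sq h.hq, mul_one, h.pq, sq' (hD.sq h.hq)]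

theorem conj (hD : RI D) (h : Sp D u p q) {g : G} (hg : g ∈ Subgroup.closure D) :
    Sp D (g * u * g⁻¹) (g * p * g⁻¹) (g * q * g⁻¹) := by
  refine ⟨hD.conj_mem hg h.hu, hD.conj_mem hg h.hp, hD.conj_mem hg h.hq, ?_, ?_, ?_⟩
  · calc _ = g * (u * p * u) * g⁻¹ := by group
      _ = _ := by rw [h.e]; group
  · calc _ = g * (p * q) * g⁻¹ := by group
      _ = _ := by rw [h.pq]; group
  · calc _ = g * (u * q) * g⁻¹ := by group
      _ = _ := by rw [h.uq]; group

end Sp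

theorem sp_of (hD : RI D) {u p : G} (hu : u ∈ D) (hp : p ∈ D) (h : ¬ Opp u p)
    (hc : u * p ≠ p * u) : Sp D u p ((u * p) ^ 2) := by
  obtain ⟨h1, h2, h3, -, h5, -, -⟩ := hD.comm_facts hu hp h hc
  exact ⟨hu, hp, h1, by rw [← h5, h3], h3.symm, h2.symm⟩

theorem exists_sp (hD : RI D) {u p : G} (hu : u ∈ D) (hp : p ∈ D) (h : ¬ Opp u p)
    (hc : u * p ≠ p * u) : ∃ q, Sp D u p q := ⟨_, sp_of hD hu hp h hc⟩

/-- a special pair from the action -/
theorem sp_mk (hD : RI D) {u p q : G} (hu : u ∈ D) (hp : p ∈ D) (hq : q ∈ D)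
    (e : u * p * u = p * q) : Sp D u p q := by
  have hpq : p * q ∈ D := e ▸ hD.conj p hp u hu
  have h1 : p * q = q * p := comm_of_sq (hD.sq hp) (hD.sq hq) (by rw [pow_two]; exact hD.sq hpq)
  have h2 : (u * p) ^ 2 = q := by
    calc (u * p) ^ 2 = (u * p * u) * p := by simp only [pow_two, mul_assoc]
      _ = q := by rw [e, h1, mul_assoc, hD.sq hp, mul_one]
  have h4 : (u * p) ^ 4 = 1 := by
    rw [show (4 : ℕ) = 2 * 2 from rfl, pow_mul, h2, pow_two, hD.sq hq]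
  have := (sq_comm_of_four (hD.sq hu) (hD.sq hp) h4).1
  rw [h2] at this
  exact ⟨hu, hp, hq, e, h1, this.symm⟩

theorem conj_invol (hD : RI D) {t : G} (ht : t ∈ D) (a : G) : t * a * t⁻¹ = t * a * t := by
  rw [hD.inv ht]

theorem comm_of_conj_eq (hD : RI D) {t a : G} (ht : t ∈ D) (h : t * a * t = a) : t * a = a * t := by
  calc t * a = (t * a * t) * t := by rw [mul_assoc, hD.sq ht, mul_one]
    _ = a * t := by rw [h]

theorem conj_eq_of_comm' (hD : RI D) {t a : G} (ht : t ∈ D) (h : t * a = a * t) : t * a * t = a := by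
  rw [h, mul_assoc, hD.sq ht, mul_one]

/-- T3 in the form used here: a member commuting with a collinear point is not opposite -/
theorem not_opp_of_col (hD : RI D) {a b x : G} (ha : a ∈ D) (hb : b ∈ D) (hab : a * b = b * a)
    (hm : a * b ∈ D) (hx : x ∈ D) (hc : x * b = b * x) : ¬ Opp x a :=
  fun ho => hD.not_comm_of_opp ha hb hab hm hx ho hc

/-- T1: the non-opposite members form a subspace -/
theorem not_opp_mul (hD : RI D) {a b x : G} (ha : a ∈ D) (hb : b ∈ D) (hab : a * b = b * a)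
    (hm : a * b ∈ D) (hx : x ∈ D) (h1 : ¬ Opp x a) (h2 : ¬ Opp x b) : ¬ Opp x (a * b) := by
  intro ho
  rcases hD.AA_mul_subset ha hb hab hm ⟨hx, ho⟩ with h | h
  · exact h1 h.2
  · exact h2 h.2

theorem comm_of_mul_mem (hD : RI D) {a b : G} (ha : a ∈ D) (hb : b ∈ D) (hm : a * b ∈ D) :
    a * b = b * a := comm_of_sq (hD.sq ha) (hD.sq hb) (by rw [pow_two]; exact hD.sq hm)

/-- two members acting on a line as different transvections generate `S₃` -/
theorem s3 (hD : RI D) {u z p q : G} (h1 : Sp D u p q) (h2 : Sp D z q p) :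
    Opp u z ∧ u * z * u = z * u * z := by
  have su := hD.sq h1.hu
  have sz := hD.sq h2.hu
  have sp := hD.sq h1.hp
  have sq := hD.sq h1.hq
  set r := u * z with hr
  have ri : r⁻¹ = z * u := by rw [hr, mul_inv_rev, hD.inv h1.hu, hD.inv h2.hu]
  have c1 : r * p * r⁻¹ = p * q := by
    rw [ri, hr, ← h1.e]
    calc u * z * p * (z * u) = u * (z * p * z) * u := by simp only [mul_assoc]
      _ = _ := by rw [h2.eq hD]
  have c2 : r * q * r⁻¹ = p := by
    rw [ri, hr]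
    calc u * z * q * (z * u) = u * (z * q * z) * u := by simp only [mul_assoc]
      _ = _ := by rw [h2.e, ← h1.pq, h1.e2 hD]
  have c3 : r * (p * q) * r⁻¹ = q := by
    calc r * (p * q) * r⁻¹ = (r * p * r⁻¹) * (r * q * r⁻¹) := by group
      _ = q := by rw [c1, c2, h1.pq, mul_assoc, sp, mul_one]
  have c4 : r ^ 3 * q * (r ^ 3)⁻¹ = q := by
    calc r ^ 3 * q * (r ^ 3)⁻¹ = r * (r * (r * q * r⁻¹) * r⁻¹) * r⁻¹ := by
          simp only [pow_succ, pow_zero, one_mul, mul_inv_rev, mul_assoc]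
      _ = q := by rw [c2, c1, c3]
  have ho : Opp u z := by
    by_contra hn
    have h4 : r ^ 4 = 1 := hD.four_of_not_opp h1.hu h2.hu hn
    have : r ^ 4 * q * (r ^ 4)⁻¹ = p := by
      calc r ^ 4 * q * (r ^ 4)⁻¹ = r * (r ^ 3 * q * (r ^ 3)⁻¹) * r⁻¹ := by group
        _ = p := by rw [c4, c2]
    rw [h4] at this
    simp only [one_mul, inv_one, mul_one] at this
    have h5 := h1.mul_mem hD
    rw [this, sp] at h5
    exact hD.ne_one h5 rfl
  refine ⟨ho, ?_⟩
  have h3 : r ^ 3 = 1 := by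
    by_contra hne
    have hm := hD.refl_mem h1.hu h2.hu ho.2 3
    rw [← hr] at hm
    have ho2 : Opp (r ^ 3 * u) u := by
      refine ⟨fun e => hne (by simpa using e), ?_⟩
      rw [mul_assoc, su, mul_one]
      exact Odd.of_dvd_nat ho.2 (orderOf_pow_dvd _)
    apply hD.not_comm_of_opp h1.hu h1.hq h1.uq (h1.mul_mem' hD) hm ho2
    have : r ^ 3 * q = q * r ^ 3 := by
      conv_rhs => rw [← c4]
      group
    rw [mul_assoc, h1.uq, ← mul_assoc, this, mul_assoc]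
  have h6 : u * z * u * (z * u * z) = 1 := by
    rw [← h3, hr]; simp only [pow_succ, pow_zero, one_mul, mul_assoc]
  rw [eq_inv_of_mul_eq_one_left h6]
  simp only [mul_inv_rev, hD.inv h1.hu, hD.inv h2.hu, mul_assoc]

/-- natural lines -/
theorem nat_line (hD : RI D) {d x b b' : G} (hd : d ∈ D) (ho : Opp x d)
    (h3 : d * x * d = x * d * x) (hb : b ∈ RI.XV D d x) (h : Sp D x b b') : Sp D d b' b := by
  have hx := h.hu
  have sx := hD.sq hx
  have sd := hD.sq hd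
  have hb' : b' ∈ RI.XV D x d := h.sq hD ▸ hD.alpha_mem hd hx ho hb
  have hc := hD.not_comm_of_opp hx hb'.1 hb'.2.1 hb'.2.2.1 hd ho.symm
  have s1 := sp_of hD hd hb'.1 hb'.2.2.2 hc
  have hb1 : (d * b') ^ 2 ∈ RI.XV D d x := hD.alpha_mem hx hd ho.symm hb'
  set b1 := (d * b') ^ 2 with hb1d
  have hc1 := hD.not_comm_of_opp hd hb1.1 hb1.2.1 hb1.2.2.1 hx ho
  have s2 := sp_of hD hx hb1.1 hb1.2.2.2 hc1
  set b1' := (x * b1) ^ 2 with hb1d'
  have e1 : d * (x * b * x) * d = b * (b' * b1) := by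
    rw [h.e, ← s1.e]
    calc d * (b * b') * d = (d * b) * b' * d := by simp only [mul_assoc]
      _ = _ := by rw [hb.2.1]; simp only [mul_assoc]
  have e2 : x * (d * (x * b * x) * d) * x = d * (x * b * x) * d := by
    calc x * (d * (x * b * x) * d) * x = (x * d * x) * b * (x * d * x) := by simp only [mul_assoc]
      _ = d * x * (d * b * d) * x * d := by rw [← h3]; simp only [mul_assoc]
      _ = _ := by rw [conj_eq_of_comm' hD hd hb.2.1]; simp only [mul_assoc]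
  rw [e1] at e2
  have e3 : x * (b * (b' * b1)) * x = b * (b1 * b1') := by
    calc x * (b * (b' * b1)) * x = (x * b * x) * (x * b' * x) * (x * b1 * x) := by
          simp only [mul_assoc, sq' sx]
      _ = _ := by
          rw [h.e, h.eq hD, s2.e]; simp only [mul_assoc, sq' (hD.sq h.hq)]
  rw [e3, s1.pq] at e2
  have e4 : b1' = b' := mul_left_cancel (mul_left_cancel e2)
  have e5 : b = b1 := hD.alpha_inj hd hx ho hb hb1 (by rw [h.sq hD, ← e4])
  rw [e5]; exact s1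

/-- collinear natural points have commuting natural lines -/
theorem nat_comm (hD : RI D) {d x b b' f : G} (hd : d ∈ D) (ho : Opp x d)
    (h3 : d * x * d = x * d * x) (hb : b ∈ RI.XV D d x) (hf : f ∈ RI.XV D d x)
    (hbf : b * f ∈ RI.XV D d x) (h : Sp D x b b') : f * b' = b' * f := by
  have hx := h.hu
  have sx := hD.sq hx
  have sd := hD.sq hd
  have key : ∀ p p', p ∈ RI.XV D d x → Sp D x p p' →
      d * (x * p * x) * d = p' ∧ d * (x * p' * x) * d = p * p' := by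
    intro p p' hp s
    have s' := nat_line hD hd ho h3 hp s
    refine ⟨?_, ?_⟩
    · rw [s.e, s.pq, s'.e2 hD]
    · rw [s.eq hD, s'.e, s.pq]
  obtain ⟨f', sf⟩ := exists_sp hD hx hf.1 hf.2.2.2
    (hD.not_comm_of_opp hd hf.1 hf.2.1 hf.2.2.1 hx ho)
  obtain ⟨p', sp⟩ := exists_sp hD hx hbf.1 hbf.2.2.2
    (hD.not_comm_of_opp hd hbf.1 hbf.2.1 hbf.2.2.1 hx ho)
  obtain ⟨a1, a2⟩ := key b b' hb h
  obtain ⟨b1, b2⟩ := key f f' hf sf
  obtain ⟨c1, c2⟩ := key _ p' hbf sp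
  have hom : ∀ s t : G, d * (x * (s * t) * x) * d = (d * (x * s * x) * d) * (d * (x * t * x) * d) := by
    intro s t; simp only [mul_assoc, sq' sx, sq' sd]
  rw [hom, a1, b1] at c1
  rw [← c1, hom, a2, b2] at c2
  have : b' * f = f * b' := by
    have e : b * (b' * f) * f' = b * (f * b') * f' := by simpa only [mul_assoc] using c2
    exact mul_left_cancel (mul_right_cancel e)
  exact this.symm

section Fin
variable [Finite G]

theorem exists_sp_of_col (hD : RI D) (h1 : OneClass D) {a b : G} (ha : a ∈ D) (hb : b ∈ D)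
    (hm : a * b ∈ D) (hE : AA D a ≠ AA D b) : ∃ z, Sp D z a b := by
  have hab := comm_of_mul_mem hD ha hb hm
  obtain ⟨z, hz, h2, e⟩ := hD.exists_comm_of_not_E h1 ha hb hab hm hE
  have hc : a * z ≠ z * a := fun e' => hD.ne_one hb (e ▸ four_of_comm (hD.sq ha) (hD.sq hz) e')
  have := sp_of hD ha hz h2 hc
  rw [e] at this
  exact ⟨z, this.symm hD⟩

theorem comm_of_ev (hD : RI D) (h1 : OneClass D) {d e c : G} (hd : d ∈ D) (he : e ∈ D)
    (h : AA D d = AA D e) (hc : c ∈ D) (hcd : c * d = d * c) : c * e = e * c :=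
  hD.comm_of_AA_eq' h1 hd he h hc hcd

omit [Finite G] in
theorem opp_of_ev {d e x : G} (h : AA D d = AA D e) (hx : x ∈ D) (ho : Opp x d) : Opp x e := by
  have : x ∈ AA D d := ⟨hx, ho⟩
  rw [h] at this
  exact this.2

/-- the commutator is not equivalent to the factors -/
theorem Sp.not_ev (hD : RI D) (h1 : OneClass D) {u p q : G} (h : Sp D u p q) :
    AA D p ≠ AA D q := fun e => h.ne hD (comm_of_ev hD h1 h.hq h.hp e.symm h.hu h.uq)

/-- an `S₃`-partner through a collinear inequivalent pair -/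
theorem exists_three (hD : RI D) (h1 : OneClass D) {d f z : G} (h : Sp D z d f) :
    ∃ x, Sp D x f z ∧ Opp x d ∧ d * x * d = x * d * x := by
  have h' := h.symm hD
  obtain ⟨x, hx⟩ := exists_sp_of_col hD h1 h.hq h.hu (h.uq ▸ h.mul_mem' hD) (h'.not_ev hD h1).symm
  obtain ⟨o, e⟩ := s3 hD hx h'
  exact ⟨x, hx, o, e.symm⟩

theorem exists_swap_col (hD : RI D) (h1 : OneClass D) {d f : G} (hd : d ∈ D) (hf : f ∈ D)
    (hm : d * f ∈ D) (hE : AA D d ≠ AA D f) : ∃ t ∈ D, t * d * t = f ∧ t * f * t = d := by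
  have hc := comm_of_mul_mem hD hd hf hm
  obtain ⟨z', h'⟩ := exists_sp_of_col hD h1 hd hf hm hE
  obtain ⟨z, h⟩ := exists_sp_of_col hD h1 hf hd (hc ▸ hm) hE.symm
  have ht := hD.conj z h.hu z' h'.hu
  have e1 : (z' * z * z') * d * (z' * z * z') = f := by
    calc (z' * z * z') * d * (z' * z * z') = z' * (z * (z' * d * z') * z) * z' := by
          simp only [mul_assoc]
      _ = f := by rw [h'.e, hc, h.e2 hD, h'.eq hD]
  refine ⟨_, ht, e1, ?_⟩
  rw [← e1]; simp only [mul_assoc, sq' (hD.sq h.hu), sq' (hD.sq h'.hu), hD.sq h'.hu, mul_one]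

/-- (Z): a member centralizing `X_d ∪ {d}` is equivalent to `d` -/
theorem ev_of_cent (hD : RI D) (h1 : OneClass D)
    (hgen : ∀ d ∈ D, ∀ x ∈ D, Opp x d → ∀ y : G,
      (∀ b ∈ D, d * b ∈ D → y * b = b * y) → y * x = x * y → y = 1)
    {d y : G} (hd : d ∈ D) (hy : y ∈ D) (hyd : y * d = d * y)
    (h : ∀ b ∈ D, d * b ∈ D → y * b = b * y) : AA D d = AA D y := by
  by_contra hne
  have hns : ¬ AA D d ⊆ AA D y := fun hs => hne (hD.AA_eq_of_subset h1 hd hy hs)
  obtain ⟨x, hx, hxy⟩ := Set.not_subset.mp hns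
  have hxy' : ¬ Opp x y := fun ho => hxy ⟨hx.1, ho⟩
  by_cases hc : x * y = y * x
  · exact hD.ne_one hy (hgen d hd x hx.1 hx.2 y h hc.symm)
  obtain ⟨y', s1⟩ := exists_sp hD hx.1 hy hxy' hc
  have hyy := s1.mul_mem hD
  have n1 : ¬ Opp d y' := not_opp_of_col hD s1.hq hy s1.pq.symm (s1.pq ▸ hyy) hd hyd.symm
  have n2 : d * y' ≠ y' * d :=
    hD.not_comm_of_opp hx.1 s1.hq s1.uq (s1.mul_mem' hD) hd hx.2.symm
  obtain ⟨b, s2⟩ := exists_sp hD hd s1.hq n1 n2
  have s2' := s2.symm hD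
  obtain ⟨z, s3'⟩ := exists_sp_of_col hD h1 s2.hq hd (s2.uq ▸ s2.mul_mem' hD) (s2'.not_ev hD h1).symm
  have o := (s3 hD s2' s3').1
  have hz : y * z = z * y := h z s3'.hu (s3'.uq ▸ s3'.mul_mem' hD)
  exact not_opp_of_col hD s1.hq hy s1.pq.symm (s1.pq ▸ hyy) s3'.hu hz.symm o.symm

end Fin

/-- the isolated vertices of the graph of opposite pairs on `C_D(d)` -/
def WW (D : Set G) (d : G) : Set G :=
  {y | y ∈ D ∧ y * d = d * y ∧ ∀ v ∈ D, v * d = d * v → ¬ Opp v y}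

theorem WW.self (hD : RI D) {d : G} (hd : d ∈ D) : d ∈ WW D d :=
  ⟨hd, rfl, fun _ hv h => hD.not_opp_of_comm hv hd h⟩

theorem WW.of_col (hD : RI D) {d b : G} (hd : d ∈ D) (hb : b ∈ D) (hm : d * b ∈ D) : b ∈ WW D d := by
  have hc := comm_of_mul_mem hD hd hb hm
  exact ⟨hb, hc.symm, fun v hv h => not_opp_of_col hD hb hd hc.symm (hc ▸ hm) hv h⟩

theorem WW.mul (hD : RI D) {d a b : G} (ha : a ∈ WW D d) (hb : b ∈ WW D d) (hm : a * b ∈ D) :
    a * b ∈ WW D d :=
  ⟨hm, by rw [mul_assoc, hb.2.1, ← mul_assoc, ha.2.1, mul_assoc], fun v hv h =>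
    not_opp_mul hD ha.1 hb.1 (comm_of_mul_mem hD ha.1 hb.1 hm) hm hv (ha.2.2 v hv h) (hb.2.2 v hv h)⟩

theorem comm_conj' {a b : G} (h : a * b = b * a) (g : G) :
    (g * a * g⁻¹) * (g * b * g⁻¹) = (g * b * g⁻¹) * (g * a * g⁻¹) := by
  calc _ = g * (a * b) * g⁻¹ := by group
    _ = _ := by rw [h]; group

theorem WW.conj (hD : RI D) {d a g : G} (hg : g ∈ Subgroup.closure D) (ha : a ∈ WW D d) :
    g * a * g⁻¹ ∈ WW D (g * d * g⁻¹) := by
  refine ⟨hD.conj_mem hg ha.1, comm_conj' ha.2.1 g, fun v hv h ho => ?_⟩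
  refine ha.2.2 (g⁻¹ * v * g⁻¹⁻¹) (hD.conj_mem (Subgroup.inv_mem _ hg) hv) ?_ ?_
  · have := comm_conj' h g⁻¹
    simpa [mul_assoc] using this
  · have := ho.conj g⁻¹
    simpa [mul_assoc] using this

theorem WW.conj_comm (hD : RI D) {d a t : G} (ht : t ∈ D) (htd : t * d = d * t) (ha : a ∈ WW D d) :
    t * a * t ∈ WW D d := by
  have := WW.conj hD (Subgroup.subset_closure ht) ha
  rwa [hD.inv ht, conj_eq_of_comm' hD ht htd] at this

theorem WW.not_opp {d a b : G} (ha : a ∈ WW D d) (hb : b ∈ D) (hbd : b * d = d * b) : ¬ Opp b a :=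
  ha.2.2 b hb hbd

theorem WW.sp (hD : RI D) {d a m f : G} (ha : a ∈ WW D d) (hm : m * d = d * m) (h : Sp D m a f) :
    f ∈ WW D d := by
  have h1 := WW.conj_comm hD h.hu hm ha
  rw [h.e] at h1
  have := WW.mul hD ha h1 (by rw [sq' (hD.sq h.hp)]; exact h.hq)
  rwa [sq' (hD.sq h.hp)] at this

theorem WW.congr [Finite G] (hD : RI D) (h1 : OneClass D) {d e : G} (hd : d ∈ D) (he : e ∈ D)
    (h : AA D d = AA D e) {a : G} (ha : a ∈ WW D d) : a ∈ WW D e :=
  ⟨ha.1, comm_of_ev hD h1 hd he h ha.1 ha.2.1, fun v hv hve =>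
    ha.2.2 v hv (comm_of_ev hD h1 he hd h.symm hv hve)⟩

theorem WW.of_ev [Finite G] (hD : RI D) (h1 : OneClass D) {d a b : G} (hd : d ∈ D)
    (ha : a ∈ WW D d) (hb : b ∈ D) (h : AA D a = AA D b) : b ∈ WW D d :=
  ⟨hb, (comm_of_ev hD h1 ha.1 hb h hd ha.2.1.symm).symm, fun v hv hvd ho =>
    ha.2.2 v hv hvd (opp_of_ev h.symm hv ho)⟩

theorem WW.ri (hD : RI D) (d : G) : RI (WW D d) := by
  refine ⟨fun a ha => hD.ord a ha.1, fun a ha b hb => WW.conj_comm hD hb.1 hb.2.1 ha,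
    fun a ha b hb => ?_⟩
  by_cases hc : a * b = b * a
  · exact Or.inl hc
  have hn := WW.not_opp hb ha.1 ha.2.1
  have s := sp_of hD ha.1 hb.1 hn hc
  exact Or.inr (Or.inr ⟨hD.order_four ha.1 hb.1 hn hc, WW.sp hD hb ha.2.1 s⟩)

theorem WW.isPGroup [Finite G] (hD : RI D) (d : G) : IsPGroup 2 (Subgroup.closure (WW D d)) :=
  (WW.ri hD d).isPGroup_of_no_opp fun _ ha _ hb => WW.not_opp hb ha.1 ha.2.1

/-- descent in a nilpotent subgroup -/
theorem descent {H : Subgroup G} [Group.IsNilpotent H] {P : G → Prop} (hP : ∀ c, P c → c ∈ H)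
    (hs : ∀ c, P c → ∃ m ∈ H, P (c * m * c⁻¹ * m⁻¹)) {c : G} (hc : P c) : P 1 := by
  have key : ∀ n : ℕ, ∃ c : G, P c ∧ c ∈ H.lowerCentralSeries n := by
    intro n
    induction n with
    | zero => exact ⟨c, hc, hP c hc⟩
    | succ n ih =>
      obtain ⟨a, ha, ha'⟩ := ih
      obtain ⟨m, hm, h⟩ := hs a ha
      exact ⟨_, h, Subgroup.commutator_mem_commutator ha' hm⟩
  obtain ⟨n, hn⟩ := (Subgroup.isNilpotent_iff_lowerCentralSeries H).mp inferInstance
  obtain ⟨a, ha, ha'⟩ := key n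
  rw [hn, Subgroup.mem_bot] at ha'
  rw [ha'] at ha
  exact ha

end Cfsg.Agent.H18RI
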