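import Cfsg.Agent.H18.RootA

/-! Root involutions: good lines and the root structure theorem. -/

set_option autoImplicit false

namespace Cfsg.Agent.H18RI

open Cfsg Cfsg.Agent.H36

variable {G : Type*} [Group G] {D : Set G}

/-- the class `E_d` -/
def EE (D : Set G) (d : G) : Set G := {e | e ∈ D ∧ AA D e = AA D d}

/-- `E_d ∪ {1}` -/
def Eg (D : Set G) (d : G) : Set G := {e | e = 1 ∨ e ∈ EE D d}

/-- elements central modulo `E(d)` -/
def UU (D : Set G) (d u : G) : Prop :=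
  (∀ e ∈ Eg D d, e * u = u * e) ∧ ∀ m ∈ WW D d, ∃ e ∈ Eg D d, m * u * m = u * e

/-- good points -/
def LL (D : Set G) (d f : G) : Prop := f ∈ WW D d ∧ AA D f ≠ AA D d ∧ UU D d f

/-- standing hypotheses -/
structure Ctx (D : Set G) : Prop where
  ri : RI D
  one : OneClass D
  gen : ∀ d ∈ D, ∀ x ∈ D, Opp x d → ∀ y : G,
    (∀ b ∈ D, d * b ∈ D → y * b = b * y) → y * x = x * y → y = 1
  hE : ∀ d ∈ D, ∀ e ∈ D, AA D d = AA D e → d ≠ e → d * e ∈ D

theorem EE.self {d : G} (hd : d ∈ D) : d ∈ EE D d := ⟨hd, rfl⟩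

theorem EE_congr {d e : G} (h : AA D d = AA D e) : EE D d = EE D e := by
  simp only [EE, h]

theorem Eg_congr {d e : G} (h : AA D d = AA D e) : Eg D d = Eg D e := by
  simp only [Eg, EE_congr h]

theorem EE.conj (hD : RI D) {d e g : G} (hg : g ∈ Subgroup.closure D) (he : e ∈ EE D d) :
    g * e * g⁻¹ ∈ EE D (g * d * g⁻¹) := ⟨hD.conj_mem hg he.1, hD.AA_eq_conj hg he.2⟩

theorem Eg.conj (hD : RI D) {d e g : G} (hg : g ∈ Subgroup.closure D) (he : e ∈ Eg D d) :
    g * e * g⁻¹ ∈ Eg D (g * d * g⁻¹) := by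
  rcases he with rfl | he
  · exact Or.inl (by simp)
  · exact Or.inr (EE.conj hD hg he)

theorem ne_ev_conj (hD : RI D) {d e g : G} (hg : g ∈ Subgroup.closure D) (h : AA D d ≠ AA D e) :
    AA D (g * d * g⁻¹) ≠ AA D (g * e * g⁻¹) := fun e' => h (by
  have := hD.AA_eq_conj (Subgroup.inv_mem _ hg) e'
  simpa [mul_assoc] using this)

theorem UU.conj (hD : RI D) {d u g : G} (hg : g ∈ Subgroup.closure D) (h : UU D d u) :
    UU D (g * d * g⁻¹) (g * u * g⁻¹) := by
  have hg' := Subgroup.inv_mem _ hg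
  refine ⟨fun e he => ?_, fun m hm => ?_⟩
  · have h1 := Eg.conj hD hg' he
    simp only [inv_inv, mul_assoc, inv_mul_cancel_left, inv_mul_cancel, mul_one] at h1
    have h2 := comm_conj' (h.1 _ h1) g
    simpa [mul_assoc] using h2
  · have h1 := WW.conj hD hg' hm
    simp only [inv_inv, mul_assoc, inv_mul_cancel_left, inv_mul_cancel, mul_one] at h1
    obtain ⟨e, he, e1⟩ := h.2 _ h1
    refine ⟨_, Eg.conj hD hg he, ?_⟩
    calc m * (g * u * g⁻¹) * m = g * (g⁻¹ * (m * g) * u * (g⁻¹ * (m * g))) * g⁻¹ := by group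
      _ = _ := by rw [e1]; group

theorem LL.conj (hD : RI D) {d f g : G} (hg : g ∈ Subgroup.closure D) (h : LL D d f) :
    LL D (g * d * g⁻¹) (g * f * g⁻¹) :=
  ⟨WW.conj hD hg h.1, ne_ev_conj hD hg h.2.1, h.2.2.conj hD hg⟩

theorem LL.conj' (hD : RI D) {d f t : G} (ht : t ∈ D) (h : LL D d f) :
    LL D (t * d * t) (t * f * t) := by
  have := h.conj hD (Subgroup.subset_closure ht)
  rwa [hD.inv ht] at this

theorem ncard_EE (hD : RI D) (h1 : OneClass D) {d e : G} (hd : d ∈ D) (he : e ∈ D) :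
    (EE D d).ncard = (EE D e).ncard := by
  obtain ⟨g, hg, rfl⟩ := h1 d hd e he
  have : EE D (g * d * g⁻¹) = (fun x => g * x * g⁻¹) '' EE D d := by
    ext y
    constructor
    · intro h
      refine ⟨g⁻¹ * y * g, ?_, by simp [mul_assoc]⟩
      have := EE.conj hD (Subgroup.inv_mem _ hg) h
      simpa [mul_assoc] using this
    · rintro ⟨x, hx, rfl⟩
      exact EE.conj hD hg hx
  rw [this]
  exact (Set.ncard_image_of_injective _ fun x y e => by simpa using e).symm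

variable [Finite G]

theorem Eg.comm (hD : RI D) (h1 : OneClass D) {d e c : G} (hd : d ∈ D) (he : e ∈ Eg D d)
    (hc : c ∈ D) (hcd : c * d = d * c) : c * e = e * c := by
  rcases he with rfl | he
  · simp
  · exact comm_of_ev hD h1 hd he.1 he.2.symm hc hcd

theorem UU.congr (hD : RI D) (h1 : OneClass D) {d e u : G} (hd : d ∈ D) (he : e ∈ D)
    (h : AA D d = AA D e) (hu : UU D d u) : UU D e u := by
  rw [UU, ← Eg_congr h]
  exact ⟨hu.1, fun m hm => hu.2 m (WW.congr hD h1 he hd h.symm hm)⟩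

theorem LL.congr (hD : RI D) (h1 : OneClass D) {d e f : G} (hd : d ∈ D) (he : e ∈ D)
    (h : AA D d = AA D e) (hf : LL D d f) : LL D e f :=
  ⟨WW.congr hD h1 hd he h hf.1, h ▸ hf.2.1, hf.2.2.congr hD h1 hd he h⟩

theorem UU.mk' (hD : RI D) (h1 : OneClass D) {d u : G} (hd : d ∈ D) (hu : u ∈ D)
    (hud : u * d = d * u) (h : ∀ m ∈ WW D d, ∀ q, Sp D m u q → q ∈ EE D d) (hw : u ∈ WW D d) :
    UU D d u := by
  refine ⟨fun e he => (Eg.comm hD h1 hd he hu hud).symm, fun m hm => ?_⟩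
  by_cases hc : m * u = u * m
  · exact ⟨1, Or.inl rfl, by rw [conj_eq_of_comm' hD hm.1 hc, mul_one]⟩
  · obtain ⟨q, s⟩ := exists_sp hD hm.1 hu (WW.not_opp hw hm.1 hm.2.1) hc
    exact ⟨q, Or.inr (h m hm q s), s.e⟩

omit [Finite G] in
theorem UU.sp (hD : RI D) {d u m q : G} (h : UU D d u) (hm : m ∈ WW D d) (s : Sp D m u q) :
    q ∈ EE D d := by
  obtain ⟨e, he, e1⟩ := h.2 m hm
  have : q = e := mul_left_cancel (s.e.symm.trans e1)
  subst this
  exact he.resolve_left (hD.ne_one s.hq)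

/-- (G1) -/
theorem LL.symm (hD : RI D) (h1 : OneClass D) {d f : G} (hd : d ∈ D) (h : LL D d f)
    (hm : d * f ∈ D) : LL D f d := by
  obtain ⟨t, ht, e1, e2⟩ := exists_swap_col hD h1 hd h.1.1 hm h.2.1.symm
  have := h.conj' hD ht
  rwa [e1, e2] at this

/-- equivalent members are special to the same members -/
theorem sp_of_ev (hD : RI D) (h1 : OneClass D) {z p f m : G} (s : Sp D z p f) (hm : m ∈ EE D z) :
    ∃ q, Sp D m p q := by
  refine exists_sp hD hm.1 s.hp (fun ho => s.not_opp hD ?_) fun e => s.ne hD ?_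
  · exact (opp_of_ev hm.2 s.hp ho.symm).symm
  · exact (comm_of_ev hD h1 hm.1 s.hu hm.2 s.hp e.symm).symm

namespace Ctx

variable (C : Ctx D)
include C

theorem EE_mul {d e e' : G} (he : e ∈ EE D d) (he' : e' ∈ EE D d) (hne : e ≠ e') :
    e * e' ∈ EE D d := by
  have h := he.2.trans he'.2.symm
  have hm := C.hE e he.1 e' he'.1 h hne
  exact ⟨hm, (C.ri.AA_mul_eq C.one he.1 he'.1 (comm_of_mul_mem C.ri he.1 he'.1 hm) hm h).trans he.2⟩

theorem Eg_mul {d e e' : G} (he : e ∈ Eg D d) (he' : e' ∈ Eg D d) : e * e' ∈ Eg D d := by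
  rcases he with rfl | he
  · simpa using he'
  rcases he' with rfl | he'
  · rw [mul_one]; exact Or.inr he
  by_cases h : e = e'
  · subst h; exact Or.inl (C.ri.sq he.1)
  · exact Or.inr (C.EE_mul he he' h)

theorem UU_mul {d u u' : G} (h : UU D d u) (h' : UU D d u') : UU D d (u * u') := by
  refine ⟨fun e he => by rw [← mul_assoc, h.1 e he, mul_assoc, h'.1 e he, mul_assoc], fun m hm => ?_⟩
  obtain ⟨e, he, e1⟩ := h.2 m hm
  obtain ⟨e', he', e2⟩ := h'.2 m hm
  refine ⟨e * e', C.Eg_mul he he', ?_⟩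
  calc m * (u * u') * m = (m * u * m) * (m * u' * m) := by
        simp only [mul_assoc, sq' (C.ri.sq hm.1)]
    _ = u * (e * u') * e' := by rw [e1, e2]; simp only [mul_assoc]
    _ = _ := by rw [h'.1 e he]; simp only [mul_assoc]

/-- the commutator map is onto the class of the commutator -/
theorem bij {z p f : G} (s : Sp D z p f) (h : ∀ m ∈ EE D z, ∀ q, Sp D m p q → q ∈ EE D f)
    {f' : G} (hf' : f' ∈ EE D f) : ∃ m ∈ EE D z, Sp D m p f' := by
  have hD := C.ri
  have key : ∀ m ∈ EE D z, Sp D m p ((m * p) ^ 2) := fun m hm => by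
    obtain ⟨q, s'⟩ := sp_of_ev hD C.one s hm
    rw [s'.sq hD]; exact s'
  have hinj : Set.InjOn (fun m => (m * p) ^ 2) (EE D z) := ?_
  · have hs : (fun m => (m * p) ^ 2) '' EE D z = EE D f := by
      apply Set.eq_of_subset_of_ncard_le
      · rintro _ ⟨m, hm, rfl⟩; exact h m hm _ (key m hm)
      · rw [hinj.ncard_image]; exact (ncard_EE hD C.one s.hq s.hu).le
      · exact Set.toFinite _
    rw [← hs] at hf'
    obtain ⟨m, hm, e⟩ := hf'
    exact ⟨m, hm, e ▸ key m hm⟩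
  · intro m hm m' hm' e
    by_contra hne
    have hmm := C.EE_mul hm hm' hne
    have s1 := key m hm
    have s2 := key m' hm'
    simp only at e
    rw [← e] at s2
    have hc : m * m' = m' * m := comm_of_mul_mem hD hm.1 hm'.1 hmm.1
    have e1 : (m * m') * p * (m * m') = p := by
      calc (m * m') * p * (m * m') = m * (m' * p * m') * m := by
            nth_rewrite 2 [hc]; simp only [mul_assoc]
        _ = p := by rw [s2.e, s1.e2 hD]
    have := comm_of_conj_eq hD hmm.1 e1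
    exact s.ne hD (comm_of_ev hD C.one hmm.1 s.hu hmm.2 s.hp this.symm).symm

theorem col_all {d f : G} (hd : d ∈ D) (h : LL D d f) (hm : d * f ∈ D) {e : G} (he : e ∈ EE D d) :
    f * e ∈ D := by
  have hD := C.ri
  obtain ⟨z, s⟩ := exists_sp_of_col hD C.one h.1.1 hd (h.1.2.1 ▸ hm) h.2.1
  have hz : z ∈ WW D d := WW.of_col hD hd s.hu (s.uq ▸ s.mul_mem' hD)
  obtain ⟨m, -, s'⟩ := C.bij s
    (fun m hm q s' => h.2.2.sp hD (WW.of_ev hD C.one hd hz hm.1 hm.2.symm) s') he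
  exact s'.mul_mem hD

/-- (G0) and (G2): a good point is collinear with the whole class -/
theorem good_col {d f : G} (hd : d ∈ D) (h : LL D d f) {e : G} (he : e ∈ EE D d) :
    e * f ∈ D ∧ LL D f e := by
  have hD := C.ri
  have h0 : ∃ b ∈ D, d * b ∈ D ∧ f * b ≠ b * f := by
    by_contra hn
    push Not at hn
    exact h.2.1 (ev_of_cent hD C.one C.gen hd h.1.1 h.1.2.1 hn).symm
  obtain ⟨b, hb, hdb, hc⟩ := h0
  obtain ⟨e0, s⟩ := exists_sp hD hb h.1.1
    (WW.not_opp h.1 hb (comm_of_mul_mem hD hd hb hdb).symm) (Ne.symm hc)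
  have he0 := h.2.2.sp hD (WW.of_col hD hd hb hdb) s
  have h0 := h.congr hD C.one hd he0.1 he0.2.symm
  have hfe := C.col_all he0.1 h0 (s.pq ▸ s.mul_mem hD) (e := e) ⟨he.1, he.2.trans he0.2.symm⟩
  have hef : e * f ∈ D := comm_of_mul_mem hD h.1.1 he.1 hfe ▸ hfe
  exact ⟨hef, (h.congr hD C.one hd he.1 he.2.symm).symm hD C.one he.1 hef⟩

/-- a point spanning a singular plane with a good line -/
theorem gp {d f a : G} (hd : d ∈ D) (h : LL D d f) (ha : a ∈ D) (haf : a * f ∈ D)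
    (hae : ∀ e ∈ EE D d, a * e ∈ D ∧ a * f * e ∈ D) : UU D f a := by
  have hD := C.ri
  have hf := h.1.1
  obtain ⟨hdf, hfd⟩ := C.good_col hd h (EE.self hd)
  have cdf := comm_of_mul_mem hD hd hf hdf
  obtain ⟨z, s⟩ := exists_sp_of_col hD C.one hd hf hdf h.2.1.symm
  obtain ⟨x, sx, ho, h3⟩ := exists_three hD C.one s
  have hx := sx.hu
  have hfX : f ∈ RI.XV D d x := ⟨hf, cdf, hdf, sx.not_opp hD⟩
  have inner : ∀ b ∈ D, d * b ∈ D → b * f ∈ D → d * (b * f) ∈ D → ¬ Opp x b → UU D f b := by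
    intro b hb h1 h2 h4 hn
    have hbX : b ∈ RI.XV D d x := ⟨hb, comm_of_mul_mem hD hd hb h1, h1, hn⟩
    have hbfX : b * f ∈ RI.XV D d x := ⟨h2, comm_of_mul_mem hD hd h2 h4, h4,
      not_opp_mul hD hb hf (comm_of_mul_mem hD hb hf h2) h2 hx hn (sx.not_opp hD)⟩
    obtain ⟨b', sb⟩ := exists_sp hD hx hb hn (hD.not_comm_of_opp hd hb hbX.2.1 h1 hx ho)
    have s1 := (nat_line hD hd ho h3 hbX sb).symm hD
    have c1 := nat_comm hD hd ho h3 hbX hfX hbfX sb
    have h5 := h.conj' hD sb.hq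
    rw [s1.e, conj_eq_of_comm' hD sb.hq c1.symm] at h5
    have h6 := h5.symm hD C.one h1 (by rw [mul_assoc]; exact h4)
    have := C.UU_mul hfd.2.2 h6.2.2
    rwa [sq' (hD.sq hd)] at this
  have had := (hae d (EE.self hd)).1
  have cad := comm_of_mul_mem hD ha hd had
  have caf := comm_of_mul_mem hD ha hf haf
  by_cases hn : Opp x a
  swap
  · refine inner a ha (cad ▸ had) haf ?_ hn
    have := (hae d (EE.self hd)).2
    rwa [comm_of_mul_mem hD haf hd this] at this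
  obtain ⟨y, hy, ey⟩ := hD.exists_comm_eq ha hx hn (b := f) ⟨hf, caf, haf, sx.not_opp hD⟩
  have sy : Sp D a y f := ey ▸ sp_of hD ha hy.1 hy.2.2.2
    (hD.not_comm_of_opp hx hy.1 hy.2.1 hy.2.2.1 ha hn.symm)
  have hyW : y ∈ WW D f := WW.of_col hD hf hy.1 (sy.pq ▸ sy.mul_mem hD)
  obtain ⟨f1, s1⟩ := exists_sp hD hd hy.1 (WW.not_opp hyW hd cdf)
    (hD.not_comm_of_opp hx hy.1 hy.2.1 hy.2.2.1 hd ho.symm)
  have hf1 := hfd.2.2.sp hD hyW (s1.symm hD)
  obtain ⟨e, he, s2⟩ := C.bij s1 (fun m hm q s' => by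
    rw [EE_congr hf1.2]
    exact (C.good_col hd h hm).2.2.2.sp hD hyW (s'.symm hD)) (f' := f) ⟨hf, hf1.2.symm⟩
  obtain ⟨hae1, hae2⟩ := hae e he
  obtain ⟨hef, hfe⟩ := C.good_col hd h he
  have cef := comm_of_mul_mem hD he.1 hf hef
  have cae := comm_of_mul_mem hD ha he.1 hae1
  have cde : d * e = e * d := comm_of_ev hD C.one hd he.1 he.2.symm hd rfl
  have c1 : y * (a * e) * y = a * e := by
    calc y * (a * e) * y = (y * a * y) * (y * e * y) := by
          simp only [mul_assoc, sq' (hD.sq hy.1)]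
      _ = a * e := by
          rw [(sy.symm hD).e, (s2.symm hD).e, cef]; simp only [mul_assoc, sq' (hD.sq hf)]
  have hn' : ¬ Opp x (a * e) := fun o =>
    not_opp_of_col hD hx hy.1 hy.2.1 hy.2.2.1 hae1 (comm_of_conj_eq hD hy.1 c1).symm o.symm
  have h7 : ∀ g : G, g ∈ D → (∀ e ∈ EE D d, g * e ∈ D) → g * d = d * g → d * (g * e) ∈ D := by
    intro g hg hge hgd
    rw [← mul_assoc, ← hgd, mul_assoc]
    by_cases hde : d = e
    · rw [← hde, hD.sq hd, mul_one]; exact hg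
    · exact hge _ (C.EE_mul (EE.self hd) he hde)
  have e8 : a * e * f = a * f * e := by rw [mul_assoc, cef, mul_assoc]
  have h8 := inner (a * e) hae1 (h7 a ha (fun e he => (hae e he).1) cad) (e8 ▸ hae2)
    (by rw [e8]; exact h7 _ haf (fun e he => (hae e he).2)
          (comm_of_mul_mem hD haf hd (hae d (EE.self hd)).2)) hn'
  have := C.UU_mul h8 hfe.2.2
  rwa [mul_assoc, hD.sq he.1, mul_one] at this

/-- case (II) -/
theorem case_two {d b c f : G} (hd : d ∈ D) (hb : b * d = d * b) (s : Sp D b c f) (h : LL D d f)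
    (hcol : ∀ e ∈ EE D d, c * e ∈ D) : UU D d c := by
  have hD := C.ri
  have hf := s.hq
  have hc := s.hp
  have hcf := s.mul_mem hD
  have h1 : UU D f c := C.gp hd h hc hcf fun e he => ⟨hcol e he, by
    have cbe := comm_of_ev hD C.one hd he.1 he.2.symm s.hu hb
    have := hD.conj _ (hcol e he) b s.hu
    rwa [show b * (c * e) * b = (b * c * b) * e by
      rw [mul_assoc (b * c), cbe]; simp only [mul_assoc], s.e] at this⟩
  obtain ⟨hdf, hfd⟩ := C.good_col hd h (EE.self hd)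
  have hcW : c ∈ WW D f := WW.of_col hD hf hc (s.pq ▸ hcf)
  have hcL : LL D f c := ⟨hcW, s.not_ev hD C.one, h1⟩
  have hcd := hcol d (EE.self hd)
  have ccd := comm_of_mul_mem hD hc hd hcd
  have cdf := comm_of_mul_mem hD hd hf hdf
  have s' : Sp D b (c * d) f := sp_mk hD s.hu hcd hf (by
    calc b * (c * d) * b = (b * c * b) * d := by rw [mul_assoc (b * c), hb]; simp only [mul_assoc]
      _ = _ := by rw [s.e, mul_assoc, ← cdf, mul_assoc])
  have hcdL : LL D f (c * d) := ⟨WW.mul hD hcW hfd.1 hcd, s'.not_ev hD C.one, C.UU_mul h1 hfd.2.2⟩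
  refine C.gp hf hfd hc hcd fun e he => ⟨?_, ?_⟩
  · have := (C.good_col hf hcL he).1
    exact comm_of_mul_mem hD he.1 hc this ▸ this
  · have := (C.good_col hf hcdL he).1
    exact comm_of_mul_mem hD he.1 hcd this ▸ this

/-- case (I) -/
theorem case_one {d b0 c f0 : G} (hd : d ∈ D) (hb0 : b0 * d = d * b0) (s0 : Sp D b0 c f0)
    (hc : c ∈ WW D d) (h2 : ∀ m ∈ WW D d, ∀ q, Sp D m c q → UU D d q) : c * d ∈ D := by
  have hD := C.ri
  by_contra hcd
  have s0' := s0.symm hD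
  obtain ⟨v, sv⟩ := exists_sp_of_col hD C.one s0.hq s0.hu (s0.uq ▸ s0.mul_mem' hD)
    (s0'.not_ev hD C.one).symm
  obtain ⟨ho, h3⟩ := s3 hD sv s0'
  have hv := sv.hu
  have hvd : v * d ≠ d * v := fun e => hc.2.2 v hv e ho
  have hvd' : ¬ Opp v d := fun o =>
    not_opp_of_col hD hv s0.hu sv.uq (sv.mul_mem' hD) hd hb0.symm o.symm
  obtain ⟨b, sb⟩ := exists_sp hD hv hd hvd' hvd
  have hbW : b ∈ WW D d := WW.of_col hD hd sb.hq (sb.mul_mem hD)
  have hbX : b ∈ RI.XV D v c := ⟨sb.hq, sb.uq, sb.mul_mem' hD, WW.not_opp hbW hc.1 hc.2.1⟩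
  obtain ⟨f, sf⟩ := exists_sp hD hc.1 sb.hq hbX.2.2.2
    (hD.not_comm_of_opp hv sb.hq sb.uq hbX.2.2.1 hc.1 ho.symm)
  have sf2 := nat_line hD hv ho.symm h3 hbX sf
  have sf' := sf.symm hD
  have hf := sf.hq
  have hfU := h2 b hbW f sf'
  have hfW := WW.sp hD hc hbW.2.1 sf'
  have cfd := hfW.2.1
  have cvw : v * (d * f) * v = d * f := by
    calc v * (d * f) * v = (v * d * v) * (v * f * v) := by simp only [mul_assoc, sq' (hD.sq hv)]
      _ = d * f := by
        rw [sb.e, sf2.e, sf2.pq]; simp only [mul_assoc, sq' (hD.sq sb.hq)]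
  have cvw' := comm_of_conj_eq hD hv cvw
  have hfE : AA D f ≠ AA D d := by
    intro e
    by_cases hdf : d = f
    · exact hcd (hdf ▸ sf'.mul_mem hD)
    · have := C.EE_mul (EE.self hd) ⟨hf, e⟩ hdf
      exact hvd (comm_of_ev hD C.one this.1 hd this.2 hv cvw')
  have hL : LL D d f := ⟨hfW, hfE, hfU⟩
  obtain ⟨hw, hfd⟩ := C.good_col hd hL (EE.self hd)
  obtain ⟨z, sz⟩ := exists_sp_of_col hD C.one hf hd (cfd ▸ hw) hfE
  have hzW : z ∈ WW D d := WW.of_col hD hd sz.hu (sz.uq ▸ sz.mul_mem' hD)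
  have hz := sz.hu
  have hc' := hD.conj c hc.1 z hz
  set c' := z * c * z with hc'd
  have hcf := sf'.mul_mem hD
  have e1 : c' * (d * f) = z * (c * f) * z := by
    rw [← cfd, ← sz.e, hc'd]; simp only [mul_assoc, sq' (hD.sq hz)]
  have hc'w : c' * (d * f) ∈ D := e1 ▸ hD.conj _ hcf z hz
  have cc'w := comm_of_mul_mem hD hc' hw hc'w
  have n1 : ¬ Opp v c' := not_opp_of_col hD hc' hw cc'w hc'w hv cvw'
  have n2 : z * c ≠ c * z := fun e => n1 (by rw [hc'd, conj_eq_of_comm' hD hz e]; exact ho)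
  obtain ⟨c1, s1⟩ := exists_sp hD hz hc.1 (WW.not_opp hc hz hzW.2.1) n2
  have hc1U := h2 z hzW c1 s1
  have ec' : c' = c * c1 := s1.e
  have ecc' : c * c' = c1 := by rw [ec', sq' (hD.sq hc.1)]
  have ccc' : c * c' = c' * c := comm_of_mul_mem hD hc.1 hc' (ecc' ▸ s1.hq)
  have hc'X : c' ∈ RI.XV D c v := ⟨hc', ccc', ecc' ▸ s1.hq, n1⟩
  obtain ⟨k, sk⟩ := exists_sp hD hv hc' n1
    (hD.not_comm_of_opp hc.1 hc' ccc' hc'X.2.2.1 hv ho)
  have sk2 := nat_line hD hc.1 ho h3.symm hc'X sk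
  have hk := sk.hq
  -- `f` commutes with `c'`
  have ccd := hc.2.1
  have ccf : c * f = f * c := sf.uq
  have cfc' : f * c' = c' * f := by
    have e2 : c * (d * f) = (d * f) * c := by rw [← mul_assoc, ccd, mul_assoc, ccf, mul_assoc]
    have e3 := comm_conj' e2 z
    rw [hD.inv hz, ← cfd, sz.e2 hD] at e3
    exact e3.symm
  -- the images under the element of order three
  have r1 : c * (v * f * v) * c = b := by rw [sf2.e, sf2.pq, sf.e2 hD]
  have r2 : c * (v * c' * v) * c = k := by rw [sk.e, sk.pq, sk2.e2 hD]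
  have cvv : (v * f * v) * (v * c' * v) = (v * c' * v) * (v * f * v) := by
    have := comm_conj' cfc' v
    rwa [hD.inv hv] at this
  have cbk : b * k = k * b := by
    have := comm_conj' cvv c
    rwa [hD.inv hc.1, r1, r2] at this
  rw [sf2.e, sk.e] at cvv
  obtain ⟨e, he, ee⟩ := hc1U.2 b hbW
  have cfc1 : f * c1 = c1 * f := by
    rw [← ecc', ← mul_assoc f c, ← ccf, mul_assoc c f, cfc', ← mul_assoc c c']
  have cbe := Eg.comm hD C.one hd he sb.hq hbW.2.1
  have cfe := Eg.comm hD C.one hd he hf cfd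
  have cce := Eg.comm hD C.one hd he hc.1 ccd
  have cc1e := (hc1U.1 e he).symm
  have sqc1 := hD.sq s1.hq
  -- `k f k = e`
  have e4 : k * f * k = e := by
    have e5 : b * c' * b = c' * f * e := by
      calc b * c' * b = (b * c * b) * (b * c1 * b) := by
            rw [ec']; simp only [mul_assoc, sq' (hD.sq sb.hq)]
        _ = c' * f * e := by rw [sf'.e, ee, ec']; simp only [mul_assoc, cm' cfc1]
    have e6 : f * (b * c' * b) * (b * k) = c' * (k * f * k) * (k * b) := by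
      simp only [mul_assoc, sq' (hD.sq sb.hq), sq' (hD.sq hk)]
      simpa only [mul_assoc] using cvv
    rw [cbk, e5] at e6
    have e7 := mul_right_cancel e6
    have e8 : f * (c' * f * e) = c' * e := by
      rw [← mul_assoc, ← mul_assoc, cfc', mul_assoc c', hD.sq hf, mul_one]
    rw [e8] at e7
    exact (mul_left_cancel e7).symm
  have heD : e ∈ D := e4 ▸ hD.conj f hf k hk
  have he' : e ∈ EE D d := he.resolve_left (hD.ne_one heD)
  have hcU : UU D f c := by
    have h5 := (hc1U.congr hD C.one hd heD he'.2.symm).conj hD (Subgroup.subset_closure hk)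
    rw [hD.inv hk, ← e4, ← ecc', (sk2.symm hD).e2 hD] at h5
    simpa only [mul_assoc, sq' (hD.sq hk), hD.sq hk, mul_one] using h5
  obtain ⟨y, sy⟩ := exists_sp_of_col hD C.one hd hf hw hfE.symm
  have hyW : y ∈ WW D f := WW.of_col hD hf sy.hu (sy.uq ▸ sy.mul_mem' hD)
  obtain ⟨g, hg, eg⟩ := hcU.2 y hyW
  have hy := sy.hu
  have hcy : y * c * y ∈ WW D d := by
    rw [eg]
    rcases hg with rfl | hg
    · rwa [mul_one]
    · exact WW.mul hD hc (WW.of_ev hD C.one hd hfW hg.1 hg.2.symm) (eg ▸ hD.conj c hc.1 y hy)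
  refine hcy.2.2 (y * v * y) (hD.conj v hv y hy) ?_ ?_
  · have := comm_conj' cvw' y
    rwa [hD.inv hy, sy.e2 hD] at this
  · have := ho.conj y
    rwa [hD.inv hy] at this

/-- the main step: commutators in `W_d` lie in `E_d` -/
theorem uu {d c : G} (hd : d ∈ D) (hc : c ∈ WW D d) : UU D d c := by
  have hD := C.ri
  by_contra hn
  have hP := (WW.isPGroup hD d).isNilpotent
  have key : ∀ c, c ∈ WW D d ∧ ¬ UU D d c → ∃ m ∈ Subgroup.closure (WW D d),
      c * m * c⁻¹ * m⁻¹ ∈ WW D d ∧ ¬ UU D d (c * m * c⁻¹ * m⁻¹) := by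
    intro c ⟨hc, hn⟩
    by_contra h
    push Not at h
    have h2 : ∀ m ∈ WW D d, ∀ q, Sp D m c q → UU D d q := by
      intro m hm q s
      have e : c * m * c⁻¹ * m⁻¹ = q := by
        rw [hD.inv hc.1, hD.inv hm.1, ← (s.symm hD).sq hD]; simp only [pow_two, mul_assoc]
      have := h m (Subgroup.subset_closure hm)
      rw [e] at this
      exact this (WW.sp hD hc hm.2.1 s)
    have h3 : ∃ b ∈ WW D d, ∃ f, Sp D b c f ∧ f ∉ EE D d := by
      by_contra h4
      push Not at h4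
      exact hn (UU.mk' hD C.one hd hc.1 hc.2.1 h4 hc)
    obtain ⟨b, hb, f, s, hf⟩ := h3
    refine hn (C.case_two hd hb.2.1 s ⟨WW.sp hD hc hb.2.1 s, fun e => hf ⟨s.hq, e⟩, h2 b hb f s⟩ ?_)
    intro e he
    refine C.case_one he.1 (comm_of_ev hD C.one hd he.1 he.2.symm hb.1 hb.2.1) s
      (WW.congr hD C.one hd he.1 he.2.symm hc) fun m hm q s' => ?_
    exact (h2 m (WW.congr hD C.one he.1 hd he.2 hm) q s').congr hD C.one hd he.1 he.2.symm
  have := descent (H := Subgroup.closure (WW D d)) (P := fun c => c ∈ WW D d ∧ ¬ UU D d c)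
    (fun c hc => Subgroup.subset_closure hc.1) key ⟨hc, hn⟩
  exact hD.ne_one this.1.1 rfl

theorem sp_mem_EE {d a b q : G} (hd : d ∈ D) (ha : a ∈ WW D d) (hb : b ∈ WW D d) (s : Sp D a b q) :
    q ∈ EE D d := (C.uu hd hb).sp C.ri ha s

theorem ll {d f : G} (hd : d ∈ D) (hf : f ∈ WW D d) (h : AA D f ≠ AA D d) : LL D d f :=
  ⟨hf, h, C.uu hd hf⟩

/-- `W_d = X_d ∪ {d}` -/
theorem col_of_WW {d f : G} (hd : d ∈ D) (hf : f ∈ WW D d) (h : d ≠ f) : d * f ∈ D := by
  by_cases hE : AA D f = AA D d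
  · exact C.hE d hd f hf.1 hE.symm h
  · exact (C.good_col hd (C.ll hd hf hE) (EE.self hd)).1

end Ctx

end Cfsg.Agent.H18RI
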