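import Cfsg.Agent.H18.RootB
import Cfsg.Agent.S5054

/-! Root involutions: the group `M_d = ⟨W_d⟩`. -/

set_option autoImplicit false

namespace Cfsg.Agent.H18RI

open Cfsg Cfsg.Agent.H36
open scoped commutatorElement

variable {G : Type*} [Group G] {D : Set G}

/-- `M_d` -/
def MM (D : Set G) (d : G) : Subgroup G := Subgroup.closure (WW D d)

theorem MM.comm {d y : G} (hy : y ∈ MM D d) : y * d = d * y :=
  (comm_closure (fun s hs => hs.2.1.symm) hy).symm

theorem MM.conj (hD : RI D) {d a g : G} (hg : g ∈ Subgroup.closure D) (ha : a ∈ MM D d) :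
    g * a * g⁻¹ ∈ MM D (g * d * g⁻¹) := by
  induction ha using Subgroup.closure_induction with
  | mem x hx => exact Subgroup.subset_closure (WW.conj hD hg hx)
  | one => simp
  | mul x y _ _ ihx ihy =>
    have : g * (x * y) * g⁻¹ = (g * x * g⁻¹) * (g * y * g⁻¹) := by group
    rw [this]; exact Subgroup.mul_mem _ ihx ihy
  | inv x _ ih =>
    have : g * x⁻¹ * g⁻¹ = (g * x * g⁻¹)⁻¹ := by group
    rw [this]; exact Subgroup.inv_mem _ ih

variable [Finite G]

theorem mem_WW_of_MM (hD : RI D) {d y : G} (hy : y ∈ D) (h : y ∈ MM D d) : y ∈ WW D d := by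
  refine ⟨hy, MM.comm h, fun v hv hvd ho => ?_⟩
  have h1 := MM.conj hD (Subgroup.subset_closure hv) h
  rw [hD.inv hv, conj_eq_of_comm' hD hv hvd] at h1
  have h2 : (v * y) ^ 2 ∈ MM D d := by
    have : (v * y) ^ 2 = (v * y * v) * y := by simp only [pow_two, mul_assoc]
    rw [this]; exact Subgroup.mul_mem _ h1 h
  obtain ⟨k, hk⟩ := WW.isPGroup hD d ⟨_, h2⟩
  have h3 : (v * y) ^ 2 ^ (k + 1) = 1 := by
    have := congrArg Subtype.val hk
    simp only [SubgroupClass.coe_pow, OneMemClass.coe_one] at this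
    rw [pow_succ', pow_mul, this]
  have h4 := eq_one_of_odd_pow ho.2 h3
  exact ho.1 (by rw [eq_inv_of_mul_eq_one_left h4, hD.inv hy])

omit [Finite G] in
theorem exists_sp_comm (hD : RI D) (h1 : OneClass D) (h4 : ∃ a ∈ D, ∃ b ∈ D, orderOf (a * b) = 4)
    {e : G} (he : e ∈ D) : ∃ a b, Sp D a b e := by
  obtain ⟨a, ha, b, hb, h⟩ := h4
  obtain ⟨n1, n2⟩ := (hD.order_four_iff ha hb).mp h
  have s := sp_of hD ha hb n1 n2
  obtain ⟨g, hg, rfl⟩ := h1 _ s.hq e he
  exact ⟨_, _, s.conj hD hg⟩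

theorem ctx_of (hD : IsNondegenerateRootInvolutionSet D) (hcl : IsRootInvolutionClass D)
    (hZ : Subgroup.center G = ⊥) : ∀ d ∈ D, ∀ x ∈ D, Opp x d → ∀ y : G,
      (∀ b ∈ D, d * b ∈ D → y * b = b * y) → y * x = x * y → y = 1 := by
  intro d hd x hx ho y h1 h2
  have hR := RI.of hD.1
  have h3 := (S5054.result hD hcl).1 d hd x (mem_oddPartners.mpr ⟨hx, ho.symm⟩)
  rw [← Subgroup.mem_bot, ← hZ, Subgroup.mem_center_iff]
  intro g
  refine (comm_closure (S := productPartners D d ∪ {x}) ?_ (h3 ▸ Subgroup.mem_top g)).symm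
  rintro s (hs | rfl)
  · exact h1 s hs.1.1 (hs.1.2.1 ▸ hs.2)
  · exact h2

namespace Ctx

variable (C : Ctx D)
include C

theorem UU_MM {d u : G} (hd : d ∈ D) (hu : u ∈ MM D d) : UU D d u := by
  induction hu using Subgroup.closure_induction'' with
  | mem x hx => exact C.uu hd hx
  | inv_mem x hx => rw [C.ri.inv hx.1]; exact C.uu hd hx
  | one => exact ⟨by simp, fun m hm => ⟨1, Or.inl rfl, by simp [C.ri.sq hm.1]⟩⟩
  | mul x y _ _ ihx ihy => exact C.UU_mul ihx ihy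

theorem conj_MM {d u m : G} (hd : d ∈ D) (hu : u ∈ MM D d) (hm : m ∈ MM D d) :
    ∃ e ∈ Eg D d, m * u * m⁻¹ = u * e := by
  induction hm using Subgroup.closure_induction'' with
  | mem x hx => rw [C.ri.inv hx.1]; exact (C.UU_MM hd hu).2 x hx
  | inv_mem x hx => rw [inv_inv, C.ri.inv hx.1]; exact (C.UU_MM hd hu).2 x hx
  | one => exact ⟨1, Or.inl rfl, by simp⟩
  | mul x y hx _ ihx ihy =>
    obtain ⟨e, he, e1⟩ := ihx
    obtain ⟨e', he', e2⟩ := ihy
    refine ⟨e * e', C.Eg_mul he he', ?_⟩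
    calc x * y * u * (x * y)⁻¹ = x * (y * u * y⁻¹) * x⁻¹ := by group
      _ = x * u * x⁻¹ * (x * e' * x⁻¹) := by rw [e2]; group
      _ = _ := by rw [e1, ← (C.UU_MM hd hx).1 e' he']; group

theorem commutator_MM {d u m : G} (hd : d ∈ D) (hu : u ∈ MM D d) (hm : m ∈ MM D d) :
    ⁅m, u⁆ ∈ Eg D d := by
  obtain ⟨e, he, e1⟩ := C.conj_MM hd hu hm
  rw [commutatorElement_def, e1, ← (C.UU_MM hd hu).1 e he, mul_inv_cancel_right]
  exact he

theorem WW_eq {d : G} (hd : d ∈ D) : WW D d = productPartners D d ∪ {d} := by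
  ext y
  constructor
  · intro hy
    by_cases h : d = y
    · exact Or.inr h.symm
    · exact Or.inl ⟨⟨hy.1, hy.2.1, Ne.symm h⟩, hy.2.1 ▸ C.col_of_WW hd hy h⟩
  · rintro (hy | rfl)
    · exact WW.of_col C.ri hd hy.1.1 (hy.1.2.1 ▸ hy.2)
    · exact WW.self C.ri hd

end Ctx

theorem EE_eq (hD : RI D) (h1 : OneClass D) {d : G} (hd : d ∈ D) :
    sameCommutingClass D d = EE D d := by
  ext e
  rw [hD.mem_E_iff h1 hd]
  exact and_congr_right fun _ => eq_comm

end Cfsg.Agent.H18RI
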