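import Cfsg.Agent.H18.RootC

/-! Root involutions: the groups `E(d)` without the closure hypothesis, configurations. -/

set_option autoImplicit false

namespace Cfsg.Agent.H18RI

open Cfsg Cfsg.Agent.H36

variable {G : Type*} [Group G] {D : Set G}

/-- `E(d) = ⟨E_d⟩` -/
def FF (D : Set G) (d : G) : Subgroup G := Subgroup.closure (EE D d)

/-- central modulo `E(d)` -/
def UF (D : Set G) (d u : G) : Prop :=
  (∀ e ∈ FF D d, e * u = u * e) ∧ ∀ m ∈ WW D d, ∃ e ∈ FF D d, m * u * m = u * e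

/-- good points -/
def LF (D : Set G) (d f : G) : Prop := f ∈ WW D d ∧ AA D f ≠ AA D d ∧ UF D d f

/-- standing hypotheses without the closure of `E_d` -/
structure Ctx0 (D : Set G) : Prop where
  ri : RI D
  one : OneClass D
  gen : ∀ d ∈ D, ∀ x ∈ D, Opp x d → ∀ y : G,
    (∀ b ∈ D, d * b ∈ D → y * b = b * y) → y * x = x * y → y = 1
  top : Subgroup.closure D = ⊤
  o2 : ∀ u : G, u * u = 1 → (∀ g : G, ∃ k : ℕ, (u * (g * u * g⁻¹)) ^ 2 ^ k = 1) → u = 1

/-- `p` and `p u` are equivalent members -/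
def TT (D : Set G) (u p : G) : Prop := p ∈ D ∧ p * u ∈ EE D p

/-- a configuration -/
structure Cfg (D : Set G) (u x y : G) : Prop where
  hx : x ∈ D
  yy : y * y = 1
  y1 : y ≠ 1
  yx : y * x = x * y
  yu : y * u = u * y
  hd : u * y ∈ D
  ho : Opp x (u * y)

theorem FF_congr {d e : G} (h : AA D d = AA D e) : FF D d = FF D e := by
  simp only [FF, EE_congr h]

theorem FF.of {d e : G} (h : e ∈ EE D d) : e ∈ FF D d := Subgroup.subset_closure h

theorem FF.conj (hD : RI D) {d e g : G} (hg : g ∈ Subgroup.closure D) (he : e ∈ FF D d) :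
    g * e * g⁻¹ ∈ FF D (g * d * g⁻¹) := by
  induction he using Subgroup.closure_induction with
  | mem x hx => exact FF.of (EE.conj hD hg hx)
  | one => simp
  | mul x y _ _ ihx ihy =>
    have : g * (x * y) * g⁻¹ = (g * x * g⁻¹) * (g * y * g⁻¹) := by group
    rw [this]; exact Subgroup.mul_mem _ ihx ihy
  | inv x _ ih =>
    have : g * x⁻¹ * g⁻¹ = (g * x * g⁻¹)⁻¹ := by group
    rw [this]; exact Subgroup.inv_mem _ ih

theorem FF.conj' (hD : RI D) {d e t : G} (ht : t ∈ D) (he : e ∈ FF D d) :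
    t * e * t ∈ FF D (t * d * t) := by
  have := FF.conj hD (Subgroup.subset_closure ht) he
  rwa [hD.inv ht] at this

theorem ev_conj' (hD : RI D) {d e t : G} (ht : t ∈ D) (h : AA D d = AA D e) :
    AA D (t * d * t) = AA D (t * e * t) := by
  have := hD.AA_eq_conj (Subgroup.subset_closure ht) h
  rwa [hD.inv ht] at this

theorem UF.conj (hD : RI D) {d u g : G} (hg : g ∈ Subgroup.closure D) (h : UF D d u) :
    UF D (g * d * g⁻¹) (g * u * g⁻¹) := by
  have hg' := Subgroup.inv_mem _ hg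
  refine ⟨fun e he => ?_, fun m hm => ?_⟩
  · have h1 := FF.conj hD hg' he
    simp only [inv_inv, mul_assoc, inv_mul_cancel_left, inv_mul_cancel, mul_one] at h1
    have h2 := comm_conj' (h.1 _ h1) g
    simpa [mul_assoc] using h2
  · have h1 := WW.conj hD hg' hm
    simp only [inv_inv, mul_assoc, inv_mul_cancel_left, inv_mul_cancel, mul_one] at h1
    obtain ⟨e, he, e1⟩ := h.2 _ h1
    refine ⟨_, FF.conj hD hg he, ?_⟩
    calc m * (g * u * g⁻¹) * m = g * (g⁻¹ * (m * g) * u * (g⁻¹ * (m * g))) * g⁻¹ := by group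
      _ = _ := by rw [e1]; group

theorem LF.conj' (hD : RI D) {d f t : G} (ht : t ∈ D) (h : LF D d f) :
    LF D (t * d * t) (t * f * t) := by
  have hg : t ∈ Subgroup.closure D := Subgroup.subset_closure ht
  have : LF D (t * d * t⁻¹) (t * f * t⁻¹) :=
    ⟨WW.conj hD hg h.1, ne_ev_conj hD hg h.2.1, h.2.2.conj hD hg⟩
  rwa [hD.inv ht] at this

theorem UF.mul {d u u' : G} (hD : RI D) (h : UF D d u) (h' : UF D d u') : UF D d (u * u') := by
  refine ⟨fun e he => by rw [← mul_assoc, h.1 e he, mul_assoc, h'.1 e he, mul_assoc],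
    fun m hm => ?_⟩
  obtain ⟨e, he, e1⟩ := h.2 m hm
  obtain ⟨e', he', e2⟩ := h'.2 m hm
  refine ⟨e * e', Subgroup.mul_mem _ he he', ?_⟩
  calc m * (u * u') * m = (m * u * m) * (m * u' * m) := by
        simp only [mul_assoc, sq' (hD.sq hm.1)]
    _ = _ := by rw [e1, e2, mul_assoc, ← mul_assoc e, h'.1 e he]; simp only [mul_assoc]

theorem TT.conj (hD : RI D) {u p g : G} (hg : g ∈ Subgroup.closure D) (h : TT D u p) :
    TT D (g * u * g⁻¹) (g * p * g⁻¹) := by
  refine ⟨hD.conj_mem hg h.1, ?_⟩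
  have := EE.conj hD hg h.2
  rwa [show g * (p * u) * g⁻¹ = g * p * g⁻¹ * (g * u * g⁻¹) by group] at this

theorem TT.conj_comm (hD : RI D) {u p t : G} (ht : t ∈ D) (htu : t * u = u * t) (h : TT D u p) :
    TT D u (t * p * t) := by
  have := h.conj hD (Subgroup.subset_closure ht)
  rwa [hD.inv ht, conj_eq_of_comm' hD ht htu] at this

theorem TT.mem (hD : RI D) {u p : G} (h : TT D u p) : u ∈ FF D p := by
  have := Subgroup.mul_mem _ (FF.of (EE.self h.1)) (FF.of h.2)
  rwa [sq' (hD.sq h.1)] at this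

theorem Cfg.conj (hD : RI D) {u x y g : G} (hg : g ∈ Subgroup.closure D) (h : Cfg D u x y) :
    Cfg D (g * u * g⁻¹) (g * x * g⁻¹) (g * y * g⁻¹) := by
  have e : g * u * g⁻¹ * (g * y * g⁻¹) = g * (u * y) * g⁻¹ := by group
  refine ⟨hD.conj_mem hg h.hx, ?_, fun e => h.y1 (by simpa using e), comm_conj' h.yx g,
    comm_conj' h.yu g, e ▸ hD.conj_mem hg h.hd, e ▸ h.ho.conj g⟩
  calc _ = g * (y * y) * g⁻¹ := by group
    _ = 1 := by rw [h.yy]; group

theorem Cfg.yd {u x y : G} (h : Cfg D u x y) : y * (u * y) = (u * y) * y := by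
  rw [← mul_assoc, h.yu]

theorem Cfg.change {u x y a : G} (h : Cfg D u x y) (ha : a ∈ D) (hay : y * a = a * y)
    (ho : Opp a (u * y)) : Cfg D u a y := ⟨ha, h.yy, h.y1, hay, h.yu, h.hd, ho⟩

theorem comm_mul {a b c : G} (h1 : a * b = b * a) (h2 : a * c = c * a) :
    a * (b * c) = (b * c) * a := by rw [← mul_assoc, h1, mul_assoc, h2, mul_assoc]

theorem comm_pow {a b : G} (h : a * b = b * a) (k : ℕ) : a * b ^ k = b ^ k * a :=
  (Commute.pow_right h k).eq

/-- the swapping member commutes with everything commuting with both -/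
theorem exists_eye (hD : RI D) {a x : G} (ha : a ∈ D) (hx : x ∈ D) (ho : Opp a x) :
    ∃ r ∈ D, r * a * r = x ∧ r * x * r = a ∧
      ∀ y : G, y * a = a * y → y * x = x * y → y * r = r * y := by
  obtain ⟨r, hr, e, k, ek⟩ := hD.exists_swap ha hx ho.2
  refine ⟨r, hr, e, ?_, fun y h1 h2 => ?_⟩
  · rw [← e]; simp only [mul_assoc, sq' (hD.sq hr), hD.sq hr, mul_one]
  · rw [ek]; exact comm_mul (comm_pow (comm_mul h1 h2) k) h1

variable [Finite G]

theorem FF.comm (hD : RI D) (h1 : OneClass D) {d e c : G} (hd : d ∈ D) (he : e ∈ FF D d)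
    (hc : c ∈ D) (hcd : c * d = d * c) : c * e = e * c :=
  comm_closure (fun s hs => comm_of_ev hD h1 hd hs.1 hs.2.symm hc hcd) he

theorem FF.comm2 (hD : RI D) (h1 : OneClass D) {d d' e e' : G} (hd : d ∈ D) (hd' : d' ∈ D)
    (h : d * d' = d' * d) (he : e ∈ FF D d) (he' : e' ∈ FF D d') : e * e' = e' * e :=
  comm_closure (fun s hs => (FF.comm hD h1 hd he hs.1
    (comm_of_ev hD h1 hd' hs.1 hs.2.symm hd h).symm).symm) he'

theorem FF.sq (hD : RI D) (h1 : OneClass D) {d e : G} (hd : d ∈ D) (he : e ∈ FF D d) :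
    e * e = 1 := by
  induction he using Subgroup.closure_induction'' with
  | mem x hx => exact hD.sq hx.1
  | inv_mem x hx => rw [hD.inv hx.1]; exact hD.sq hx.1
  | one => simp
  | mul x y hx hy ihx ihy =>
    rw [mul_assoc, ← mul_assoc y, ← FF.comm2 hD h1 hd hd rfl hx hy, mul_assoc, ihy, mul_one, ihx]

theorem UF.congr (hD : RI D) (h1 : OneClass D) {d e u : G} (hd : d ∈ D) (he : e ∈ D)
    (h : AA D d = AA D e) (hu : UF D d u) : UF D e u := by
  rw [UF, ← FF_congr h]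
  exact ⟨hu.1, fun m hm => hu.2 m (WW.congr hD h1 he hd h.symm hm)⟩

theorem LF.congr (hD : RI D) (h1 : OneClass D) {d e f : G} (hd : d ∈ D) (he : e ∈ D)
    (h : AA D d = AA D e) (hf : LF D d f) : LF D e f :=
  ⟨WW.congr hD h1 hd he h hf.1, h ▸ hf.2.1, hf.2.2.congr hD h1 hd he h⟩

theorem UF.mk' (hD : RI D) (h1 : OneClass D) {d u : G} (hd : d ∈ D)
    (h : ∀ m ∈ WW D d, ∀ q, Sp D m u q → q ∈ EE D d) (hw : u ∈ WW D d) : UF D d u := by
  refine ⟨fun e he => (FF.comm hD h1 hd he hw.1 hw.2.1).symm, fun m hm => ?_⟩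
  by_cases hc : m * u = u * m
  · exact ⟨1, Subgroup.one_mem _, by rw [conj_eq_of_comm' hD hm.1 hc, mul_one]⟩
  · obtain ⟨q, s⟩ := exists_sp hD hm.1 hw.1 (WW.not_opp hw hm.1 hm.2.1) hc
    exact ⟨q, FF.of (h m hm q s), s.e⟩

theorem LF.symm (hD : RI D) (h1 : OneClass D) {d f : G} (hd : d ∈ D) (h : LF D d f)
    (hm : d * f ∈ D) : LF D f d := by
  obtain ⟨t, ht, e1, e2⟩ := exists_swap_col hD h1 hd h.1.1 hm h.2.1.symm
  have := h.conj' hD ht
  rwa [e1, e2] at this

theorem four_of_FF (hD : RI D) (h1 : OneClass D) {p x v : G} (hp : p ∈ D) (hx : x ∈ D)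
    (hn : ¬ Opp x p) (hv : v ∈ FF D p) : (x * v) ^ 4 = 1 := by
  have h4 := hD.four_of_not_opp hx hp hn
  have hp' := hD.conj p hp x hx
  have c1 : (x * p * x) * p = p * (x * p * x) := by
    apply comm_of_sq (hD.sq hp') (hD.sq hp)
    rw [← h4]; simp only [pow_succ, pow_zero, one_mul, mul_assoc]
  have hv' := FF.conj' hD hx hv
  have c2 := FF.comm2 hD h1 hp' hp c1 hv' hv
  have := four_of_comm (FF.sq hD h1 hp' hv') (FF.sq hD h1 hp hv) c2
  rw [← this]; simp only [pow_succ, pow_zero, one_mul, mul_assoc]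

theorem TT.comm (hD : RI D) (h1 : OneClass D) {u p c : G} (h : TT D u p) (hc : c ∈ D)
    (hcp : c * p = p * c) : c * u = u * c := FF.comm hD h1 h.1 (h.mem hD) hc hcp

theorem TT.sq (hD : RI D) (h1 : OneClass D) {u p : G} (h : TT D u p) : u * u = 1 :=
  FF.sq hD h1 h.1 (h.mem hD)

theorem TT.other (hD : RI D) (h1 : OneClass D) {u p : G} (h : TT D u p) : TT D u (p * u) := by
  refine ⟨h.2.1, ?_⟩
  rw [mul_assoc, h.sq hD h1, mul_one]
  exact ⟨h.1, h.2.2.symm⟩

/-- the commutator of a null triple -/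
theorem TT.null (hD : RI D) (h1 : OneClass D) {u p v f : G} (h : TT D u p) (s : Sp D v p f)
    (hv : v * u = u * v) : TT D u f := by
  have h2 := h.conj_comm hD s.hu hv
  rw [s.e] at h2
  obtain ⟨z, sz⟩ := exists_sp_of_col hD h1 s.hq s.hp (s.pq ▸ s.mul_mem hD) (s.not_ev hD h1).symm
  have h3 := h2.conj_comm hD sz.hu (h.comm hD h1 sz.hu sz.uq)
  rwa [s.pq, sz.e2 hD] at h3

theorem Cfg.opp (hD : RI D) (h1 : OneClass D) {u x y p : G} (h : Cfg D u x y) (t : TT D u p) :
    Opp x p := by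
  by_contra hn
  have h4 := four_of_FF hD h1 t.1 h.hx hn (t.mem hD)
  apply h.ho.four_ne (hD.sq h.hd)
  have c : Commute (x * u) y := (comm_mul h.yx h.yu).symm
  rw [← mul_assoc, c.mul_pow, h4, show (4 : ℕ) = 2 * 2 from rfl, pow_mul, pow_two y, h.yy]
  simp

theorem Cfg.comm (hD : RI D) (h1 : OneClass D) {u x y p : G} (h : Cfg D u x y) (t : TT D u p) :
    (u * y) * p = p * (u * y) := by
  have su := t.sq hD h1
  have cdu : (u * y) * u = u * (u * y) := by rw [mul_assoc, h.yu]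
  have hn : ¬ Opp (u * y) p := fun ho => by
    have := hD.lemB t.1 h.hd ho su (t.comm hD h1 t.1 rfl).symm cdu.symm t.2.1
    have h2 := h.ho
    rw [this, one_mul] at h2
    exact h2.not_comm (hD.sq h.hx) h.yy h.yx.symm
  by_contra hc
  obtain ⟨f, s⟩ := exists_sp hD h.hd t.1 hn hc
  have tf := t.null hD h1 s cdu
  have tf' := tf.other hD h1
  have cfu := tf.comm hD h1 tf.1 rfl
  have cfy : y * f = f * y := by
    have : u * (u * y) * f = f * (u * (u * y)) := (comm_mul cfu s.uq.symm).symm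
    rwa [sq' su] at this
  refine h.y1 (hD.lemB tf'.1 h.hx (h.opp hD h1 tf') h.yy (comm_mul cfy h.yu) h.yx ?_)
  rw [mul_assoc, ← s.uq]
  exact s.mul_mem' hD

/-- local centralizers agree -/
theorem Cfg.J (hD : RI D) (h1 : OneClass D) {u x y p a : G} (h : Cfg D u x y) (t : TT D u p)
    (ha : a ∈ D) (hay : y * a = a * y) (had : a * (u * y) = (u * y) * a) : a * p = p * a := by
  have su := t.sq hD h1
  have cpd := h.comm hD h1 t
  have cpu := t.comm hD h1 t.1 rfl
  have cpy : y * p = p * y := by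
    have : u * (u * y) * p = p * (u * (u * y)) := (comm_mul cpu cpd.symm).symm
    rwa [sq' su] at this
  obtain ⟨r, hr, r1, -, r3⟩ := exists_eye hD t.1 h.hx (h.opp hD h1 t).symm
  obtain ⟨s, hs, -, s2, s3⟩ := exists_eye hD h.hd h.hx h.ho.symm
  have cr := r3 y cpy h.yx
  have cs := s3 y h.yd h.yx
  let S : G → Set G := fun b => {a | a ∈ D ∧ y * a = a * y ∧ a * b = b * a}
  have hsub : S p ⊆ S (u * y) := fun a ha =>
    ⟨ha.1, ha.2.1, comm_mul (t.comm hD h1 ha.1 ha.2.2) ha.2.1.symm⟩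
  have key : ∀ b c t : G, t ∈ D → y * t = t * y → t * b * t = c → (S c).ncard ≤ (S b).ncard := by
    intro b c t ht hty e
    refine Set.ncard_le_ncard_of_injOn (fun a => t * a * t) (fun a ha => ⟨hD.conj a ha.1 t ht,
      comm_mul (comm_mul hty ha.2.1) hty, ?_⟩) (fun a _ b _ e => by simpa using e) (Set.toFinite _)
    have := comm_conj' ha.2.2 t
    rwa [hD.inv ht, ← e, show t * (t * b * t) * t = b by
      simp only [mul_assoc, sq' (hD.sq ht), hD.sq ht, mul_one]] at this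
  have heq : S p = S (u * y) := Set.eq_of_subset_of_ncard_le hsub
    ((key _ _ s hs cs s2).trans (key _ _ r hr cr r1)) (Set.toFinite _)
  have : a ∈ S (u * y) := ⟨ha, hay, had⟩
  rw [← heq] at this
  exact this.2.2

/-- (N1) -/
theorem Cfg.n1 (hD : RI D) (h1 : OneClass D) {u x y p b c : G} (h : Cfg D u x y) (t : TT D u p)
    (hb : b ∈ WW D p) (s : Sp D b (u * y) c) : ¬ Opp x c := by
  intro ho
  have su := t.sq hD h1
  have hc := s.hq
  have cpd := h.comm hD h1 t
  have cpu := t.comm hD h1 t.1 rfl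
  have cpy : y * p = p * y := by
    have : u * (u * y) * p = p * (u * (u * y)) := (comm_mul cpu cpd.symm).symm
    rwa [sq' su] at this
  have cbu := t.comm hD h1 hb.1 hb.2.1
  have ec : c = (u * y) * (b * (u * y) * b) := by rw [s.e, sq' (hD.sq h.hd)]
  have ccp : p * c = c * p := by
    rw [ec]; exact comm_mul cpd.symm (comm_mul (comm_mul hb.2.1.symm cpd.symm) hb.2.1.symm)
  have ccu := t.comm hD h1 hc ccp.symm
  have ccy : y * c = c * y := by
    have : u * (u * y) * c = c * (u * (u * y)) := (comm_mul ccu s.pq.symm).symm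
    rwa [sq' su] at this
  have eb : b * y * b = y * c := by
    have : u * (b * y * b) = u * (y * c) := by
      rw [← mul_assoc u y, ← s.e]; simp only [mul_assoc, cm' cbu]
    exact mul_left_cancel this
  obtain ⟨r, hr, r1, r2, r3⟩ := exists_eye hD hc h.hx ho.symm
  obtain ⟨s', hs, s1, s2, s3⟩ := exists_eye hD h.hd h.hx h.ho.symm
  have cr := r3 y ccy h.yx
  have cs := s3 y h.yd h.yx
  have sr := hD.sq hr
  have ss := hD.sq hs
  have sb := hD.sq hb.1
  obtain ⟨k, hk⟩ : ∃ k, k = r * s' := ⟨_, rfl⟩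
  have hkD : k ∈ Subgroup.closure D :=
    hk ▸ Subgroup.mul_mem _ (Subgroup.subset_closure hr) (Subgroup.subset_closure hs)
  have ck : y * k = k * y := hk ▸ comm_mul cr cs
  have ck' : y * k⁻¹ = k⁻¹ * y := (Commute.inv_right ck).eq
  have k1 : k * (u * y) * k⁻¹ = c := by
    rw [hk, mul_inv_rev, hD.inv hr, hD.inv hs, ← r2, ← s1]; simp only [mul_assoc]
  have k2 : k * y * k⁻¹ = y := by rw [← ck, mul_inv_cancel_right]
  have k3 : k * u * k⁻¹ = c * y := by
    rw [← k1, mul_assoc _ k⁻¹, ← ck']; simp only [mul_assoc, sq' h.yy]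
  have hbD : b ∈ Subgroup.closure D := Subgroup.subset_closure hb.1
  have b1 : b * (c * y) * b⁻¹ = y := by
    rw [hD.inv hb.1]
    calc b * (c * y) * b = c * (b * y * b) := by simp only [mul_assoc, cm' s.uq]
      _ = y := by rw [eb, ccy, sq' (hD.sq hc)]
  have C2 := (h.conj hD hkD).conj hD hbD
  have T2 := (t.conj hD hkD).conj hD hbD
  rw [k3, b1] at C2 T2
  rw [k2, hD.inv hb.1, eb] at C2
  obtain ⟨a, ha⟩ : ∃ a, a = k * p * k⁻¹ := ⟨_, rfl⟩
  rw [← ha, hD.inv hb.1] at T2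
  have haD : a ∈ D := ha ▸ hD.conj_mem hkD t.1
  have h3 := C2.comm hD h1 (T2.conj_comm hD hr cr.symm)
  rw [sq' h.yy] at h3
  have h4 : x * (b * a * b) = (b * a * b) * x := by
    have := comm_conj' h3 r
    rw [hD.inv hr, r1] at this
    simpa only [mul_assoc, sq' sr, sr, mul_one] using this
  have hk' := Subgroup.inv_mem _ hkD
  have oa : Opp x a := by
    have o1 := ho.conj k⁻¹
    rw [← k1, show k⁻¹ * (k * (u * y) * k⁻¹) * k⁻¹⁻¹ = u * y by group] at o1
    have o2 := ((h.change (hD.conj_mem hk' h.hx) (by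
      rw [inv_inv]; exact comm_mul (comm_mul ck' h.yx) ck) o1).opp hD h1 t).conj k
    rwa [← ha, show k * (k⁻¹ * x * k⁻¹⁻¹) * k⁻¹ = x by group] at o2
  have cap : a * p = p * a := by
    have c1 := comm_conj' ccp k⁻¹
    rw [← k1, show k⁻¹ * (k * (u * y) * k⁻¹) * k⁻¹⁻¹ = u * y by group] at c1
    have c2 := comm_conj' (h.J hD h1 t (hD.conj_mem hk' t.1) (by
      rw [inv_inv]; exact comm_mul (comm_mul ck' cpy) ck) c1) k
    rw [← ha, show k * (k⁻¹ * p * k⁻¹⁻¹) * k⁻¹ = p by group] at c2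
    exact c2.symm
  by_cases hba : b * a = a * b
  · rw [conj_eq_of_comm' hD hb.1 hba] at h4
    exact oa.not_comm (hD.sq h.hx) (hD.sq haD) h4
  · obtain ⟨q, sq⟩ := exists_sp hD hb.1 haD (fun o => WW.not_opp hb haD cap o.symm) hba
    rw [sq.e] at h4
    have hm : a * (a * q) ∈ D := by rw [sq' (hD.sq haD)]; exact sq.hq
    exact hD.not_comm_of_opp haD (sq.mul_mem hD) (comm_of_mul_mem hD haD (sq.mul_mem hD) hm) hm
      h.hx oa h4

end Cfsg.Agent.H18RI
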