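import Cfsg.Agent.H18.RootD

/-! Root involutions: no null triple on a good line. -/

set_option autoImplicit false

namespace Cfsg.Agent.H18RI

open Cfsg Cfsg.Agent.H36

variable {G : Type*} [Group G] {D : Set G} [Finite G]

omit [Finite G] in
theorem odd_pow_invol {y : G} (hy : y * y = 1) {k : ℕ} (hk : Odd k) : y ^ k = y := by
  obtain ⟨m, rfl⟩ := hk
  rw [pow_succ, pow_mul, pow_two, hy]; simp

omit [Finite G] in
theorem eq_of_swap {σ v w : G} (ho : Odd (orderOf σ)) (h1 : σ * v * σ⁻¹ = w) (h2 : σ * w * σ⁻¹ = v) :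
    v = w := by
  obtain ⟨m, hm⟩ := ho
  have c : σ ^ 2 * v = v * σ ^ 2 := by
    have : σ ^ 2 * v * (σ ^ 2)⁻¹ = v := by
      calc σ ^ 2 * v * (σ ^ 2)⁻¹ = σ * (σ * v * σ⁻¹) * σ⁻¹ := by
            simp only [pow_two, mul_inv_rev, mul_assoc]
        _ = v := by rw [h1, h2]
    exact mul_inv_eq_iff_eq_mul.mp this
  have c2 := comm_pow c.symm m
  have e : (σ ^ 2) ^ m = σ⁻¹ := by
    rw [← pow_mul, eq_inv_iff_mul_eq_one, ← pow_succ, ← hm, pow_orderOf_eq_one]
  rw [e] at c2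
  rw [← h1, mul_assoc, c2, mul_inv_cancel_left]

namespace Ctx0

variable (C : Ctx0 D)
include C

theorem mem_EE {d e : G} (hd : d ∈ D) (he : e ∈ FF D d) (heD : e ∈ D) : e ∈ EE D d :=
  ⟨heD, (ev_of_cent C.ri C.one C.gen hd heD (FF.comm C.ri C.one hd he hd rfl).symm fun b hb hm =>
    (FF.comm C.ri C.one hd he hb (comm_of_mul_mem C.ri hd hb hm).symm).symm).symm⟩

theorem sp {d u m q : G} (hd : d ∈ D) (h : UF D d u) (hm : m ∈ WW D d) (s : Sp D m u q) :
    q ∈ EE D d := by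
  obtain ⟨e, he, e1⟩ := h.2 m hm
  have : q = e := mul_left_cancel (s.e.symm.trans e1)
  subst this
  exact C.mem_EE hd he s.hq

theorem eq_one {d x v : G} (hd : d ∈ D) (hx : x ∈ D) (ho : Opp x d) (hv : v ∈ FF D d)
    (h : v * x = x * v) : v = 1 :=
  C.gen d hd x hx ho v (fun b hb hm =>
    (FF.comm C.ri C.one hd hv hb (comm_of_mul_mem C.ri hd hb hm).symm).symm) h

/-- (C1) -/
theorem ev {d f g : G} (hd : d ∈ D) (h : LF D d f) (hg : g ∈ EE D f) : LF D d g := by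
  have hD := C.ri
  have h1 := C.one
  have hf := h.1.1
  have hgW := WW.of_ev hD h1 hd h.1 hg.1 hg.2.symm
  refine ⟨hgW, hg.2 ▸ h.2.1, UF.mk' hD h1 hd (fun m hm q s => ?_) hgW⟩
  obtain ⟨d1, s1⟩ := sp_of_ev hD h1 (s.symm hD) (m := f) ⟨hf, hg.2.symm⟩
  have s1' := s1.symm hD
  have hd1 := C.sp hd h.2.2 hm s1'
  have hL : LF D f d1 := (h.congr hD h1 hd hd1.1 hd1.2.symm).symm hD h1 hd1.1
    (s1.uq ▸ s1.mul_mem' hD)
  obtain ⟨z, sz⟩ := exists_sp_of_col hD h1 s.hq s.hp (s.pq ▸ s.mul_mem hD) (s.not_ev hD h1).symm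
  obtain ⟨o, h3⟩ := s3 hD s sz
  have hzW : z ∈ WW D f :=
    WW.congr hD h1 hg.1 hf hg.2 (WW.of_col hD hg.1 sz.hu (sz.uq ▸ sz.mul_mem' hD))
  have hX : d1 ∈ RI.XV D m z := ⟨hd1.1, s1.pq, s1.mul_mem hD,
    fun o => WW.not_opp hzW hd1.1 s1.uq.symm o.symm⟩
  obtain ⟨f2, s2⟩ := exists_sp hD sz.hu hd1.1 hX.2.2.2
    (hD.not_comm_of_opp hm.1 hd1.1 hX.2.1 hX.2.2.1 sz.hu o.symm)
  have hf2 := C.sp hf hL.2.2 hzW s2
  have s3' := nat_line hD hm.1 o.symm h3 hX s2
  have e1 := ev_conj' hD hm.1 (hf2.2.trans hg.2.symm)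
  rw [s3'.e, s.e] at e1
  have e2 := ev_conj' hD sz.hu e1
  rw [← s2.pq, s2.e2 hD, s.pq, sz.e2 hD] at e2
  exact ⟨s.hq, e2.symm.trans hd1.2⟩

theorem exists_col {d f : G} (hd : d ∈ D) (h : LF D d f) : ∃ e ∈ EE D d, f * e ∈ D := by
  have hD := C.ri
  have h0 : ∃ b ∈ D, d * b ∈ D ∧ f * b ≠ b * f := by
    by_contra hn
    push Not at hn
    exact h.2.1 (ev_of_cent hD C.one C.gen hd h.1.1 h.1.2.1 hn).symm
  obtain ⟨b, hb, hdb, hc⟩ := h0
  obtain ⟨e0, s⟩ := exists_sp hD hb h.1.1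
    (WW.not_opp h.1 hb (comm_of_mul_mem hD hd hb hdb).symm) (Ne.symm hc)
  exact ⟨e0, C.sp hd h.2.2 (WW.of_col hD hd hb hdb) s, s.mul_mem hD⟩

theorem flip {d f e : G} (hd : d ∈ D) (h : LF D d f) (he : e ∈ EE D d) : LF D f e := by
  obtain ⟨e0, he0, hm⟩ := C.exists_col hd h
  have h2 := (h.congr C.ri C.one hd he0.1 he0.2.symm).symm C.ri C.one he0.1
    (comm_of_mul_mem C.ri h.1.1 he0.1 hm ▸ hm)
  exact C.ev h.1.1 h2 ⟨he.1, he.2.trans he0.2.symm⟩

/-- (N2) -/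
theorem n2 {u x y p c : G} (h : Cfg D u x y) (t : TT D u p) (hL : LF D p c)
    (hcd : (u * y) * c = c * (u * y)) (hn : ¬ Opp x c) : y ∈ FF D c := by
  have hD := C.ri
  have h1 := C.one
  have hx := h.hx
  have sx := hD.sq hx
  have su := t.sq hD h1
  have hc := hL.1.1
  have hp := t.1
  have hp' := t.2.1
  have op := h.opp hD h1 t
  have cpu := t.comm hD h1 hp rfl
  obtain ⟨δ, hδ⟩ : ∃ δ, δ = u * y := ⟨_, rfl⟩
  have hδD : δ ∈ D := hδ ▸ h.hd
  have oδ : Opp x δ := hδ ▸ h.ho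
  have sδ := hD.sq hδD
  rw [← hδ] at hcd
  have ey : y = u * δ := by rw [hδ, sq' su]
  have eu : u = δ * y := by rw [hδ, mul_assoc, h.yy, mul_one]
  have cyδ : y * δ = δ * y := hδ ▸ h.yd
  have Lp := C.flip hp hL (EE.self hp)
  have Lp' := C.flip hp hL t.2
  -- the group `E(c)` is centralized by `u`, `δ`, `y`
  have cu : ∀ v ∈ FF D c, u * v = v * u := fun v hv => by
    have a1 := FF.comm hD h1 hc hv hp hL.1.2.1.symm
    have a2 := FF.comm hD h1 hc hv hp' Lp'.1.2.1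
    have := comm_mul a1.symm a2.symm
    rw [sq' (hD.sq hp)] at this
    exact this.symm
  have cδ : ∀ v ∈ FF D c, δ * v = v * δ := fun v hv => FF.comm hD h1 hc hv hδD hcd
  have cy : ∀ v ∈ FF D c, y * v = v * y := fun v hv => by
    rw [ey]; exact (comm_mul (cu v hv).symm (cδ v hv).symm).symm
  obtain ⟨p0, hp0, hcp0⟩ := C.exists_col hp hL
  have nxc : x * c ≠ c * x := hD.not_comm_of_opp hp0.1 hc
    (comm_of_mul_mem hD hc hp0.1 hcp0).symm (comm_of_mul_mem hD hc hp0.1 hcp0 ▸ hcp0) hx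
    (opp_of_ev hp0.2.symm hx op)
  obtain ⟨c', sc⟩ := exists_sp hD hx hc hn nxc
  have hcx := hD.conj c hc x hx
  have ccx : c * (x * c * x) = (x * c * x) * c := by rw [sc.e]; exact comm_mul rfl sc.pq
  have cN : ∀ v ∈ FF D c, ∀ w ∈ FF D c, v * (x * w * x) = (x * w * x) * v := fun v hv w hw =>
    FF.comm2 hD h1 hc hcx ccx hv (FF.conj' hD hx hw)
  have cF : ∀ v ∈ FF D c, ∀ w ∈ FF D c, v * w = w * v := fun v hv w hw =>
    FF.comm2 hD h1 hc hc rfl hv hw
  let N : Subgroup G :=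
    { carrier := {g | ∃ v ∈ FF D c, ∃ w ∈ FF D c, g = v * (x * w * x)}
      one_mem' := ⟨1, Subgroup.one_mem _, 1, Subgroup.one_mem _, by simp [sx]⟩
      mul_mem' := by
        rintro _ _ ⟨v, hv, w, hw, rfl⟩ ⟨v', hv', w', hw', rfl⟩
        refine ⟨v * v', Subgroup.mul_mem _ hv hv', w * w', Subgroup.mul_mem _ hw hw', ?_⟩
        rw [mul_assoc, ← mul_assoc (x * w * x), ← cN v' hv' w hw]
        simp only [mul_assoc, sq' sx]
      inv_mem' := by
        rintro _ ⟨v, hv, w, hw, rfl⟩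
        refine ⟨v⁻¹, Subgroup.inv_mem _ hv, w⁻¹, Subgroup.inv_mem _ hw, ?_⟩
        rw [cN _ (Subgroup.inv_mem _ hv) _ (Subgroup.inv_mem _ hw)]
        simp only [mul_inv_rev, hD.inv hx, mul_assoc] }
  have N1 : ∀ v ∈ FF D c, v ∈ N := fun v hv => ⟨v, hv, 1, Subgroup.one_mem _, by simp [sx]⟩
  have N2 : ∀ v ∈ FF D c, x * v * x ∈ N := fun v hv => ⟨1, Subgroup.one_mem _, v, hv, by simp⟩
  have Nsq : ∀ g ∈ N, g * g = 1 := by
    rintro _ ⟨v, hv, w, hw, rfl⟩
    rw [mul_assoc, ← mul_assoc (x * w * x), ← cN v hv w hw, mul_assoc,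
      FF.sq hD h1 hcx (FF.conj' hD hx hw), mul_one, FF.sq hD h1 hc hv]
  have Nx : ∀ g ∈ N, x * g * x ∈ N := by
    rintro _ ⟨v, hv, w, hw, rfl⟩
    have := N.mul_mem (N2 v hv) (N1 w hw)
    simpa only [mul_assoc, sq' sx, sx, mul_one] using this
  have Nδ0 : ∀ w ∈ FF D c, δ * (x * w * x) * δ ∈ N := by
    intro w hw
    have base : ∀ a ∈ EE D c, δ * (x * a * x) * δ ∈ N := by
      intro a ha
      obtain ⟨a', s⟩ := sp_of_ev hD h1 (sc.symm hD) ha
      have s' := s.symm hD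
      have haW : a' ∈ WW D c :=
        WW.congr hD h1 ha.1 hc ha.2 (WW.of_col hD ha.1 s.hq (s.mul_mem' hD))
      have cya := cy a (FF.of ha)
      have cya' : y * a' = a' * y := by
        have : a' = a * (x * a * x) := by rw [s'.e, sq' (hD.sq ha.1)]
        rw [this]; exact comm_mul cya (comm_mul (comm_mul h.yx cya) h.yx)
      obtain ⟨ε, hε, e1⟩ := Lp.2.2.2 a' haW
      obtain ⟨ε', hε', e2⟩ := Lp'.2.2.2 a' haW
      have e3 : a' * u * a' = u * (ε * ε') := by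
        calc a' * u * a' = (a' * p * a') * (a' * (p * u) * a') := by
              simp only [mul_assoc, sq' (hD.sq s.hq), sq' (hD.sq hp)]
          _ = _ := by
              rw [e1, e2, mul_assoc, ← mul_assoc ε, Lp'.2.2.1 ε hε]
              simp only [mul_assoc, sq' (hD.sq hp)]
      have hεε := Subgroup.mul_mem _ hε hε'
      have e4 : δ * a' * δ = a' * (ε * ε') := by
        have e5 : δ * a' * δ = u * a' * u := by
          calc δ * a' * δ = u * (y * a') * (y * u) := by rw [hδ, h.yu]; simp only [mul_assoc]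
            _ = _ := by rw [cya']; simp only [mul_assoc, sq' h.yy]
        rw [e5]
        calc u * a' * u = u * (a' * u * a') * a' := by simp only [mul_assoc, hD.sq s.hq, mul_one]
          _ = _ := by
            rw [e3, sq' su]
            exact (FF.comm hD h1 hc hεε s.hq haW.2.1).symm
      have e6 : δ * (x * a * x) * δ = (x * a * x) * (ε * ε') := by
        rw [s'.e, ← mul_assoc, cδ a (FF.of ha), mul_assoc a, mul_assoc a, e4, mul_assoc]
      rw [e6]
      exact N.mul_mem (N2 a (FF.of ha)) (N1 _ hεε)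
    induction hw using Subgroup.closure_induction'' with
    | mem a ha => exact base a ha
    | inv_mem a ha => rw [hD.inv ha.1]; exact base a ha
    | one => simp [sx, sδ]
    | mul a b _ _ iha ihb =>
      have := N.mul_mem iha ihb
      simpa only [mul_assoc, sq' sx, sq' sδ] using this
  have Nδ : ∀ g ∈ N, δ * g * δ ∈ N := by
    rintro _ ⟨v, hv, w, hw, rfl⟩
    have := N.mul_mem (N1 v hv) (Nδ0 w hw)
    rwa [← mul_assoc, ← mul_assoc, ← cδ v hv, mul_assoc δ v] at this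
  -- the element `ψ`
  have hc'x := sc.mul_mem' hD
  have hc'W : c' ∈ WW D c := WW.of_col hD hc sc.hq (sc.mul_mem hD)
  obtain ⟨φ, sφ⟩ := exists_sp hD sc.hq hp (WW.not_opp Lp.1 sc.hq hc'W.2.1)
    (hD.not_comm_of_opp hx sc.hq sc.uq hc'x hp op.symm).symm
  have hφ := C.sp hc Lp.2.2 hc'W sφ
  obtain ⟨m, sm⟩ := exists_sp_of_col hD h1 sφ.hq hp (sφ.pq ▸ sφ.mul_mem hD) (sφ.not_ev hD h1).symm
  obtain ⟨γ, sγ⟩ := exists_sp hD sc.hq hδD (fun o => WW.not_opp hc'W hδD hcd o.symm)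
    (hD.not_comm_of_opp hx sc.hq sc.uq hc'x hδD oδ.symm).symm
  have cyc' : y * c' = c' * y := by
    have : c' = c * (x * c * x) := by rw [sc.e, sq' (hD.sq hc)]
    have cyc := cy c (FF.of (EE.self hc))
    rw [this]; exact comm_mul cyc (comm_mul (comm_mul h.yx cyc) h.yx)
  have cyγ : y * γ = γ * y := by
    have : γ = δ * (c' * δ * c') := by rw [sγ.e, sq' sδ]
    rw [this]; exact comm_mul cyδ (comm_mul (comm_mul cyc' cyδ) cyc')
  have e1 : c' * u * c' = u * γ := by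
    rw [eu, mul_assoc δ, cyγ, ← mul_assoc δ, ← sγ.e]; simp only [mul_assoc, cyc']
  have hψ : u * (m * γ * m) ∈ FF D c := by
    have a1 := FF.conj' hD sm.hu (FF.conj' hD sc.hq (t.mem hD))
    rw [sφ.e, sφ.pq, sm.e2 hD, FF_congr hφ.2, e1] at a1
    rwa [show m * (u * γ) * m = u * (m * γ * m) by
      simp only [mul_assoc, cm' (t.comm hD h1 sm.hu sm.uq)]] at a1
  obtain ⟨ψ, hψd⟩ : ∃ ψ, ψ = u * (m * γ * m) := ⟨_, rfl⟩
  rw [← hψd] at hψ
  have hee : u * ψ ∈ D := by rw [hψd, sq' su]; exact hD.conj γ sγ.hq m sm.hu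
  obtain ⟨σ, hσ⟩ : ∃ σ, σ = δ * x := ⟨_, rfl⟩
  have σi : σ⁻¹ = x * δ := by rw [hσ, mul_inv_rev, hD.inv hx, hD.inv hδD]
  have oσ : Odd (orderOf σ) := hσ ▸ oδ.symm.2
  have pw : ∀ k : ℕ, ∃ w ∈ N, (ψ * σ) ^ k = w * σ ^ k := by
    intro k
    induction k with
    | zero => exact ⟨1, N.one_mem, by simp⟩
    | succ k ih =>
      obtain ⟨w, hw, e⟩ := ih
      refine ⟨ψ * (δ * (x * w * x) * δ), N.mul_mem (N1 ψ hψ) (Nδ _ (Nx w hw)), ?_⟩
      rw [pow_succ', e, pow_succ', hσ]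
      simp only [mul_assoc, sq' sx, sq' sδ]
  have cyψσ : Commute y (ψ * σ) := comm_mul (cy ψ hψ) (hσ ▸ comm_mul cyδ h.yx)
  have e2 : u * ψ * x = y * (ψ * σ) := by
    rw [eu, hσ, ← cyδ, mul_assoc y, cδ ψ hψ]; simp only [mul_assoc]
  have hyN : y ∈ N := by
    by_cases o : Opp (u * ψ) x
    · obtain ⟨w, hw, e⟩ := pw (orderOf (u * ψ * x) * orderOf σ)
      have e3 : (u * ψ * x) ^ (orderOf (u * ψ * x) * orderOf σ) = 1 := by
        rw [pow_mul, pow_orderOf_eq_one, one_pow]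
      rw [e2, cyψσ.mul_pow, ← e2, e, odd_pow_invol h.yy (o.2.mul oσ), mul_comm, pow_mul,
        pow_orderOf_eq_one, one_pow, mul_one] at e3
      rw [eq_inv_of_mul_eq_one_left e3]
      exact N.inv_mem hw
    · exfalso
      obtain ⟨w, hw, e⟩ := pw 4
      have e3 := hD.four_of_not_opp hee hx o
      rw [e2, cyψσ.mul_pow, e, show y ^ 4 = 1 by
        rw [show (4 : ℕ) = 2 * 2 from rfl, pow_mul, pow_two y, h.yy, one_pow], one_mul] at e3
      have e4 : σ ^ 2 ^ 3 = 1 := by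
        rw [show 2 ^ 3 = 4 + 4 from rfl, pow_add, eq_inv_of_mul_eq_one_right e3, ← mul_inv_rev,
          Nsq w hw, inv_one]
      have e5 := eq_one_of_odd_pow oσ e4
      rw [hσ] at e5
      exact oδ.1 (by rw [eq_inv_of_mul_eq_one_right e5, hD.inv hδD])
  obtain ⟨v, hv, w, hw, e⟩ := hyN
  have c1 : δ * (x * w * x) = (x * w * x) * δ := by
    have : x * w * x = v⁻¹ * y := by rw [e, inv_mul_cancel_left]
    rw [this]; exact comm_mul (cδ _ (Subgroup.inv_mem _ hv)) cyδ.symm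
  have e7 : w = x * w * x := by
    refine eq_of_swap oσ ?_ ?_
    · rw [σi, hσ]
      calc δ * x * w * (x * δ) = δ * (x * w * x) * δ := by simp only [mul_assoc]
        _ = _ := by rw [c1, mul_assoc, sδ, mul_one]
    · rw [σi, hσ]
      calc δ * x * (x * w * x) * (x * δ) = δ * w * δ := by simp only [mul_assoc, sq' sx]
        _ = _ := by rw [cδ w hw, mul_assoc, sδ, mul_one]
  rw [e, ← e7]
  exact Subgroup.mul_mem _ hv hw

theorem kill {u x y p b : G} (h : Cfg D u x y) (t : TT D u p) (hb : LF D p b) :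
    b * (u * y) = (u * y) * b := by
  have hD := C.ri
  have h1 := C.one
  have cpd := h.comm hD h1 t
  by_contra hc
  obtain ⟨c, s⟩ := exists_sp hD hb.1.1 h.hd (fun o => WW.not_opp hb.1 h.hd cpd o.symm) hc
  have s' := s.symm hD
  have hn := h.n1 hD h1 t hb.1 s
  have hL : LF D p c := by
    refine ⟨WW.sp hD hb.1 cpd s', fun e => hn (opp_of_ev e.symm h.hx (h.opp hD h1 t)), ?_⟩
    have h2 := hb.conj' hD h.hd
    rw [conj_eq_of_comm' hD h.hd cpd, s'.e] at h2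
    have := hb.2.2.mul hD h2.2.2
    rwa [sq' (hD.sq hb.1.1)] at this
  have h3 := FF.comm hD h1 s.hq (C.n2 h t hL s.pq hn) hb.1.1 s.uq
  exact hc (comm_mul (t.comm hD h1 hb.1.1 hb.1.2.1) h3)

theorem exists_cfg {u p : G} (t : TT D u p) (hu : u ∉ D) (hu1 : u ≠ 1) : ∃ x y, Cfg D u x y := by
  have hD := C.ri
  have h1 := C.one
  have su := t.sq hD h1
  have hT : ∀ g : G, g ∈ Subgroup.closure D := fun g => C.top ▸ Subgroup.mem_top g
  have hcu : ∀ x ∈ D, u * x * u ∈ D := fun x hx => by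
    have := hD.conj_mem (hT u) hx
    rwa [inv_of_sq su] at this
  have : ∃ x ∈ D, Opp x (u * x * u) := by
    by_contra hn
    push Not at hn
    refine hu1 (C.o2 u su fun g => ?_)
    have t1 := t.conj hD (hT g)
    obtain ⟨a, ha⟩ : ∃ a, a = g * p * g⁻¹ := ⟨_, rfl⟩
    obtain ⟨v, hv⟩ : ∃ v, v = g * u * g⁻¹ := ⟨_, rfl⟩
    rw [← ha, ← hv] at t1
    rw [← hv]
    have t2 := t1.conj hD (hT u)
    rw [inv_of_sq su] at t2
    have e : (u * v) ^ 2 = (u * v * u) * v := by simp only [pow_two, mul_assoc]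
    by_cases hc : a * (u * a * u) = (u * a * u) * a
    · refine ⟨2, ?_⟩
      rw [show 2 ^ 2 = 2 * 2 from rfl, pow_mul, e]
      exact four_of_comm (t2.sq hD h1) (t1.sq hD h1)
        (FF.comm2 hD h1 t2.1 t1.1 hc.symm (t2.mem hD) (t1.mem hD))
    · obtain ⟨k, s⟩ := exists_sp hD t1.1 t2.1 (hn a t1.1) hc
      have key : ∀ b w : G, TT D w b → k * b ∈ D → w ∈ Subgroup.closure (WW D k) := by
        intro b w tb hm
        have a1 := WW.of_col hD s.hq tb.1 hm
        have a2 := WW.of_ev hD h1 s.hq a1 tb.2.1 tb.2.2.symm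
        have := (Subgroup.closure (WW D k)).mul_mem (Subgroup.subset_closure a1)
          (Subgroup.subset_closure a2)
        rwa [sq' (hD.sq tb.1)] at this
      obtain ⟨j, hj⟩ := WW.isPGroup hD k ⟨_, Subgroup.mul_mem _
        (key _ _ t2 (s.pq ▸ s.mul_mem hD)) (key _ _ t1 (s.uq ▸ s.mul_mem' hD))⟩
      refine ⟨j + 1, ?_⟩
      have := congrArg Subtype.val hj
      simp only [SubgroupClass.coe_pow, OneMemClass.coe_one] at this
      rw [pow_succ', pow_mul, e, this]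
  obtain ⟨x, hx, ho⟩ := this
  obtain ⟨y, y1, y2, y3, -, k, hk⟩ := dih (hD.sq hx) su ho.2
  have hd : u * y ∈ D := hk ▸ hD.conj_mem (hT _) hx
  refine ⟨x, y, hx, y1, fun e => hu (by simpa [e] using hd), y2, y3, hd, fun e => ?_, ?_⟩
  · apply ho.1
    rw [e, mul_assoc, mul_assoc, y3, sq' su]
  · rw [hk, conj_pow_refl (hD.sq hx) (hD.sq (hcu x hx)), ← mul_assoc, orderOf_mul_comm',
      ← mul_assoc, hD.sq hx, one_mul]
    exact Odd.of_dvd_nat ho.2 (orderOf_pow_dvd _)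

/-- no null triple on a good line -/
theorem alpha {e e' g f : G} (s : Sp D e g f) (s' : Sp D e' g f) (h : AA D e' = AA D e)
    (hL : LF D f g) : e = e' := by
  have hD := C.ri
  have h1 := C.one
  by_contra hne
  have he := s.hu
  have t : TT D (e * e') e := ⟨he, by rw [sq' (hD.sq he)]; exact ⟨s'.hu, h⟩⟩
  have cee := hD.comm_of_AA_eq h1 he s'.hu h.symm
  have cg : g * (e * e') = (e * e') * g := by
    have : (e * e') * g * (e * e') = g := by
      calc (e * e') * g * (e * e') = e * (e' * g * e') * e := by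
            nth_rewrite 2 [cee]; simp only [mul_assoc]
        _ = g := by rw [s'.e, s.e2 hD]
    have h2 := t.sq hD h1
    calc g * (e * e') = ((e * e') * g * (e * e')) * (e * e') := by rw [this]
      _ = _ := by rw [mul_assoc, h2, mul_one]
  obtain ⟨x, y, c⟩ := C.exists_cfg t (fun hm => s.ne hD (comm_of_ev hD h1 hm he
    (hD.AA_mul_eq h1 he s'.hu cee hm h.symm) s.hp cg).symm)
    (fun e1 => hne (by rw [eq_inv_of_mul_eq_one_left e1, hD.inv s'.hu]))
  have h3 := C.kill c (t.null hD h1 (s.symm hD) cg) hL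
  have h4 : y * g = g * y := by
    have := comm_mul cg h3
    rw [sq' (t.sq hD h1)] at this
    exact this.symm
  exact s.ne hD (c.J hD h1 t s.hp h4 h3).symm

end Ctx0

end Cfsg.Agent.H18RI
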