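import Cfsg.Agent.H18.RootE

/-! Root involutions: `E(d) = E_d ∪ {1}` in the non-degenerate case. -/

set_option autoImplicit false

namespace Cfsg.Agent.H18RI

open Cfsg Cfsg.Agent.H36

variable {G : Type*} [Group G] {D : Set G} [Finite G]

namespace Ctx0

variable (C : Ctx0 D)
include C

theorem bij {z p f : G} (s : Sp D z p f) (h : LF D f p) {f' : G} (hf' : f' ∈ EE D f) :
    ∃ m ∈ EE D z, Sp D m p f' := by
  have hD := C.ri
  have hz : z ∈ WW D f := WW.of_col hD s.hq s.hu (s.uq ▸ s.mul_mem' hD)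
  have key : ∀ m ∈ EE D z, Sp D m p ((m * p) ^ 2) := fun m hm => by
    obtain ⟨q, s'⟩ := sp_of_ev hD C.one s hm
    rw [s'.sq hD]; exact s'
  have key2 : ∀ m ∈ EE D z, (m * p) ^ 2 ∈ EE D f := fun m hm =>
    C.sp s.hq h.2.2 (WW.of_ev hD C.one s.hq hz hm.1 hm.2.symm) (key m hm)
  have hinj : Set.InjOn (fun m => (m * p) ^ 2) (EE D z) := fun m hm m' hm' e => by
    have s2 := key m' hm'
    simp only at e
    rw [← e] at s2
    exact C.alpha (key m hm) s2 (hm'.2.trans hm.2.symm)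
      (h.congr hD C.one s.hq (key2 m hm).1 (key2 m hm).2.symm)
  have hs : (fun m => (m * p) ^ 2) '' EE D z = EE D f := by
    apply Set.eq_of_subset_of_ncard_le
    · rintro _ ⟨m, hm, rfl⟩; exact key2 m hm
    · rw [hinj.ncard_image]; exact (ncard_EE hD C.one s.hq s.hu).le
    · exact Set.toFinite _
  rw [← hs] at hf'
  obtain ⟨m, hm, e⟩ := hf'
  exact ⟨m, hm, e ▸ key m hm⟩

theorem good_col {d f : G} (hd : d ∈ D) (h : LF D d f) {e : G} (he : e ∈ EE D d) : e * f ∈ D := by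
  have hD := C.ri
  obtain ⟨e0, he0, hm⟩ := C.exists_col hd h
  have h0 := h.congr hD C.one hd he0.1 he0.2.symm
  obtain ⟨z, s⟩ := exists_sp_of_col hD C.one h.1.1 he0.1 hm h0.2.1
  obtain ⟨m, -, s'⟩ := C.bij s h0 (f' := e) ⟨he.1, he.2.trans he0.2.symm⟩
  exact s'.pq ▸ s'.mul_mem hD

/-- products outside `D` lie in `E(g)` for the good neighbours `g` -/
theorem uc {p g p' : G} (hp : p ∈ D) (h : LF D p g) (hp' : p' ∈ EE D p) (hne : p ≠ p')
    (hm : p * p' ∉ D) : p * p' ∈ FF D g := by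
  have hD := C.ri
  have h1 := C.one
  have hg := h.1.1
  have m1 := C.good_col hp h (EE.self hp)
  have m2 := C.good_col hp h hp'
  have cpg := h.1.2.1
  have cp'g := comm_of_mul_mem hD hp'.1 hg m2
  have cpp' := hD.comm_of_AA_eq h1 hp hp'.1 hp'.2.symm
  have e1 : (p * g) * (p' * g) = p * p' := by
    rw [mul_assoc, ← mul_assoc g, ← cp'g, mul_assoc, hD.sq hg, mul_one]
  obtain ⟨d, sd⟩ := exists_sp_of_col hD h1 hg hp (cpg ▸ m1) h.2.1
  obtain ⟨y, sy⟩ := exists_sp_of_col hD h1 hp hg m1 h.2.1.symm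
  have hE : AA D (p' * g) = AA D (p * g) := by
    by_contra hE
    have L1 := h.conj' hD sd.hu
    rw [sd.eq hD, sd.e, cpg] at L1
    have L1' := C.flip hp L1 hp'
    have L2 := (h.symm hD h1 hp m1).conj' hD sy.hu
    rw [sy.eq hD, sy.e] at L2
    have L2' := C.flip hg L2 (EE.self hg)
    have := C.good_col m1 ⟨WW.mul hD L1'.1 L2'.1 m2, hE, L1'.2.2.mul hD L2'.2.2⟩ (EE.self m1)
    exact hm (e1 ▸ this)
  have h2 := FF.conj' hD sd.hu (Subgroup.mul_mem _ (FF.of (EE.self m1)) (FF.of ⟨m2, hE⟩))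
  rwa [e1, ← cpg, sd.e2 hD, conj_eq_of_comm' hD sd.hu (comm_mul sd.uq
    (comm_of_ev hD h1 hp hp'.1 hp'.2.symm sd.hu sd.uq))] at h2

theorem inner {d f z x b : G} (h : LF D d f) (sz : Sp D z d f) (sx : Sp D x f z) (hb : b ∈ D)
    (h1 : d * b ∈ D) (h2 : b * f ∈ D) (h4 : d * (b * f) ∈ D) (hn : ¬ Opp x b) : UF D f b := by
  have hD := C.ri
  have hd := sz.hp
  have hf := sz.hq
  have hx := sx.hu
  obtain ⟨ho, h3⟩ := s3 hD sx (sz.symm hD)
  have h3 := h3.symm
  have hfX : f ∈ RI.XV D d x := ⟨hf, sz.pq, sz.mul_mem hD, sx.not_opp hD⟩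
  have hbX : b ∈ RI.XV D d x := ⟨hb, comm_of_mul_mem hD hd hb h1, h1, hn⟩
  have hbfX : b * f ∈ RI.XV D d x := ⟨h2, comm_of_mul_mem hD hd h2 h4, h4,
    not_opp_mul hD hb hf (comm_of_mul_mem hD hb hf h2) h2 hx hn (sx.not_opp hD)⟩
  obtain ⟨b', sb⟩ := exists_sp hD hx hb hn (hD.not_comm_of_opp hd hb hbX.2.1 h1 hx ho)
  have s1 := (nat_line hD hd ho h3 hbX sb).symm hD
  have c1 := nat_comm hD hd ho h3 hbX hfX hbfX sb
  have h5 := h.conj' hD sb.hq
  rw [s1.e, conj_eq_of_comm' hD sb.hq c1.symm] at h5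
  have := (C.flip hd h (EE.self hd)).2.2.mul hD (C.flip h1 h5 (EE.self h1)).2.2
  rwa [sq' (hD.sq hd)] at this

/-- a point spanning a singular plane with a good line -/
theorem gp {d f a : G} (hd : d ∈ D) (h : LF D d f) (ha : a ∈ D) (haf : a * f ∈ D)
    (had : a * d ∈ D) (hafd : a * f * d ∈ D)
    (hae : ∀ e ∈ EE D d, ∃ e' ∈ EE D d, e * e' ∈ FF D f ∧ a * e' ∈ D ∧ a * f * e' ∈ D) :
    UF D f a := by
  have hD := C.ri
  have h1 := C.one
  have hf := h.1.1
  have hdf := C.good_col hd h (EE.self hd)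
  have hfd := C.flip hd h (EE.self hd)
  have cdf := comm_of_mul_mem hD hd hf hdf
  obtain ⟨z, s⟩ := exists_sp_of_col hD h1 hd hf hdf h.2.1.symm
  obtain ⟨x, sx, ho, -⟩ := exists_three hD h1 s
  have hx := sx.hu
  have cad := comm_of_mul_mem hD ha hd had
  have caf := comm_of_mul_mem hD ha hf haf
  by_cases hn : Opp x a
  swap
  · refine C.inner h s sx ha (cad ▸ had) haf ?_ hn
    rwa [comm_of_mul_mem hD haf hd hafd] at hafd
  obtain ⟨y, hy, ey⟩ := hD.exists_comm_eq ha hx hn (b := f) ⟨hf, caf, haf, sx.not_opp hD⟩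
  have sy : Sp D a y f := ey ▸ sp_of hD ha hy.1 hy.2.2.2
    (hD.not_comm_of_opp hx hy.1 hy.2.1 hy.2.2.1 ha hn.symm)
  have hyf := sy.mul_mem hD
  have hyW : y ∈ WW D f := WW.of_col hD hf hy.1 (sy.pq ▸ hyf)
  obtain ⟨f1, s1⟩ := exists_sp hD hy.1 hd (fun o => WW.not_opp hyW hd cdf o.symm)
    (hD.not_comm_of_opp hx hy.1 hy.2.1 hy.2.2.1 hd ho.symm).symm
  have hf1 := C.sp hf hfd.2.2 hyW s1
  obtain ⟨m, sm⟩ := exists_sp_of_col hD h1 s1.hq hd (s1.pq ▸ s1.mul_mem hD) (s1.not_ev hD h1).symm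
  obtain ⟨oy, h3⟩ := s3 hD s1 sm
  have hmW : m ∈ WW D d := WW.of_col hD hd sm.hu (sm.uq ▸ sm.mul_mem' hD)
  obtain ⟨e, se⟩ := sp_of_ev hD h1 (sm.symm hD) (m := f) ⟨hf, hf1.2.symm⟩
  have se' := se.symm hD
  have he := C.sp hd h.2.2 hmW se'
  have s2 := nat_line hD hy.1 oy.symm h3 ⟨hf, sy.pq, hyf, se'.not_opp hD⟩ se'
  obtain ⟨e', he', hee, hae1, hae2⟩ := hae e he
  have hef := C.good_col hd h he'
  have cef := comm_of_mul_mem hD he'.1 hf hef
  have cae := comm_of_mul_mem hD ha he'.1 hae1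
  have s3' : Sp D y e' f := by
    refine sp_mk hD hy.1 he'.1 hf ?_
    have c := FF.comm hD h1 hf hee hy.1 sy.pq
    have c2 := FF.comm hD h1 hf hee hf rfl
    calc y * e' * y = (y * e * y) * (y * (e * e') * y) := by
          simp only [mul_assoc, sq' (hD.sq hy.1), sq' (hD.sq he.1)]
      _ = e' * f := by
          rw [s2.e, conj_eq_of_comm' hD hy.1 c, mul_assoc, c2, mul_assoc, sq' (hD.sq he.1)]
  obtain ⟨x', sx', -, -⟩ := exists_three hD h1 s3'
  have c1 : y * (a * e') * y = a * e' := by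
    calc y * (a * e') * y = (y * a * y) * (y * e' * y) := by
          simp only [mul_assoc, sq' (hD.sq hy.1)]
      _ = a * e' := by
          rw [(sy.symm hD).e, s3'.e, cef]; simp only [mul_assoc, sq' (hD.sq hf)]
  have hn' : ¬ Opp x' (a * e') := fun o =>
    not_opp_of_col hD sx'.hu hy.1 sx'.uq (sx'.mul_mem' hD) hae1
      (comm_of_conj_eq hD hy.1 c1).symm o.symm
  have e8 : a * e' * f = a * f * e' := by rw [mul_assoc, cef, mul_assoc]
  have h8 := C.inner (h.congr hD h1 hd he'.1 he'.2.symm) s3' sx' hae1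
    (by rw [cae, sq' (hD.sq he'.1)]; exact ha) (e8 ▸ hae2)
    (by rw [cae, mul_assoc, sq' (hD.sq he'.1)]; exact haf) hn'
  have := h8.mul hD (C.flip hd h he').2.2
  rwa [mul_assoc, hD.sq he'.1, mul_one] at this

/-- case (II) -/
theorem case_two {d b c f : G} (hd : d ∈ D) (hb : b * d = d * b) (s : Sp D b c f) (h : LF D d f)
    (hcd : c * d ∈ D) (hcol : ∀ e ∈ EE D d, ∃ e' ∈ EE D d, e * e' ∈ FF D f ∧ c * e' ∈ D) :
    UF D d c := by
  have hD := C.ri
  have hf := s.hq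
  have hc := s.hp
  have hcf := s.mul_mem hD
  have k : ∀ e ∈ EE D d, c * e ∈ D → c * f * e ∈ D := fun e he hce => by
    have cbe := comm_of_ev hD C.one hd he.1 he.2.symm s.hu hb
    have := hD.conj _ hce b s.hu
    rwa [show b * (c * e) * b = (b * c * b) * e by
      rw [mul_assoc (b * c), cbe]; simp only [mul_assoc], s.e] at this
  have h1 : UF D f c := C.gp hd h hc hcf hcd (k d (EE.self hd) hcd) fun e he => by
    obtain ⟨e', he', h1, h2⟩ := hcol e he
    exact ⟨e', he', h1, h2, k e' he' h2⟩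
  have hdf := C.good_col hd h (EE.self hd)
  have hfd := C.flip hd h (EE.self hd)
  have hcW : c ∈ WW D f := WW.of_col hD hf hc (s.pq ▸ hcf)
  have hcL : LF D f c := ⟨hcW, s.not_ev hD C.one, h1⟩
  have ccd := comm_of_mul_mem hD hc hd hcd
  have cdf := comm_of_mul_mem hD hd hf hdf
  have s' : Sp D b (c * d) f := sp_mk hD s.hu hcd hf (by
    calc b * (c * d) * b = (b * c * b) * d := by rw [mul_assoc (b * c), hb]; simp only [mul_assoc]
      _ = _ := by rw [s.e, mul_assoc, ← cdf, mul_assoc])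
  have hcdL : LF D f (c * d) := ⟨WW.mul hD hcW hfd.1 hcd, s'.not_ev hD C.one, h1.mul hD hfd.2.2⟩
  have k2 : ∀ e ∈ EE D f, c * e ∈ D ∧ c * d * e ∈ D := fun e he => by
    have a1 := C.good_col hf hcL he
    have a2 := C.good_col hf hcdL he
    exact ⟨comm_of_mul_mem hD he.1 hc a1 ▸ a1, comm_of_mul_mem hD he.1 hcd a2 ▸ a2⟩
  exact C.gp hf hfd hc hcd hcf (k2 f (EE.self hf)).2 fun e he =>
    ⟨e, he, by rw [hD.sq he.1]; exact Subgroup.one_mem _, k2 e he⟩

/-- case (I) -/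
theorem case_one {d b0 c f0 : G} (hd : d ∈ D) (hb0 : b0 * d = d * b0) (s0 : Sp D b0 c f0)
    (hc : c ∈ WW D d) (h2 : ∀ m ∈ WW D d, ∀ q, Sp D m c q → UF D d q) :
    c * d ∈ D ∨ ∃ f ∈ EE D d, d ≠ f ∧ d * f ∉ D ∧ c * f ∈ D := by
  have hD := C.ri
  by_contra hcd0
  have hcd : c * d ∉ D := fun h => hcd0 (Or.inl h)
  have s0' := s0.symm hD
  obtain ⟨v, sv⟩ := exists_sp_of_col hD C.one s0.hq s0.hu (s0.uq ▸ s0.mul_mem' hD)
    (s0'.not_ev hD C.one).symm
  obtain ⟨ho, h3⟩ := s3 hD sv s0'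
  have hv := sv.hu
  have hvd : v * d ≠ d * v := fun e => hc.2.2 v hv e ho
  have hvd' : ¬ Opp v d := fun o =>
    not_opp_of_col hD hv s0.hu sv.uq (sv.mul_mem' hD) hd hb0.symm o.symm
  obtain ⟨b, sb⟩ := exists_sp hD hv hd hvd' hvd
  have hbW : b ∈ WW D d := WW.of_col hD hd sb.hq (sb.mul_mem hD)
  have hbX : b ∈ RI.XV D v c := ⟨sb.hq, sb.uq, sb.mul_mem' hD, WW.not_opp hbW hc.1 hc.2.1⟩
  obtain ⟨f, sf⟩ := exists_sp hD hc.1 sb.hq hbX.2.2.2
    (hD.not_comm_of_opp hv sb.hq sb.uq hbX.2.2.1 hc.1 ho.symm)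
  have sf2 := nat_line hD hv ho.symm h3 hbX sf
  have sf' := sf.symm hD
  have hf := sf.hq
  have hfU := h2 b hbW f sf'
  have hfW := WW.sp hD hc hbW.2.1 sf'
  have cfd := hfW.2.1
  have cvw : v * (d * f) * v = d * f := by
    calc v * (d * f) * v = (v * d * v) * (v * f * v) := by simp only [mul_assoc, sq' (hD.sq hv)]
      _ = d * f := by
        rw [sb.e, sf2.e, sf2.pq]; simp only [mul_assoc, sq' (hD.sq sb.hq)]
  have cvw' := comm_of_conj_eq hD hv cvw
  have hfE : AA D f ≠ AA D d := by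
    intro e
    by_cases hdf : d = f
    · exact hcd (hdf ▸ sf'.mul_mem hD)
    · by_cases hm : d * f ∈ D
      · exact hvd (comm_of_ev hD C.one hm hd (hD.AA_mul_eq C.one hd hf cfd.symm hm e.symm) hv cvw')
      · exact hcd0 (Or.inr ⟨f, ⟨hf, e⟩, hdf, hm, sf'.mul_mem hD⟩)
  have hL : LF D d f := ⟨hfW, hfE, hfU⟩
  have hw := C.good_col hd hL (EE.self hd)
  obtain ⟨z, sz⟩ := exists_sp_of_col hD C.one hf hd (cfd ▸ hw) hfE
  have hzW : z ∈ WW D d := WW.of_col hD hd sz.hu (sz.uq ▸ sz.mul_mem' hD)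
  have hz := sz.hu
  have hc' := hD.conj c hc.1 z hz
  set c' := z * c * z with hc'd
  have hcf := sf'.mul_mem hD
  have e1 : c' * (d * f) = z * (c * f) * z := by
    rw [← cfd, ← sz.e, hc'd]; simp only [mul_assoc, sq' (hD.sq hz)]
  have hc'w : c' * (d * f) ∈ D := e1 ▸ hD.conj _ hcf z hz
  have cc'w := comm_of_mul_mem hD hc' hw hc'w
  have n1 : ¬ Opp v c' := not_opp_of_col hD hc' hw cc'w hc'w hv cvw'
  have n2 : z * c ≠ c * z := fun e => n1 (by rw [hc'd, conj_eq_of_comm' hD hz e]; exact ho)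
  obtain ⟨c1, s1⟩ := exists_sp hD hz hc.1 (WW.not_opp hc hz hzW.2.1) n2
  have hc1U := h2 z hzW c1 s1
  have ec' : c' = c * c1 := s1.e
  have ecc' : c * c' = c1 := by rw [ec', sq' (hD.sq hc.1)]
  have ccc' : c * c' = c' * c := comm_of_mul_mem hD hc.1 hc' (ecc' ▸ s1.hq)
  have hc'X : c' ∈ RI.XV D c v := ⟨hc', ccc', ecc' ▸ s1.hq, n1⟩
  obtain ⟨k, sk⟩ := exists_sp hD hv hc' n1
    (hD.not_comm_of_opp hc.1 hc' ccc' hc'X.2.2.1 hv ho)
  have sk2 := nat_line hD hc.1 ho h3.symm hc'X sk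
  have hk := sk.hq
  -- `f` commutes with `c'`
  have ccd := hc.2.1
  have ccf : c * f = f * c := sf.uq
  have cfc' : f * c' = c' * f := by
    have e2 : c * (d * f) = (d * f) * c := by rw [← mul_assoc, ccd, mul_assoc, ccf, mul_assoc]
    have e3 := comm_conj' e2 z
    rw [hD.inv hz, ← cfd, sz.e2 hD] at e3
    exact e3.symm
  -- the images under the element of order three
  have r1 : c * (v * f * v) * c = b := by rw [sf2.e, sf2.pq, sf.e2 hD]
  have r2 : c * (v * c' * v) * c = k := by rw [sk.e, sk.pq, sk2.e2 hD]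
  have cvv : (v * f * v) * (v * c' * v) = (v * c' * v) * (v * f * v) := by
    have := comm_conj' cfc' v
    rwa [hD.inv hv] at this
  have cbk : b * k = k * b := by
    have := comm_conj' cvv c
    rwa [hD.inv hc.1, r1, r2] at this
  rw [sf2.e, sk.e] at cvv
  obtain ⟨e, he, ee⟩ := hc1U.2 b hbW
  have cfc1 : f * c1 = c1 * f := by
    rw [← ecc', ← mul_assoc f c, ← ccf, mul_assoc c f, cfc', ← mul_assoc c c']
  have cbe := FF.comm hD C.one hd he sb.hq hbW.2.1
  have cfe := FF.comm hD C.one hd he hf cfd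
  have cce := FF.comm hD C.one hd he hc.1 ccd
  have cc1e := (hc1U.1 e he).symm
  have sqc1 := hD.sq s1.hq
  -- `k f k = e`
  have e4 : k * f * k = e := by
    have e5 : b * c' * b = c' * f * e := by
      calc b * c' * b = (b * c * b) * (b * c1 * b) := by
            rw [ec']; simp only [mul_assoc, sq' (hD.sq sb.hq)]
        _ = c' * f * e := by rw [sf'.e, ee, ec']; simp only [mul_assoc, cm' cfc1]
    have e6 : f * (b * c' * b) * (b * k) = c' * (k * f * k) * (k * b) := by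
      simp only [mul_assoc, sq' (hD.sq sb.hq), sq' (hD.sq hk)]
      simpa only [mul_assoc] using cvv
    rw [cbk, e5] at e6
    have e7 := mul_right_cancel e6
    have e8 : f * (c' * f * e) = c' * e := by
      rw [← mul_assoc, ← mul_assoc, cfc', mul_assoc c', hD.sq hf, mul_one]
    rw [e8] at e7
    exact (mul_left_cancel e7).symm
  have heD : e ∈ D := e4 ▸ hD.conj f hf k hk
  have he' : e ∈ EE D d := C.mem_EE hd he heD
  have hcU : UF D f c := by
    have h5 := (hc1U.congr hD C.one hd heD he'.2.symm).conj hD (Subgroup.subset_closure hk)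
    rw [hD.inv hk, ← e4, ← ecc', (sk2.symm hD).e2 hD] at h5
    simpa only [mul_assoc, sq' (hD.sq hk), hD.sq hk, mul_one] using h5
  obtain ⟨y, sy⟩ := exists_sp_of_col hD C.one hd hf hw hfE.symm
  have hyW : y ∈ WW D f := WW.of_col hD hf sy.hu (sy.uq ▸ sy.mul_mem' hD)
  have hy := sy.hu
  have hcy : y * c * y ∈ WW D d := by
    by_cases hyc : y * c = c * y
    · rwa [conj_eq_of_comm' hD hy hyc]
    · obtain ⟨g', sg⟩ := exists_sp hD hy hc.1 (fun o => WW.not_opp hyW hc.1 ccf o.symm) hyc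
      have hg' := C.sp hf hcU hyW sg
      rw [sg.e]
      exact WW.mul hD hc (WW.of_ev hD C.one hd hfW hg'.1 hg'.2.symm) (sg.mul_mem hD)
  refine hcy.2.2 (y * v * y) (hD.conj v hv y hy) ?_ ?_
  · have := comm_conj' cvw' y
    rwa [hD.inv hy, sy.e2 hD] at this
  · have := ho.conj y
    rwa [hD.inv hy] at this

theorem uu {d c : G} (hd : d ∈ D) (hc : c ∈ WW D d) : UF D d c := by
  have hD := C.ri
  by_contra hn
  have hP := (WW.isPGroup hD d).isNilpotent
  have key : ∀ c, c ∈ WW D d ∧ ¬ UF D d c → ∃ m ∈ Subgroup.closure (WW D d),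
      c * m * c⁻¹ * m⁻¹ ∈ WW D d ∧ ¬ UF D d (c * m * c⁻¹ * m⁻¹) := by
    intro c ⟨hc, hn⟩
    by_contra h
    push Not at h
    have h2 : ∀ m ∈ WW D d, ∀ q, Sp D m c q → UF D d q := by
      intro m hm q s
      have e : c * m * c⁻¹ * m⁻¹ = q := by
        rw [hD.inv hc.1, hD.inv hm.1, ← (s.symm hD).sq hD]; simp only [pow_two, mul_assoc]
      have := h m (Subgroup.subset_closure hm)
      rw [e] at this
      exact this (WW.sp hD hc hm.2.1 s)
    have h3 : ∃ b ∈ WW D d, ∃ f, Sp D b c f ∧ f ∉ EE D d := by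
      by_contra h4
      push Not at h4
      exact hn (UF.mk' hD C.one hd h4 hc)
    obtain ⟨b, hb, f, s, hf⟩ := h3
    have hL : LF D d f := ⟨WW.sp hD hc hb.2.1 s, fun e => hf ⟨s.hq, e⟩, h2 b hb f s⟩
    have hcol : ∀ e ∈ EE D d, ∃ e' ∈ EE D d, e * e' ∈ FF D f ∧ c * e' ∈ D := by
      intro e he
      rcases C.case_one he.1 (comm_of_ev hD C.one hd he.1 he.2.symm hb.1 hb.2.1) s
        (WW.congr hD C.one hd he.1 he.2.symm hc) (fun m hm q s' =>
          (h2 m (WW.congr hD C.one he.1 hd he.2 hm) q s').congr hD C.one hd he.1 he.2.symm) with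
        h5 | ⟨e', he', a1, a2, a3⟩
      · exact ⟨e, he, by rw [hD.sq he.1]; exact Subgroup.one_mem _, h5⟩
      · exact ⟨e', ⟨he'.1, he'.2.trans he.2⟩,
          C.uc he.1 (hL.congr hD C.one hd he.1 he.2.symm) he' a1 a2, a3⟩
    obtain ⟨d', hd', -, hcd⟩ := hcol d (EE.self hd)
    refine hn ((C.case_two hd'.1 (comm_of_ev hD C.one hd hd'.1 hd'.2.symm hb.1 hb.2.1) s
      (hL.congr hD C.one hd hd'.1 hd'.2.symm) hcd ?_).congr hD C.one hd'.1 hd hd'.2)
    rw [EE_congr hd'.2]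
    exact hcol
  have := descent (H := Subgroup.closure (WW D d)) (P := fun c => c ∈ WW D d ∧ ¬ UF D d c)
    (fun c hc => Subgroup.subset_closure hc.1) key ⟨hc, hn⟩
  exact hD.ne_one this.1.1 rfl

/-- the classes are closed under products -/
theorem ctx (h4 : ∃ a ∈ D, ∃ b ∈ D, orderOf (a * b) = 4) : Ctx D := by
  have hD := C.ri
  have h1 := C.one
  refine ⟨hD, h1, C.gen, fun d hd e he h hne => ?_⟩
  by_contra hm
  obtain ⟨a, g, s⟩ := exists_sp_comm hD h1 h4 hd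
  have hL : LF D d g := by
    have := WW.of_col hD hd s.hp (s.pq ▸ s.mul_mem hD)
    exact ⟨this, s.not_ev hD h1, C.uu hd this⟩
  have hu := C.uc hd hL ⟨he, h.symm⟩ hne hm
  obtain ⟨y, sy⟩ := exists_sp_of_col hD h1 hd s.hp (s.pq ▸ s.mul_mem hD) (s.not_ev hD h1).symm
  have c := FF.comm hD h1 s.hp hu sy.hu sy.uq
  have c2 := FF.comm hD h1 s.hp hu s.hp rfl
  have s2 : Sp D y e g := by
    refine sp_mk hD sy.hu he s.hp ?_
    calc y * e * y = (y * d * y) * (y * (d * e) * y) := by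
          simp only [mul_assoc, sq' (hD.sq sy.hu), sq' (hD.sq hd)]
      _ = e * g := by
          rw [sy.e, conj_eq_of_comm' hD sy.hu c, mul_assoc, c2, mul_assoc, sq' (hD.sq hd)]
  have hyW := WW.of_col hD s.hp sy.hu (sy.uq ▸ sy.mul_mem' hD)
  exact hne (C.alpha (sy.symm hD) (s2.symm hD) h.symm
    ⟨hyW, (sy.symm hD).not_ev hD h1, C.uu s.hp hyW⟩)

end Ctx0

theorem ctx0_of (hD : IsNondegenerateRootInvolutionSet D) (hcl : IsRootInvolutionClass D)
    (hO : pCore 2 G = ⊥) (hZ : Subgroup.center G = ⊥) : Ctx0 D := by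
  refine ⟨RI.of hD.1, oneClass_of_class hcl, ctx_of hD hcl hZ, hD.1.generates, fun u hu h => ?_⟩
  rw [← Subgroup.mem_bot, ← hO]
  refine H9.mem_pCore_of_pairs fun g => ?_
  obtain ⟨k, hk⟩ := h g
  refine H9.isPGroup_closure_involutions hu ?_ hk
  calc _ = g * (u * u) * g⁻¹ := by group
    _ = 1 := by rw [hu]; group

end Cfsg.Agent.H18RI
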