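import Cfsg.Agent.H18.RootF

/-! Root involutions: a far pair forces the rank two case. -/

set_option autoImplicit false

namespace Cfsg.Agent.H18RI

open Cfsg Cfsg.Agent.H36

variable {G : Type*} [Group G] {D : Set G}

/-- `x` is opposite to `c` and to all members collinear with `c` -/
def Far (D : Set G) (c x : G) : Prop := c ∈ D ∧ x ∈ D ∧ Opp x c ∧ ∀ b ∈ D, c * b ∈ D → Opp x b

/-- `g` lies on the line through `d` and `f` -/
def On (D : Set G) (d f g : G) : Prop := ∃ a ∈ Eg D d, ∃ b ∈ Eg D f, g = a * b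

/-- the rank two case -/
structure R2 (D : Set G) : Prop extends Ctx D where
  col : ∀ a ∈ D, ∀ b ∈ D, a * b = b * a → a ≠ b → a * b ∈ D
  pp : ∀ a ∈ D, ∀ b ∈ D, a * b = b * a → AA D b ≠ AA D a → ∀ c ∈ D, c * a = a * c →
    c * b = b * c → On D a b c

theorem Sp.comm2 (hD : RI D) {t a b q : G} (s : Sp D t a q) (s' : Sp D t b q) :
    t * (a * b) = (a * b) * t := by
  refine comm_of_conj_eq hD s.hu ?_
  calc t * (a * b) * t = (t * a * t) * (t * b * t) := by simp only [mul_assoc, sq' (hD.sq s.hu)]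
    _ = _ := by rw [s.e, s'.e, s'.pq]; simp only [mul_assoc, sq' (hD.sq s.hq)]

theorem Sp.comm_q (hD : RI D) {t a q c : G} (s : Sp D t a q) (h1 : c * t = t * c)
    (h2 : c * a = a * c) : c * q = q * c := by
  have : q = a * (t * a * t) := by rw [s.e, sq' (hD.sq s.hp)]
  rw [this]; exact comm_mul h2 (comm_mul (comm_mul h1 h2) h1)

theorem Sp.W1 (hD : RI D) {t a q : G} (s : Sp D t a q) : t ∈ WW D q :=
  WW.of_col hD s.hq s.hu (s.uq ▸ s.mul_mem' hD)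

theorem Sp.W2 (hD : RI D) {t a q : G} (s : Sp D t a q) : a ∈ WW D q := (s.symm hD).W1 hD

theorem Sp.W3 (hD : RI D) {t a q : G} (s : Sp D t a q) : q ∈ WW D t :=
  WW.of_col hD s.hu s.hq (s.mul_mem' hD)

theorem Sp.W4 (hD : RI D) {t a q : G} (s : Sp D t a q) : q ∈ WW D a := (s.symm hD).W3 hD

theorem cancel_comm {a b c : G} (h1 : c * (a * b) = (a * b) * c) (h2 : c * a = a * c) :
    c * b = b * c := by
  have := comm_mul (Commute.inv_right h2).eq h1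
  rwa [inv_mul_cancel_left] at this

variable [Finite G]

theorem Eg.sq (hD : RI D) {d a : G} (ha : a ∈ Eg D d) : a * a = 1 := by
  rcases ha with rfl | ha
  · simp
  · exact hD.sq ha.1

namespace Ctx

variable (C : Ctx D)
include C

theorem bij1 {z p f f' : G} (s : Sp D z p f) (hf' : f' ∈ EE D f) : ∃ m ∈ EE D z, Sp D m p f' :=
  C.bij s (fun _ hm _ s' => C.sp_mem_EE s.hq
    (WW.of_ev C.ri C.one s.hq (s.W1 C.ri) hm.1 hm.2.symm) (s.W2 C.ri) s') hf'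

theorem bij2 {z p f f' : G} (s : Sp D z p f) (hf' : f' ∈ EE D f) : ∃ m ∈ EE D p, Sp D z m f' := by
  obtain ⟨m, hm, s'⟩ := C.bij1 (s.symm C.ri) hf'
  exact ⟨m, hm, s'.symm C.ri⟩

theorem cev {d e c : G} (hd : d ∈ D) (he : e ∈ EE D d) (hc : c ∈ D) (h : c * d = d * c) :
    c * e = e * c := comm_of_ev C.ri C.one hd he.1 he.2.symm hc h

theorem cev' {d e c : G} (hd : d ∈ D) (he : e ∈ EE D d) (hc : c ∈ D) (h : c * e = e * c) :
    c * d = d * c := comm_of_ev C.ri C.one he.1 hd he.2 hc h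

theorem Wev {d a b : G} (hd : d ∈ D) (ha : a ∈ WW D d) (hb : b ∈ EE D a) : b ∈ WW D d :=
  WW.of_ev C.ri C.one hd ha hb.1 hb.2.symm

theorem Wc {d e a : G} (hd : d ∈ D) (he : e ∈ EE D d) (ha : a ∈ WW D d) : a ∈ WW D e :=
  WW.congr C.ri C.one hd he.1 he.2.symm ha

theorem Wc' {d e a : G} (hd : d ∈ D) (he : e ∈ EE D d) (ha : a ∈ WW D e) : a ∈ WW D d :=
  WW.congr C.ri C.one he.1 hd he.2 ha

theorem mul_W {d a e : G} (hd : d ∈ D) (ha : a ∈ WW D d) (he : e ∈ EE D d) :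
    a * e ∈ D ∨ a = e := by
  by_cases h : e = a
  · exact Or.inr h.symm
  · have h2 := C.Wc hd he ha
    exact Or.inl (h2.2.1 ▸ C.col_of_WW he.1 h2 h)

theorem spW {d a b : G} (hd : d ∈ D) (ha : a ∈ WW D d) (hb : b ∈ WW D d) (h : a * b ≠ b * a) :
    ∃ q ∈ EE D d, Sp D a b q := by
  obtain ⟨q, s⟩ := exists_sp C.ri ha.1 hb.1 (WW.not_opp hb ha.1 ha.2.1) h
  exact ⟨q, C.sp_mem_EE hd ha hb s, s⟩

theorem exists_nc {d a : G} (hd : d ∈ D) (ha : a ∈ D) (h : a * d = d * a) (hE : AA D a ≠ AA D d) :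
    ∃ b ∈ WW D d, d * b ∈ D ∧ a * b ≠ b * a := by
  by_contra hn
  push Not at hn
  exact hE (ev_of_cent C.ri C.one C.gen hd ha h fun b hb hm =>
    hn b (WW.of_col C.ri hd hb hm) hm).symm

theorem line_change {d f a b b2 : G} (hd : d ∈ D) (hf : f ∈ WW D d) (hE : AA D f ≠ AA D d)
    (ha : a ∈ Eg D d) (hb : b ∈ EE D f) (hb2 : b2 ∈ EE D f) :
    ∃ a3 ∈ Eg D d, b2 * a3 ∈ EE D (a * b) := by
  have hD := C.ri
  rcases ha with rfl | ha
  · exact ⟨1, Or.inl rfl, by rw [mul_one, one_mul]; exact ⟨hb2.1, hb2.2.trans hb.2.symm⟩⟩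
  have hbW := C.Wev hd hf hb
  have hne : AA D b ≠ AA D a := fun e => hE (hb.2.symm.trans (e.trans ha.2))
  obtain ⟨m, s⟩ := exists_sp_of_col hD C.one hb.1 ha.1
    ((C.mul_W hd hbW ha).resolve_right fun e => hne (e ▸ rfl)) hne
  obtain ⟨a3, s'⟩ := sp_of_ev hD C.one (s.symm hD) (m := b2) ⟨hb2.1, hb2.2.trans hb.2.symm⟩
  have s'' := s'.symm hD
  refine ⟨a3, Or.inr (C.sp_mem_EE hd (C.Wc' hd ha (s.W1 hD)) (C.Wev hd hf hb2) s''),
    s''.mul_mem hD, ?_⟩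
  have := ev_conj' hD s.hu (hb2.2.trans hb.2.symm)
  rwa [s''.e, s.e, s.pq] at this

/-- (F1) -/
theorem far_opp {c x a : G} (h : Far D c x) (ha : a ∈ D) (hac : a * c = c * a) : Opp x a := by
  have hD := C.ri
  obtain ⟨hc, hx, ho, hF⟩ := h
  by_contra hn
  by_cases hxa : x * a = a * x
  · obtain ⟨b, hb, -, hab⟩ := C.exists_nc hc ha hac fun e => hn (opp_of_ev e.symm hx ho)
    obtain ⟨k, s⟩ := exists_sp hD ha hb.1 (WW.not_opp hb ha hac) hab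
    have hk := WW.sp hD hb hac s
    refine not_opp_of_col hD s.hq ha s.uq.symm (s.uq ▸ s.mul_mem' hD) hx hxa ?_
    by_cases e : c = k
    · exact e ▸ ho
    · exact hF k s.hq (C.col_of_WW hc hk e)
  · obtain ⟨a', s⟩ := exists_sp hD hx ha hn hxa
    obtain ⟨k, s'⟩ := exists_sp hD hc s.hq (WW.not_opp (s.W4 hD) hc hac.symm)
      (hD.not_comm_of_opp hx s.hq s.uq (s.mul_mem' hD) hc ho.symm)
    exact WW.not_opp (s'.W4 hD) hx s.uq (hF k s'.hq (s'.mul_mem' hD))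

/-- (F4) -/
theorem f4 {p x f g : G} (hp : p ∈ D) (hx : x ∈ D) (ho : Opp x p) (hf : f ∈ RI.XV D p x)
    (hg : g ∈ WW D p) (hE : AA D g ≠ AA D p) (hgf : g * f = f * g) :
    ∃ a ∈ Eg D p, a * g ∈ D ∧ ¬ Opp x (a * g) := by
  have hD := C.ri
  obtain ⟨f', s⟩ := exists_sp hD hx hf.1 hf.2.2.2 (hD.not_comm_of_opp hp hf.1 hf.2.1 hf.2.2.1 hx ho)
  have n1 : ∀ l ∈ D, l * f' = f' * l → ¬ Opp x l := fun l hl h o =>
    WW.not_opp (s.W1 hD) hl h o.symm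
  by_cases h1 : g * f' = f' * g
  · exact ⟨1, Or.inl rfl, by simpa using hg.1, by simpa using n1 g hg.1 h1⟩
  obtain ⟨k, sk⟩ := exists_sp hD hg.1 s.hq (WW.not_opp (s.W4 hD) hg.1 hgf) h1
  by_cases h2 : x * k = k * x
  · exact ⟨1, Or.inl rfl, by simpa using hg.1, by simpa using WW.not_opp (sk.W1 hD) hx h2⟩
  obtain ⟨ε, hε, sε⟩ := C.spW s.hq (s.W1 hD) (sk.W4 hD) h2
  obtain ⟨f1, hf1, s1⟩ := C.bij2 s hε
  obtain ⟨f0, hf0, s0⟩ := C.spW hf.1 (WW.of_col hD hf.1 hp (hf.2.1 ▸ hf.2.2.1)) (s.W4 hD)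
    (hD.not_comm_of_opp hx s.hq s.uq (s.mul_mem' hD) hp ho.symm)
  obtain ⟨p1, hp1, s2⟩ := C.bij1 s0 (f' := f1) ⟨hf1.1, hf1.2.trans hf0.2.symm⟩
  have cg := C.cev hp hp1 hg.1 hg.2.1
  have hl : p1 * g ∈ D := cg ▸ (C.mul_W hp hg hp1).resolve_right fun e => hE (e ▸ hp1.2)
  refine ⟨p1, Or.inr hp1, hl, ?_⟩
  by_cases h3 : (p1 * g) * f' = f' * (p1 * g)
  · exact n1 _ hl h3
  obtain ⟨k2, s3⟩ := exists_sp hD hl s.hq (WW.not_opp (s.W4 hD) hl
    (comm_mul (C.cev hp hp1 hf.1 hf.2.1.symm) hgf.symm).symm) h3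
  have e : k2 = k * f1 := by
    have : (p1 * g) * f' * (p1 * g) = f' * (k * f1) := by
      calc (p1 * g) * f' * (p1 * g) = g * (p1 * f' * p1) * g := by
            nth_rewrite 1 [← cg]; simp only [mul_assoc]
        _ = (g * f' * g) * f1 := by
            rw [s2.e, mul_assoc, mul_assoc, ← C.cev hf.1 hf1 hg.1 hgf]; simp only [mul_assoc]
        _ = _ := by rw [sk.e, mul_assoc]
    exact mul_left_cancel (s3.e.symm.trans this)
  exact WW.not_opp (s3.W1 hD) hx (e ▸ sε.comm2 hD s1)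

section Bd

variable {c d x : G} (hF : Far D c x) (hd : d ∈ D) (hcd : c ∈ WW D d)
include hF hd hcd

omit hd in
theorem b1 {k : G} (hk : k ∈ D) (h1 : k * d = d * k) (h2 : x * k = k * x) : False := by
  have hD := C.ri
  by_cases h : k * c = c * k
  · exact (C.far_opp hF hk h).not_comm (hD.sq hF.2.1) (hD.sq hk) h2
  · obtain ⟨q, s⟩ := exists_sp hD hk hF.1 (WW.not_opp hcd hk h1) h
    exact WW.not_opp (s.W3 hD) hF.2.1 h2 (C.far_opp hF s.hq s.pq.symm)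

theorem b2 {f g : G} (hf : f ∈ RI.XV D d x) (hg : g ∈ RI.XV D d x) (hgf : g * f = f * g) :
    g ∈ EE D f := by
  have hD := C.ri
  have hx := hF.2.1
  have ho : Opp x d := C.far_opp hF hd hcd.2.1.symm
  have hfW := WW.of_col hD hd hf.1 hf.2.2.1
  have hgW := WW.of_col hD hd hg.1 hg.2.2.1
  have hdW : d ∈ WW D f := WW.of_col hD hf.1 hd (hf.2.1 ▸ hf.2.2.1)
  obtain ⟨f', s⟩ := exists_sp hD hx hf.1 hf.2.2.2 (hD.not_comm_of_opp hd hf.1 hf.2.1 hf.2.2.1 hx ho)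
  have nd : ∀ e ∈ EE D d, e * f' ≠ f' * e := fun e he =>
    hD.not_comm_of_opp hx s.hq s.uq (s.mul_mem' hD) he.1 (opp_of_ev he.2.symm hx ho).symm
  have c1 : g * f' = f' * g := by
    by_contra h1
    obtain ⟨k, sk⟩ := exists_sp hD hg.1 s.hq (WW.not_opp (s.W4 hD) hg.1 hgf) h1
    obtain ⟨f1, hf1, s1⟩ := C.spW hf.1 hdW (s.W4 hD) (nd d (EE.self hd))
    have ckf := sk.comm_q hD hgf.symm s.pq
    have ckd : d * k = k * d := by
      refine comm_of_conj_eq hD hd ?_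
      have e : k = f' * (g * f' * g) := by rw [sk.e, sq' (hD.sq s.hq)]
      have c2 := C.cev hf.1 hf1 hg.1 hgf
      have c3 := C.cev hf.1 hf1 sk.hq ckf.symm
      calc d * k * d = (d * f' * d) * (g * (d * f' * d) * g) := by
            rw [e]; simp only [mul_assoc, sq' (hD.sq hd), cm' hg.2.1, hg.2.1]
        _ = f' * f1 * ((g * f' * g) * f1) := by
            rw [s1.e]; simp only [mul_assoc, c2]
        _ = k := by
            rw [sk.e, s1.pq, mul_assoc f' k, c3]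
            simp only [mul_assoc, sq' (hD.sq s.hq), sq' (hD.sq hf1.1)]
    by_cases h2 : x * k = k * x
    · exact C.b1 hF hcd sk.hq ckd.symm h2
    obtain ⟨η, hη, sη⟩ := C.spW s.hq (s.W1 hD) (sk.W4 hD) h2
    obtain ⟨f2, hf2, s2⟩ := C.bij2 s hη
    rcases C.mul_W hf.1 (WW.sp hD (s.W4 hD) hgf sk) hf2 with h3 | h3
    · exact C.b1 hF hcd h3 (comm_mul ckd (C.cev hf.1 hf2 hd hf.2.1)).symm (sη.comm2 hD s2)
    · obtain ⟨d1, hd1, s3⟩ := C.bij1 s1 (f' := k) ⟨sk.hq, h3 ▸ hf2.2.trans hf1.2.symm⟩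
      have o1 := opp_of_ev hd1.2.symm hx ho
      have hm := (C.mul_W hd hgW hd1).resolve_right fun e => hg.2.2.2 (e ▸ o1)
      have n2 : ¬ Opp x (g * d1) := fun o => WW.not_opp (s.W1 hD) hm
        ((sk.symm hD).comm2 hD (s3.symm hD)).symm o.symm
      have hm2 : g * (g * d1) ∈ D := by rw [sq' (hD.sq hg.1)]; exact hd1.1
      have := not_opp_mul hD hg.1 hm (comm_of_mul_mem hD hg.1 hm hm2) hm2 hx hg.2.2.2 n2
      rw [sq' (hD.sq hg.1)] at this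
      exact this o1
  have nc : ∀ a ∈ D, ¬ Opp x a → ∀ c' ∈ EE D c, c' * a ≠ a * c' := fun a ha hn c' hc' e =>
    hn (C.far_opp hF ha (C.cev' hF.1 hc' ha e.symm))
  obtain ⟨d0, hd0, s0⟩ := C.spW hd hcd hfW (nc f hf.1 hf.2.2.2 c (EE.self hF.1))
  obtain ⟨f1, hf1, s1⟩ := C.spW hf.1 (s.W4 hD) (C.Wev hf.1 hdW hd0) (nd d0 hd0).symm
  have nf1 : ¬ Opp x f1 := fun o => hf.2.2.2 (opp_of_ev hf1.2 hx o)
  obtain ⟨d1, hd1, s2⟩ := C.spW hd hcd (C.Wev hd hfW hf1) (nc f1 hf1.1 nf1 c (EE.self hF.1))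
  obtain ⟨c', hc', s3⟩ := C.bij1 s2 (f' := d0) ⟨hd0.1, hd0.2.trans hd1.2.symm⟩
  obtain ⟨d2, hd2, s4⟩ := C.spW hd (C.Wev hd hcd hc') hgW (nc g hg.1 hg.2.2.2 c' hc')
  obtain ⟨g', hg', s5⟩ := C.bij2 s4 (f' := d0) ⟨hd0.1, hd0.2.trans hd2.2.symm⟩
  have ng : ¬ Opp x g' := fun o => hg.2.2.2 (opp_of_ev hg'.2 hx o)
  have hm : g' * d0 * f1 ∈ D := by
    have := hD.conj _ (s5.mul_mem hD) f' s.hq
    rwa [← mul_assoc, C.cev hg.1 hg' s.hq c1.symm, mul_assoc g', mul_assoc g', s1.e,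
      ← mul_assoc] at this
  have hW := WW.mul hD (WW.mul hD (C.Wev hd hgW hg') (C.Wev hd (WW.self hD hd) hd0)
    (s5.mul_mem hD)) (C.Wev hd hfW hf1) hm
  have e1 : g' * d0 * f1 * d0 = g' * f1 := by
    rw [mul_assoc, ← s1.pq]; simp only [mul_assoc, sq' (hD.sq hd0.1)]
  rcases C.mul_W hd hW hd0 with h | h
  · rw [e1] at h
    exact absurd (C.far_opp hF h (C.cev' hF.1 hc' h (s5.comm2 hD s3).symm))
      (not_opp_mul hD hg'.1 hf1.1 (comm_of_mul_mem hD hg'.1 hf1.1 h) h hx ng nf1)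
  · rw [h, hD.sq hd0.1] at e1
    have : g' = f1 := by rw [eq_inv_of_mul_eq_one_left e1.symm, hD.inv hf1.1]
    exact ⟨hg.1, hg'.2.symm.trans (this ▸ hf1.2)⟩

theorem p0 {f g : G} (hf : f ∈ RI.XV D d x) (hg : g ∈ WW D d) (hgf : g * f = f * g) :
    On D d f g := by
  have hD := C.ri
  have ho : Opp x d := C.far_opp hF hd hcd.2.1.symm
  by_cases hE : AA D g = AA D d
  · exact ⟨g, Or.inr ⟨hg.1, hE⟩, 1, Or.inl rfl, by simp⟩
  obtain ⟨a, ha, hl, hn⟩ := C.f4 hd hF.2.1 ho hf hg hE hgf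
  have cd : d * (a * g) = (a * g) * d := comm_mul (Eg.comm hD C.one hd ha hd rfl) hg.2.1.symm
  have hW : a * g ∈ WW D d := by
    rcases ha with rfl | ha
    · simpa using hg
    · exact WW.mul hD (C.Wev hd (WW.self hD hd) ha) hg hl
  refine ⟨a, ha, a * g, Or.inr (C.b2 hF hd hcd hf ⟨hl, cd, C.col_of_WW hd hW fun e => hn (e ▸ ho),
    hn⟩ (comm_mul (Eg.comm hD C.one hd ha hf.1 hf.2.1.symm) hgf.symm).symm), ?_⟩
  rw [sq' (Eg.sq hD ha)]

end Bd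

theorem p1 {d f : G} (hd : d ∈ D) (hf : f ∈ WW D d) (hfE : AA D f ≠ AA D d)
    (P : ∀ g ∈ WW D d, g * f = f * g → On D d f g) {g g2 : G} (hg : g ∈ WW D d)
    (hE : AA D g ≠ AA D d) (hg2 : g2 ∈ WW D d) (h : g2 * g = g * g2) : On D d g g2 := by
  have hD := C.ri
  have cE : ∀ a ∈ Eg D d, ∀ t ∈ WW D d, t * a = a * t := fun a ha t ht =>
    Eg.comm hD C.one hd ha ht.1 ht.2.1
  have triv : ∀ a ∈ Eg D d, On D d g a := fun a ha => ⟨a, ha, 1, Or.inl rfl, by simp⟩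
  have lc : ∀ f0 ∈ WW D d, AA D f0 ≠ AA D d → ∀ a ∈ Eg D d, ∀ b ∈ EE D f0, g = a * b →
      ∀ a2 ∈ Eg D d, ∀ b2 ∈ EE D f0, On D d g (a2 * b2) := by
    intro f0 hf0 hE0 a ha b hb e a2 ha2 b2 hb2
    obtain ⟨a3, ha3, h3⟩ := C.line_change hd hf0 hE0 ha hb hb2
    refine ⟨a2 * a3, C.Eg_mul ha2 ha3, b2 * a3, Or.inr (e ▸ h3), ?_⟩
    rw [cE a3 ha3 b2 (C.Wev hd hf0 hb2)]; simp only [mul_assoc, sq' (Eg.sq hD ha3)]
  by_cases hgf : g * f = f * g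
  · obtain ⟨a, ha, b, hb, e⟩ := P g hg hgf
    have hb' : b ∈ EE D f := hb.resolve_left fun e1 => hE (by
      rw [e1, mul_one] at e; subst e; exact (ha.resolve_left (hD.ne_one hg.1)).2)
    obtain ⟨a2, ha2, b2, hb2, rfl⟩ := P g2 hg2 (C.cev' hf.1 hb' hg2.1
      (cancel_comm (e ▸ h) (cE a ha g2 hg2)))
    rcases hb2 with rfl | hb2
    · simpa using triv a2 ha2
    · exact lc f hf hfE a ha b hb' e a2 ha2 b2 hb2
  have one : ∀ a ∈ Eg D d, ∀ b ∈ Eg D f, g * (a * b) = (a * b) * g → b = 1 := fun a ha b hb e =>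
    hb.resolve_right fun hb' => hgf (C.cev' hf.1 hb' hg.1 (cancel_comm e (cE a ha g hg)))
  obtain ⟨d1, hd1, s1⟩ := C.spW hd hf hg (Ne.symm hgf)
  by_cases h2 : g2 * f = f * g2
  · obtain ⟨a, ha, b, hb, rfl⟩ := P g2 hg2 h2
    rw [one a ha b hb h.symm, mul_one]; exact triv a ha
  obtain ⟨d2, hd2, s2⟩ := C.spW hd hf hg2 (Ne.symm h2)
  obtain ⟨g3, hg3, s3'⟩ := C.bij2 s2 (f' := d1) ⟨hd1.1, hd1.2.trans hd2.2.symm⟩
  have hg3W := C.Wev hd hg2 hg3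
  have c3 : g * g3 = g3 * g := C.cev hg2.1 hg3 hg.1 h.symm
  have hE2 : AA D g2 ≠ AA D d := fun e => h2 (C.cev hd ⟨hg2.1, e⟩ hf.1 hf.2.1).symm
  have claim : g3 * g ∈ D ∨ g3 = g := by
    by_cases hE3 : AA D g3 = AA D g
    · exact C.mul_W hg.1 (C.Wev hg.1 (WW.self hD hg.1) ⟨hg3.1, hE3⟩) (EE.self hg.1)
    obtain ⟨y, sy⟩ := exists_sp_of_col hD C.one hd1.1 hg.1 (s1.pq ▸ s1.mul_mem hD)
      (s1.not_ev hD C.one).symm
    obtain ⟨o, h3⟩ := s3 hD s1 sy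
    by_cases hy : y * g3 = g3 * y
    · have hm : g3 * d1 * g ∈ D := by
        have := hD.conj _ (s3'.mul_mem hD) y sy.hu
        rwa [← mul_assoc, hy, mul_assoc g3, mul_assoc g3, sy.e, ← mul_assoc] at this
      have hW := WW.mul hD (WW.mul hD hg3W (C.Wev hd (WW.self hD hd) hd1) (s3'.mul_mem hD)) hg hm
      have e1 : g3 * d1 * g * d1 = g3 * g := by
        rw [mul_assoc, s1.pq]; simp only [mul_assoc, sq' (hD.sq hd1.1)]
      rcases C.mul_W hd hW hd1 with h4 | h4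
      · exact Or.inl (e1 ▸ h4)
      · rw [h4, hD.sq hd1.1] at e1
        exact Or.inr (by rw [eq_inv_of_mul_eq_one_left e1.symm, hD.inv hg.1])
    obtain ⟨k, sk⟩ := exists_sp hD sy.hu hg3.1
      (fun o => WW.not_opp (sy.W1 hD) hg3.1 c3.symm o.symm) hy
    have hkg := WW.sp hD (sy.W1 hD) c3.symm (sk.symm hD)
    have dW : ∀ t ∈ WW D d, AA D t ≠ AA D d → d ∈ WW D t := fun t ht hE =>
      WW.of_col hD ht.1 hd (ht.2.1 ▸ C.col_of_WW hd ht fun e => hE (e ▸ rfl))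
    have ckd : d * k = k * d := by
      by_contra hn
      obtain ⟨η, hη, sη⟩ := C.spW hg.1 (dW g hg hE) hkg hn
      exact hE3 ((C.sp_mem_EE hg3.1 (dW g3 hg3W (hg3.2 ▸ hE2)) (sk.W4 hD) sη).2.symm.trans hη.2)
    have hX : k ∈ RI.XV D y f := ⟨sk.hq, sk.uq, sk.mul_mem' hD,
      fun o => WW.not_opp hf sk.hq ckd.symm o.symm⟩
    obtain ⟨k', sk'⟩ := exists_sp hD hf.1 sk.hq hX.2.2.2
      (hD.not_comm_of_opp sy.hu sk.hq sk.uq hX.2.2.1 hf.1 o)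
    have s4 := nat_line hD sy.hu o h3.symm hX sk'
    obtain ⟨a, ha, b, hb, e⟩ := P k' (WW.sp hD hf ckd.symm (sk'.symm hD)) sk'.uq.symm
    rcases hb with rfl | hb
    · rw [mul_one] at e
      have hk' : k' ∈ EE D d := (e ▸ ha : k' ∈ Eg D d).resolve_left (hD.ne_one sk'.hq)
      have hkE := C.sp_mem_EE hg.1 (sy.W1 hD) (C.Wev hg.1 (dW g hg hE) hk') s4
      exact C.mul_W hg.1 (C.Wc' hg.1 hkE (sk.W2 hD)) (EE.self hg.1)
    · exfalso
      have ob := opp_of_ev hb.2.symm sy.hu o.symm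
      rcases ha with rfl | ha
      · rw [one_mul] at e; exact s4.not_opp hD (e ▸ ob)
      · have eb : a * k' = b := by rw [e, sq' (hD.sq ha.1)]
        have hm : a * k' ∈ D := eb ▸ hb.1
        exact not_opp_mul hD ha.1 sk'.hq (comm_of_mul_mem hD ha.1 sk'.hq hm) hm sy.hu
          (fun o => sy.not_opp hD (opp_of_ev (ha.2.trans hd1.2.symm) sy.hu o)) (s4.not_opp hD)
          (eb ▸ ob)
  rcases claim with h4 | h4
  · obtain ⟨a, ha, b, hb, e⟩ := P _ (WW.mul hD hg3W hg h4) (s3'.comm2 hD s1).symm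
    rw [one a ha b hb (e ▸ comm_mul c3 rfl), mul_one] at e
    have := lc g2 hg2 hE2 a ha g3 hg3 (by
      rw [← e, ← c3, mul_assoc, hD.sq hg3.1, mul_one]) 1 (Or.inl rfl) g2 (EE.self hg2.1)
    simpa using this
  · exact ⟨1, Or.inl rfl, g2, Or.inr ⟨hg2.1, h4 ▸ hg3.2.symm⟩, by simp⟩

/-- a boundary triple -/
theorem exists_bd (h4 : ∃ a ∈ D, ∃ b ∈ D, orderOf (a * b) = 4) {c x : G} (h : Far D c x) :
    ∃ c d, Far D c x ∧ d ∈ D ∧ c ∈ WW D d ∧ (RI.XV D d x).Nonempty := by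
  obtain ⟨c', d, ⟨hc', hd, -, hcd, hm⟩, h1, h2⟩ := rtg_exists_step (T := fun y => ¬ Far D y x)
    (C.ri.prod_connected C.one h4 c h.1 x h.2.1) (not_not.mpr h) fun h => h.2.2.1.1 rfl
  have h1 := not_not.mp h1
  refine ⟨c', d, h1, hd, WW.of_col C.ri hd hc' (hcd ▸ hm), ?_⟩
  by_contra hn
  exact h2 ⟨hd, h.2.1, C.far_opp h1 hd hcd.symm, fun b hb hm' => by
    by_contra ho
    exact hn ⟨b, hb, comm_of_mul_mem C.ri hd hb hm', hm', ho⟩⟩

theorem r2 (h4 : ∃ a ∈ D, ∃ b ∈ D, orderOf (a * b) = 4) {c x : G} (h : Far D c x) : R2 D := by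
  have hD := C.ri
  obtain ⟨c, d, hF, hd, hcd, f, hf⟩ := C.exists_bd h4 h
  have ho : Opp x d := C.far_opp hF hd hcd.2.1.symm
  have P : ∀ a ∈ D, ∀ g ∈ WW D a, AA D g ≠ AA D a → ∀ g2 ∈ WW D a, g2 * g = g * g2 →
      On D a g g2 := by
    intro a ha g hg hE g2 hg2 h2
    obtain ⟨t, ht, rfl⟩ := C.one a ha d hd
    obtain ⟨u, hu, v, hv, e⟩ := C.p1 hd (WW.of_col hD hd hf.1 hf.2.2.1)
      (fun e => hf.2.2.2 (opp_of_ev e.symm h.2.1 ho)) (fun g hg h => C.p0 hF hd hcd hf hg h)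
      (WW.conj hD ht hg) (ne_ev_conj hD ht hE) (WW.conj hD ht hg2) (comm_conj' h2 t)
    have a1 := Eg.conj hD (Subgroup.inv_mem _ ht) hu
    have a2 := Eg.conj hD (Subgroup.inv_mem _ ht) hv
    rw [show ∀ z : G, t⁻¹ * (t * z * t⁻¹) * t⁻¹⁻¹ = z from fun z => by group] at a1 a2
    refine ⟨_, a1, _, a2, ?_⟩
    calc g2 = t⁻¹ * (t * g2 * t⁻¹) * t := by group
      _ = _ := by rw [e]; group
  have W : ∀ d ∈ D, ∀ a ∈ D, a * d = d * a → a ∈ WW D d := by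
    intro d hd a ha had
    by_cases hE : AA D a = AA D d
    · exact C.Wev hd (WW.self hD hd) ⟨ha, hE⟩
    obtain ⟨b, hb, -, hab⟩ := C.exists_nc hd ha had hE
    obtain ⟨k, s⟩ := exists_sp hD ha hb.1 (WW.not_opp hb ha had) hab
    have hk := WW.sp hD hb had s
    by_cases hE2 : AA D k = AA D d
    · exact C.Wc' hd ⟨s.hq, hE2⟩ (s.W1 hD)
    have hdk : d ∈ WW D k :=
      WW.of_col hD s.hq hd (hk.2.1 ▸ C.col_of_WW hd hk fun e => hE2 (e ▸ rfl))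
    obtain ⟨u, hu, v, hv, e⟩ := P k s.hq d hdk (Ne.symm hE2) a (s.W1 hD) had
    rcases hu with rfl | hu
    · rw [one_mul] at e
      exact absurd ((e ▸ hv : a ∈ Eg D d).resolve_left (hD.ne_one ha)).2 hE
    rcases hv with rfl | hv
    · rw [e, mul_one]; exact C.Wev hd hk hu
    · exact e ▸ WW.mul hD (C.Wev hd hk hu) (C.Wev hd (WW.self hD hd) hv) (e ▸ ha)
  exact ⟨C, fun a ha b hb h hne => C.col_of_WW ha (W a ha b hb h.symm) hne,
    fun a ha b hb h hE c hc h1 h2 => P a ha b (W a ha b hb h.symm) hE c (W a ha c hc h1) h2⟩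

end Ctx

end Cfsg.Agent.H18RI
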