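import Cfsg.Agent.H18.RootG

/-! Root involutions: the statement of the order bound in the rank two case with `#E(d) = 2`. -/

set_option autoImplicit false

namespace Cfsg.Agent.H18RI

open Cfsg Cfsg.Agent.H36

universe u

/-- rank two, every `E(d)` of order two: `⟨C_D(d)⟩` has order at most `2 ^ 10` -/
def Q2Stmt : Prop := ∀ (G : Type u) [Group G] [Finite G] (D : Set G), R2 D →
  (∃ a ∈ D, ∃ b ∈ D, orderOf (a * b) = 4) → (∀ d ∈ D, ∀ e ∈ EE D d, e = d) →
  ∀ d ∈ D, Nat.card (MM D d) ≤ 2 ^ 10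

end Cfsg.Agent.H18RI
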