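import Cfsg.Agent.H56.SpDefs

set_option autoImplicit false

namespace Cfsg.Agent.H18.SpTr

open Subgroup MulAction Cfsg.Agent.H11.Cy Cfsg.Agent.H56.Sp
open Cfsg.Agent.H45.Iv (Fx Sub Ms)

theorem par {Ω : Type} [Finite Ω] (O : Set Ω) (σ : Ω → Ω) (h1 : ∀ w ∈ O, σ w ∈ O)
    (h2 : ∀ w ∈ O, σ (σ w) = w) : O.ncard % 2 = {w | w ∈ O ∧ σ w = w}.ncard % 2 := by
  classical
  have := Fintype.ofFinite O
  have : Fact (Nat.Prime 2) := ⟨Nat.prime_two⟩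
  let f : Function.End O := fun w => ⟨σ w, h1 w w.2⟩
  have hf : f ^ 2 ^ 1 = 1 := by
    funext w
    exact Subtype.ext (h2 w w.2)
  have h := Equiv.Perm.card_fixedPoints_modEq hf
  have e : Nat.card f.fixedPoints = {w | w ∈ O ∧ σ w = w}.ncard := by
    rw [← Nat.card_coe_set_eq]
    exact Nat.card_congr ⟨fun w => ⟨w.1.1, w.1.2, congrArg Subtype.val w.2⟩,
      fun w => ⟨⟨w.1, w.2.1⟩, Subtype.ext w.2.2⟩, fun _ => rfl, fun _ => rfl⟩
  rw [← Nat.card_eq_fintype_card, ← Nat.card_eq_fintype_card, e, Nat.card_coe_set_eq] at h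
  exact h

variable {G : Type} [Group G] {Ω : Type} [Finite Ω] [MulAction G Ω] {p : ℕ} {A : Ω → Subgroup G}

theorem tr2 (hp : p.Prime) (p2 : p ≠ 2) (lf : LFs p A) {X : Subgroup G} {Φ : Set Ω} (sub : Sub A Φ)
    (inv : ∀ g ∈ X, ∀ w ∈ Φ, g • w ∈ Φ) (hA : ∀ w ∈ Φ, A w ≤ X)
    (hs : ∀ a ∈ Φ, ∀ b ∈ Φ, a ≠ b → ∃ s ∈ X, (∀ w ∈ Φ, s • s • w = w) ∧
      ∀ w ∈ Φ, (s • w = w ↔ w ∈ Ln A a b)) : Tr2 X Φ := by
  have ln : ∀ a ∈ Φ, ∀ b ∈ Φ, a ≠ b → ∀ w ∈ Ln A a b, w ≠ a →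
      ∃ g ∈ X, g • a = a ∧ g • b = w := fun a ha b hb hab w hw hwa => by
    have l := lf a b hab
    obtain ⟨g, hg, e⟩ := l.tr a l.mem.1 b l.mem.2 a l.mem.1 w hw hab hwa.symm
    exact ⟨g, sup_le (hA a ha) (hA b hb) hg, e⟩
  have key : ∀ a ∈ Φ, ∀ y ∈ Φ, ∀ y' ∈ Φ, y ≠ a → y' ≠ a → ∃ g ∈ X, g • a = a ∧ g • y = y' := by
    intro a ha y hy y' hy' ya ya'
    by_contra hn
    let O : Set Ω := {w | ∃ g ∈ X, g • a = a ∧ g • y = w}
    have OΦ : ∀ w ∈ O, w ∈ Φ := by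
      rintro _ ⟨g, hg, -, rfl⟩
      exact inv g hg y hy
    have Oa : ∀ w ∈ O, w ≠ a := by
      rintro _ ⟨g, -, e, rfl⟩ e'
      exact ya (smul_left_cancel g (e'.trans e.symm))
    have Os : ∀ s ∈ X, s • a = a → ∀ w ∈ O, s • w ∈ O := by
      rintro s hs e _ ⟨g, hg, e', rfl⟩
      exact ⟨s * g, mul_mem hs hg, by rw [mul_smul, e', e], mul_smul _ _ _⟩
    obtain ⟨s, s1, s2, s3⟩ := hs a ha y hy ya.symm
    obtain ⟨t, t1, t2, t3⟩ := hs a ha y' hy' ya'.symm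
    have l := lf a y ya.symm
    have l' := lf a y' ya'.symm
    have e1 := par O (s • ·) (Os s s1 ((s3 a ha).2 l.mem.1)) fun w hw => s2 w (OΦ w hw)
    have e2 := par O (t • ·) (Os t t1 ((t3 a ha).2 l'.mem.1)) fun w hw => t2 w (OΦ w hw)
    have f1 : {w | w ∈ O ∧ s • w = w} = Ln A a y \ {a} := by
      ext w
      exact ⟨fun h => ⟨(s3 w (OΦ w h.1)).1 h.2, Oa w h.1⟩, fun h =>
        ⟨ln a ha y hy ya.symm w h.1 h.2, (s3 w (sub a ha y hy ya.symm h.1)).2 h.1⟩⟩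
    have f2 : {w | w ∈ O ∧ t • w = w} = ∅ := by
      refine Set.eq_empty_of_forall_notMem fun w h => hn ?_
      obtain ⟨g, hg, g1, g2⟩ := h.1
      obtain ⟨k, hk, k1, k2⟩ := ln a ha y' hy' ya'.symm w ((t3 w (OΦ w h.1)).1 h.2) (Oa w h.1)
      exact ⟨k⁻¹ * g, mul_mem (inv_mem hk) hg, by rw [mul_smul, g1, inv_smul_eq_iff, k1],
        by rw [mul_smul, g2, inv_smul_eq_iff, k2]⟩
    rw [f1, Set.ncard_sdiff_singleton_of_mem l.mem.1, l.ln] at e1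
    rw [f2, Set.ncard_empty] at e2
    have := hp.eq_two_or_odd
    omega
  intro x hx y hy x' hx' y' hy' hxy hxy'
  have : ∃ g ∈ X, g • x = x' := by
    by_cases e : x = x'
    · exact ⟨1, one_mem _, by rw [one_smul, e]⟩
    have l := lf x x' e
    have : ∃ c ∈ Ln A x x', c ≠ x ∧ c ≠ x' := by
      by_contra hn
      push Not at hn
      have h1 : Ln A x x' ⊆ {x, x'} := fun c hc => by
        by_cases e' : c = x
        · exact Or.inl e'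
        · exact Or.inr (hn c hc e')
      have h2 := Set.ncard_le_ncard h1 (Set.toFinite _)
      rw [l.ln, Set.ncard_pair e] at h2
      have := hp.two_le
      omega
    obtain ⟨c, hc, c1, c2⟩ := this
    obtain ⟨g, hg, -, e⟩ := key c (sub x hx x' hx' e hc) x hx x' hx' c1.symm c2.symm
    exact ⟨g, hg, e⟩
  obtain ⟨g, hg, e⟩ := this
  obtain ⟨k, hk, k1, k2⟩ := key x' hx' (g • y) (inv g hg y hy) y' hy'
    (fun e' => hxy (smul_left_cancel g (e.trans e'.symm))) hxy'.symm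
  exact ⟨k * g, mul_mem hk hg, by rw [mul_smul, e, k1], by rw [mul_smul, k2]⟩

end Cfsg.Agent.H18.SpTr
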