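import Cfsg.Agent.H18.X9Code

/-!
# Project X9: the certificate checker
-/

set_option autoImplicit false

namespace Cfsg.Agent.H18.X9

noncomputable section

/-- evaluate `x` first -/
def frc (x : ℕ) (f : ℕ → Bool) : Bool := Nat.rec (f 0) (fun n _ => f (Nat.succ n)) x
/-- evaluate `x` first -/
def frn (x : ℕ) (f : ℕ → ℕ) : ℕ := Nat.rec (f 0) (fun n _ => f (Nat.succ n)) x
/-- all -/
def aL {α : Type} (l : List α) (f : α → Bool) : Bool :=
  List.rec true (fun a _ ih => and (f a) ih) l
/-- any -/
def eL {α : Type} (l : List α) (f : α → Bool) : Bool :=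
  List.rec false (fun a _ ih => or (f a) ih) l
/-- all, along two lists -/
def a2 {α β : Type} (l : List α) (f : α → β → Bool) : List β → Bool :=
  List.rec (fun _ => true) (fun a _ ih k => List.rec false (fun b k' _ => and (f a b) (ih k')) k) l
/-- entry of a list -/
def nth {α : Type} (o : α) (l : List α) : ℕ → α :=
  List.rec (fun _ => o) (fun a _ ih i => Nat.rec a (fun j _ => ih j) i) l
/-- membership -/
def el (x : ℕ) (l : List ℕ) : Bool := eL l (Nat.beq x)
/-- a word applied to a vector -/
def apw (gs : List ℕ) : ℕ → ℕ → ℕ :=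
  Nat.rec (motive := fun _ => ℕ → ℕ → ℕ) (fun _ x => x) (fun _ ih w x => cond (Nat.beq w 0) x
    (frn (ap (nth ID gs (Nat.pred (Nat.mod w 16))) x) fun y => frn (Nat.div w 16) fun v => ih v y))
    24
/-- the numbers below 8 -/
def R8 : List ℕ := [0, 1, 2, 3, 4, 5, 6, 7]
/-- the numbers below 16 -/
def R16 : List ℕ := [0, 1, 2, 3, 4, 5, 6, 7, 8, 9, 10, 11, 12, 13, 14, 15]
/-- conjugation -/
def cg (x x' g : ℕ) : ℕ := mul x (mul g x')

/-- inverse isometries -/
def isoB (x x' : ℕ) : Bool := and (and (Nat.beq (mul x x') ID) (Nat.beq (mul x' x) ID))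
  (aL R8 fun i => frc (col x i) fun c => and (Nat.beq (qN c) 0)
    (aL R8 fun j => Nat.beq (BN c (col x j)) (BN (Nat.pow 2 i) (Nat.pow 2 j))))

/-- transport of solids -/
def trU (x x' U U' : ℕ) : Bool := aL (List.range 256) fun a =>
  and (or (Nat.beq (bt U' a) 0) (Nat.beq (bt U (ap x a)) 1))
    (or (Nat.beq (bt U a) 0) (Nat.beq (bt U' (ap x' a)) 1))

/-- transport of groups -/
def trA (x x' : ℕ) (A A' : List ℕ) : Bool :=
  and (aL A fun g => frc (cg x' x g) fun h => el h A') (aL A' fun h => frc (cg x x' h) fun g => el g A)

/-- transport -/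
def trB (x x' U : ℕ) (A : List ℕ) (U' : ℕ) (A' : List ℕ) : Bool :=
  and (isoB x x') (and (trU x x' U U') (trA x x' A A'))

/-- the word `w` acts as `x * g * x⁻¹` -/
def wdB (gs : List ℕ) (x g w : ℕ) : Bool :=
  aL R8 fun i => Nat.beq (apw gs w (col x i)) (ap x (col g i))

/-- a solid is not transported -/
def cU (f : ℕ → ℕ) (s s' M M' p : ℕ) : Bool :=
  and (Nat.beq (f s) s') (and (Nat.beq (bt M p) 1) (Nat.beq (bt M' (f p)) 0))

/-- a group is not transported -/
def cA (f : ℕ → ℕ) (s s' : ℕ) (L L' : List ℕ) (p q : ℕ) : Bool :=
  and (Nat.beq (f s) s') (frc (f (ap (nth ID L p) q)) fun l => frc (f q) fun y =>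
    aL L' fun a => not (Nat.beq l (ap a y)))

/-- a certificate which does not use the group at the point `1` -/
def ck0 (gs : List ℕ) (U : ℕ) (A : List ℕ) (M c : ℕ) : Bool :=
  frc (Nat.mod c 8) fun k => frc (Nat.mod (Nat.div c 8) 256) fun p =>
  frc (Nat.mod (Nat.div c 2048) 256) fun q => frc (Nat.div c 524288) fun w =>
  cond (Nat.beq k 1) (cU (apw gs w) 16 16 U U p) (cond (Nat.beq k 3) (cU (apw gs w) 1 1 M M p)
    (cond (Nat.beq k 4) (cU (apw gs w) 16 1 U M p) (cA (apw gs w) 16 16 A A p q)))

/-- a survivor -/
structure Sv where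
  r : ℕ
  x : ℕ
  x' : ℕ
  ws : List ℕ

/-- nodes -/
inductive N2
  | lf (c : ℕ)
  | nd (l : List ℕ)
/-- nodes -/
inductive N1
  | lf (c : ℕ)
  | nd (l : List N2)
/-- nodes -/
inductive N0
  | lf (c : ℕ)
  | nd (l : List N1)

/-- a known point `16`, an unknown point `1` -/
structure Job where
  gs : List ℕ
  U : ℕ
  A : List ℕ
  tr : List N0
  sv : List Sv

/-- the models -/
def mm (r : ℕ) : MD := nth m9 [m0, m1, m2, m3, m4, m5, m6, m7, m8] r

/-- solids -/
def GI : List (ℕ × ℕ × ℕ) := [(9241421688590303745, 9241421688590303745, 65535), (594510406052217345, 594510406052217345,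
    86772003564839308183160524895100893921535), (9224533189991596545, 9224533189991596545,
    71112198404150321483535), (605219650582351361, 16926255902812800513, 385759287148188466341528439003227139601570253839537240990085135),
    (577621907453510145, 577621907453510145, 94156526030800211462641076851929073193762651939542684139535),
    (577621907521143297, 5225336722899862017, 385665130622157666130152569929940049836630763910896949521285135),
    (9241388703241478145, 9241388703241478145, 56294136361779), (594519202849884673, 12267981377684931073,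
    76399998091472950049097624630243694852513873684122675), (594477420703391745, 594477420703391745,
    74536583521230449541355788105162538981691781808179), (594486217501059073, 12267948392336105473,
    76325461508038491603121108150321692838483576932532275), (9224537588040599041, 9252188106453434881,
    3970519364402357278500455071138755), (594519203924150785, 16879667396120707585, 419361970407528202006045419678590355128425781492618604943566657426570435),
    (577626305502512641, 605276823915348481, 5257189600094374759960067942035183042924275654461051228095139870146755),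
    (577626305570145793, 5252991639361700353, 414104780807433827246085351736641944093036864510743071518867073521418435),
    (9224500204642770945, 9224500204642770945, 61084913312720243968763869790979), (9224504602691773441,
    9252155121104609281, 3909434451160749232992135659127555), (577630704251177473, 12251092879086223873,
    82901836001488217373095188927377890794910549959971554402862250957212675), (577630704318810625,
    16898807694532575745, 336460134406039984709350228842685414382612856162961857591622430474898435),
    (605186665233525761, 16926222917463974913, 331364704563100371145889975702863968410319570017760227133204711214166019),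
    (594486218575325185, 16879634410771881985, 87997266230187118008343910317254825721333351076428631649955481338785795),
    (577635102367813121, 16926462610994414081, 308550935874772405929348762045969430964068837218227633510203395),
    (577635102300179969, 12278747795548062209, 77208351349816058503652627010325852632147468752323936235077635),
    (577588922104684545, 577588922104684545, 80879840020283224594545592465579816146145986892065889902980681957379),
    (577588922172317697, 5225303737551036417, 331283824723080087921369966693919619043775864732286044026195892047446019),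
    (577593320153687041, 605243838566522881, 5176309760168248061470859144466702749606575220684750004218292760215555),
    (577593320221320193, 5252958654012874753, 82820956470018869946947587756309353425177566095009793417654721883144195),
    (577597718902351873, 12251059893737398273, 82820956161562090674531443546374952055677417959514859210463426507702275),
    (577597718969985025, 16898774709183750145, 5176310068625027410137928278918365268838126180548185521888101497044995),
    (577602117018987521, 16926429625645588481, 331283824645965893173910169909681352713767644466560507273931665736466435),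
    (577602116951354369, 12278714810199236609, 80879917134478048305267301221107303582468152682161930692463932997635)]

/-- generators -/
def GS0 : List (List ℕ) := [[9531904001994654465, 9385545947637154305, 9241989586362827265, 9241439281858478595, 9245925288754577925,
    10394343193199264265],
  [9531904001994654465, 9385545947637154305, 9241989586362827265, 9241439281859527235, 9245925288754577925,
    10394343193199264265],
  [9531904001994654465, 9385545947637154305, 9241989586362827265, 9241439282126918323, 9245925288754582053,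
    10394343193199264265],
  [9531904001994654465, 9385545947637154305, 9241989586362827265, 8509665915199707885, 17316393412923775743,
    9232449675596043489],
  [9531904001994654465, 9385545947637154305, 9241989586362827265, 7397791377663725251, 6935754601138096193,
    9268619208583939201],
  [9531905114391184129, 9385545947637154305, 9241989586362827265, 4647978768678965811, 1351673693814952059,
    9241650388124697091],
  [9604243122548900609, 9457603576034820609, 9241989586362827265, 10689346560975962639, 12700186202411895369,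
    9250428888113481345],
  [9604244234945430273, 9457885072486367745, 9314047219055460865, 9241439282126918323, 9245925289024066293,
    10394343193467699865],
  [9531905114391184129, 9385545947637154305, 9241989586362827265, 4647978768678965811, 267892694129411847],
  [9604244234945430273, 9457885072486367745, 9314047219055460865, 9241439282126918323, 9532492111866495491]]

/-- generators -/
def GS (r : ℕ) : List ℕ := nth [] GS0 r

/-- check of a survivor -/
def svB (R gs : List ℕ) (U : ℕ) (A : List ℕ) (s : Sv) : Bool :=
  and (and (el s.r R) (Nat.beq (ap s.x 1) 16)) (and (trB s.x s.x' U A 65535 (mm s.r).A)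
    (a2 (GS s.r) (wdB gs s.x) s.ws))

/-- a certificate at the last level -/
def ck3 (R : List ℕ) (J : Job) (gs : List ℕ) (M : ℕ) (B : List ℕ) (c : ℕ) : Bool :=
  frc (Nat.mod c 8) fun k => frc (Nat.mod (Nat.div c 8) 256) fun p =>
  frc (Nat.mod (Nat.div c 2048) 256) fun q => frc (Nat.div c 524288) fun w =>
  cond (Nat.beq k 5) (cA (apw gs w) 1 1 B B p q) (cond (Nat.beq k 6) (cA (apw gs w) 16 1 J.A B p q)
    (cond (Nat.beq k 0) (svB R gs J.U J.A (nth ⟨0, 0, 0, []⟩ J.sv p)) (ck0 gs J.U J.A M c)))

/-- a generator of the group at the point `1` -/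
def gm (g g' b f : ℕ) : ℕ := cg g g' (Dm (b + 2 * f))

/-- level two -/
def n2B (R : List ℕ) (J : Job) (g g' M a b : ℕ) (n : N2) : Bool :=
  N2.rec (fun c => ck0 (J.gs ++ [a, b]) J.U J.A M c) (fun l => a2 R8 (fun f c =>
    frc (gm g g' 128 f) fun x => ck3 R J (J.gs ++ [a, b, x]) M (pr3 a b x) c) l) n

/-- level one -/
def n1B (R : List ℕ) (J : Job) (g g' M a : ℕ) (n : N1) : Bool :=
  N1.rec (fun c => ck0 (J.gs ++ [a]) J.U J.A M c) (fun l => a2 R8 (fun f n =>
    frc (gm g g' 64 f) fun x => n2B R J g g' M a x n) l) n

/-- level zero -/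
def n0B (R : List ℕ) (J : Job) (g g' M : ℕ) (n : N0) : Bool :=
  N0.rec (fun c => ck0 J.gs J.U J.A M c) (fun l => a2 R8 (fun f n =>
    frc (gm g g' 32 f) fun x => n1B R J g g' M x n) l) n

/-- check of a job -/
def Job.ok (R : List ℕ) (J : Job) : Bool := a2 GI (fun t n => n0B R J t.1 t.2.1 t.2.2 n) J.tr

/-- the singular vectors orthogonal to `1` and `16` -/
def L35 : List ℕ := [0, 2, 4, 6, 8, 10, 12, 14, 32, 36, 40, 44, 64, 66, 72, 74, 96, 102, 104, 110,
  128, 130, 132, 134, 160, 164, 170, 174, 192, 194, 204, 206, 224, 230, 234, 236]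

/-- check of the list of solids -/
def giB : Bool := and (aL GI fun t => and (and (isoB t.1 t.2.1) (Nat.beq (ap t.2.1 1) 1))
    (trU t.2.1 t.1 65535 t.2.2))
  (aL L35 fun a => aL L35 fun b => or (Nat.beq (BN a b) 1) (aL L35 fun c =>
    or (or (Nat.beq (BN a c) 1) (Nat.beq (BN b c) 1)) (eL GI fun t =>
      and (Nat.beq (bt t.2.2 a) 1) (and (Nat.beq (bt t.2.2 b) 1) (Nat.beq (bt t.2.2 c) 1)))))

/-- the reduction of the normal forms to the jobs `J` -/
def phB (J : List Job) (o : Job) (L : List (ℕ × ℕ × ℕ)) : Bool :=
  a2 (List.range 512) (fun n t => and (and (Nat.beq (ap t.2.1 1) 16) (Nat.beq (ap t.2.1 16) 1))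
    (trB t.2.1 t.2.2 65535 (AL (Nat.mod n 8) (Nat.mod (Nat.div n 8) 8) (Nat.div n 64))
      (nth o J t.1).U (nth o J t.1).A)) L

/-- the data for a model -/
structure Ext where
  jobs : List (ℕ × ℕ × Job)
  ow : List ℕ
  wT : List ℕ
  wK : List ℕ
  t : ℕ

/-- the jobs of a model -/
def exJ (R : List ℕ) (r : ℕ) (E : Ext) : Bool := aL E.jobs fun j =>
  and (and (Nat.beq (ap j.1 16) 1) (trB j.1 j.2.1 65535 (mm r).A j.2.2.U j.2.2.A))
    (and (aL j.2.2.gs fun g => frc (cg j.1 j.2.1 g) fun h => el h (GS r)) (j.2.2.ok R))

/-- the words of a model -/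
def exW (r : ℕ) (E : Ext) : Bool :=
  and (a2 (List.range 256) (fun a w => or (or (Nat.beq (qN a) 1) (Nat.beq a 0)) (or (el a (mm r).P)
      (frc (apw (GS r) w a) fun k => eL E.jobs fun j => Nat.beq (ap j.1 1) k))) E.ow)
    (and (a2 (mm r).T (wdB (GS r) ID) E.wT) (a2 (mm r).K (wdB (GS r) ID) E.wK))

/-- the part of `g y` which comes from the first five columns -/
def ap5 (a b c d y : ℕ) : ℕ := Nat.xor (Nat.xor (Nat.xor (bt y 0) (Nat.mul (bt y 1) a))
  (Nat.xor (Nat.mul (bt y 2) b) (Nat.mul (bt y 3) c))) (Nat.mul (bt y 4) d)

/-- one of the last three columns -/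
def cnd (A : List ℕ) (a b c d y i j k : ℕ) (f : ℕ → Bool) : Bool :=
  frc (ap5 a b c d y) fun o => aL A fun g => frc (Nat.xor (ap g d) o) fun v =>
    cond (Nat.beq (BN v a) i) (cond (Nat.beq (BN v b) j) (cond (Nat.beq (BN v c) k) (f v) true) true)
      true

/-- orthogonal to four vectors -/
def or4 (x a b c d : ℕ) : Bool :=
  and (and (Nat.beq (BN x a) 0) (Nat.beq (BN x b) 0)) (and (Nat.beq (BN x c) 0) (Nat.beq (BN x d) 0))

/-- the final tests -/
def fin (m : MD) (g T w u₁ u₂ u₃ x₁ x₂ x₃ t₁ t₂ t₃ d : ℕ) : Bool :=
  cond (frc (ap g u₁) fun x => or4 x t₁ t₂ t₃ d) (cond (frc (ap g u₂) fun x => or4 x t₁ t₂ t₃ d)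
    (cond (frc (ap g u₃) fun x => or4 x t₁ t₂ t₃ d)
    (cond (frc (ap g x₁) fun x => eL m.A fun a => Nat.beq x (ap T (ap a w)))
    (cond (frc (ap g x₂) fun x => eL m.A fun a => Nat.beq x (ap T (ap a w)))
    (cond (frc (ap g x₃) fun x => eL m.A fun a => Nat.beq x (ap T (ap a w)))
      (el g m.S) true) true) true) true) true) true

/-- the loop over the matrices -/
def exL (m : MD) (l : List ℕ) (y₁ y₂ y₃ u₁ u₂ u₃ x₁ x₂ x₃ : ℕ) : Bool :=
  aL l fun T => frc (ap T 1) fun d => or (Nat.beq (BN d 1) 0)
    (frc (ap T 2) fun t₁ => frc (ap T 4) fun t₂ => frc (ap T 8) fun t₃ =>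
    aL (List.range 256) fun w => cond (Nat.beq (ap T w) 1)
    (aL R16 fun a => or (Nat.beq (BN a d) 1) (aL R16 fun b => or (Nat.beq (BN b d) 1)
      (aL R16 fun c => or (Nat.beq (BN c d) 1)
        (cnd m.A a b c d y₁ 1 0 0 fun v₁ => cnd m.A a b c d y₂ 0 1 0 fun v₂ =>
          cnd m.A a b c d y₃ 0 0 1 fun v₃ => frc (mk8 1 a b c d v₁ v₂ v₃) fun g =>
            fin m g T w u₁ u₂ u₃ x₁ x₂ x₃ t₁ t₂ t₃ d)))) true)

/-- the stabiliser of the point `1` -/
def exS (m : MD) (t : ℕ) (l : List ℕ) : Bool :=
  frc (nth ID m.A 1) fun a₁ => frc (nth ID m.A 2) fun a₂ => frc (nth ID m.A 4) fun a₃ =>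
  frc (ap a₁ 16) fun y₁ => frc (ap a₂ 16) fun y₂ => frc (ap a₃ 16) fun y₃ =>
  frc (ap t 2) fun u₁ => frc (ap t 4) fun u₂ => frc (ap t 8) fun u₃ =>
  and (and (and (el t m.T) (Nat.beq (ap t 1) 16)) (and (Nat.beq (Nat.div y₁ 32) 1)
    (and (Nat.beq (Nat.div y₂ 32) 2) (Nat.beq (Nat.div y₃ 32) 4))))
  (aL (List.range 256) fun w => cond (Nat.beq (ap t w) 1)
    (frc (ap t (ap a₁ w)) fun x₁ => frc (ap t (ap a₂ w)) fun x₂ => frc (ap t (ap a₃ w)) fun x₃ =>
      exL m l y₁ y₂ y₃ u₁ u₂ u₃ x₁ x₂ x₃) true)

end

end Cfsg.Agent.H18.X9
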